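import Groth.Agent.Lib.ProjQ.Invertible

/-!
# `G(u)` for the symmetric algebra of an invertible module; dominance
-/

set_option autoImplicit false
universe u

open CategoryTheory CategoryTheory.Limits AlgebraicGeometry TopologicalSpace Opposite HomogeneousLocalization
open scoped HomogeneousIdeal

noncomputable section

namespace Groth.Agent.Lib.ProjQ

section ring

variable {A σ : Type u} [CommRing A] [SetLike σ A] [AddSubgroupClass σ A] {𝒜 : ℕ → σ} [GradedRing 𝒜]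

theorem basicOpen_eq_bot_iff {d : ℕ} (hd : 0 < d) {f : A} (hf : f ∈ 𝒜 d) :
    Proj.basicOpen 𝒜 f = ⊥ ↔ IsNilpotent f := by
  constructor
  · intro h
    by_contra hn
    haveI : Nontrivial (Away 𝒜 f) := by
      refine ⟨1, 0, fun e => hn ?_⟩
      have h' := congrArg HomogeneousLocalization.val e
      rw [val_one, val_zero, ← Localization.mk_one, Localization.mk_eq_mk',
        IsLocalization.mk'_eq_zero_iff] at h'
      obtain ⟨⟨_, k, rfl⟩, hk⟩ := h'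
      exact ⟨k, by simpa using hk⟩
    obtain ⟨z⟩ : Nonempty (PrimeSpectrum (Away 𝒜 f)) := inferInstance
    exact h.le ((Proj.opensRange_awayι 𝒜 f hf hd).le ⟨z, rfl⟩)
  · rintro ⟨k, hk⟩
    refine le_bot_iff.1 fun w hw => hw (w.isPrime.mem_of_pow_mem k ?_)
    rw [hk]
    exact zero_mem _

/-- Standard opens of positive degree form a basis. -/
theorem exists_basicOpen_le (O : (Proj 𝒜).Opens) {w : Proj 𝒜} (hw : w ∈ O) :
    ∃ (d : ℕ) (f : A), 0 < d ∧ f ∈ 𝒜 d ∧ w ∈ Proj.basicOpen 𝒜 f ∧ Proj.basicOpen 𝒜 f ≤ O := by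
  classical
  obtain ⟨_, ⟨g, rfl⟩, hwg, hgO⟩ := Opens.isBasis_iff_nbhd.1 (Proj.isBasis_basicOpen 𝒜) hw
  have hwg' : w ∈ Proj.basicOpen 𝒜 g := hwg
  rw [Proj.basicOpen_eq_iSup_proj] at hwg'
  obtain ⟨i, hi⟩ := Opens.mem_iSup.1 hwg'
  obtain ⟨m, e, hm, he, hew⟩ := exists_deg_notMem w
  refine ⟨i + m, GradedRing.proj 𝒜 i g * e, Nat.add_pos_right _ hm,
    SetLike.mul_mem_graded (SetLike.coe_mem _) he, ?_, ?_⟩
  · rw [Proj.basicOpen_mul]; exact ⟨hi, hew⟩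
  · refine le_trans ?_ hgO
    rw [Proj.basicOpen_mul, Proj.basicOpen_eq_iSup_proj 𝒜 g]
    exact inf_le_left.trans (le_iSup (fun i => Proj.basicOpen 𝒜 (GradedRing.proj 𝒜 i g)) i)

end ring

variable {S S' P P' : Scheme.{u}} {g : S' ⟶ S} {𝒮 : RelProj.QCGrAlg S} {𝒮' : RelProj.QCGrAlg S'}
  {u : RelProj.QGrHom g 𝒮 𝒮'} {p : P ⟶ S}
  {chart : ∀ (U : S.Opens) (hU : IsAffineOpen U), ((p ⁻¹ᵁ U : P.Opens) : Scheme.{u}) ≅ Proj (𝒮.deg U hU)}
  {p' : P' ⟶ S'}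
  {chart' : ∀ (U' : S'.Opens) (hU' : IsAffineOpen U'),
    ((p' ⁻¹ᵁ U' : P'.Opens) : Scheme.{u}) ≅ Proj (𝒮'.deg U' hU')}

/-- Inverse image of a standard open. -/
theorem mem_image_preimage_iff (hP : RelProj.IsRelProj 𝒮 p chart) (hP' : RelProj.IsRelProj 𝒮' p' chart')
    {r : (RelProj.domQ u p' chart' : Scheme.{u}) ⟶ P}
    (hr : RelProj.IsProjQMapOn u p chart p' chart' (RelProj.domQ u p' chart') r)
    (U : S.Opens) (hU : IsAffineOpen U) {d : ℕ} (hd : 0 < d) (f : 𝒮.presheaf.obj (op U))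
    (hf : f ∈ 𝒮.deg U hU d) (x : P') :
    x ∈ (RelProj.domQ u p' chart').ι ''ᵁ (r ⁻¹ᵁ ((RelProj.emb p chart U hU) ''ᵁ Proj.basicOpen (𝒮.deg U hU) f)) ↔
      ∃ (U' : S'.Opens) (hU' : IsAffineOpen U') (hle : U' ≤ g ⁻¹ᵁ U),
        x ∈ (RelProj.emb p' chart' U' hU') ''ᵁ Proj.basicOpen (𝒮'.deg U' hU') (u.gradedAt U hU U' hU' hle f) := by
  constructor
  · rintro ⟨y, hy, rfl⟩
    have hy1 : g (p' y.1) ∈ U := by
      rw [show g (p' y.1) = p (r y) from (congr($(over hP hP' hr) y)).symm]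
      obtain ⟨w, -, hw⟩ := hy
      rw [← hw]
      exact (opensRange_emb (p := p) (chart := chart) U hU).le ⟨w, rfl⟩
    obtain ⟨U', hU', hyU', hsub⟩ := exists_isAffineOpen_mem_and_subset (X := S') (x := p' y.1) (U := g ⁻¹ᵁ U) hy1
    exact ⟨U', hU', hsub, (mem_preimage_iff hP hP' hr U hU U' hU' hsub hd f hf y hyU').1 hy⟩
  · rintro ⟨U', hU', hle, hx⟩
    have hd' : x ∈ RelProj.domQ u p' chart' :=
      mem_domQ.2 ⟨⟨U, hU, U', hU', hle, d, hd, f, hf⟩, (Idx.opensRange_e p' chart' _).ge hx⟩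
    have hy : p' x ∈ U' := by
      obtain ⟨w, -, rfl⟩ := hx
      exact (opensRange_emb (p := p') (chart := chart') U' hU').le ⟨w, rfl⟩
    exact ⟨⟨x, hd'⟩, (mem_preimage_iff hP hP' hr U hU U' hU' hle hd f hf ⟨x, hd'⟩ hy).2 hx, rfl⟩

/-- Dominance, read on standard opens. -/
theorem isDominant_iff (hP : RelProj.IsRelProj 𝒮 p chart) (hP' : RelProj.IsRelProj 𝒮' p' chart')
    {r : (RelProj.domQ u p' chart' : Scheme.{u}) ⟶ P}
    (hr : RelProj.IsProjQMapOn u p chart p' chart' (RelProj.domQ u p' chart') r) :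
    IsDominant r ↔ ∀ (U : S.Opens) (hU : IsAffineOpen U) (d : ℕ), 0 < d → ∀ f ∈ 𝒮.deg U hU d,
      ¬ IsNilpotent f → ∃ (U' : S'.Opens) (hU' : IsAffineOpen U') (hle : U' ≤ g ⁻¹ᵁ U),
        ¬ IsNilpotent (u.gradedAt U hU U' hU' hle f) := by
  constructor
  · intro hdom U hU d hd f hf hn
    obtain ⟨w, hw⟩ : ((Proj.basicOpen (𝒮.deg U hU) f : Set (Proj (𝒮.deg U hU)))).Nonempty :=
      Set.nonempty_iff_ne_empty.2 fun h => hn ((basicOpen_eq_bot_iff hd hf).1 (Opens.ext h))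
    obtain ⟨y, hy⟩ := hdom.denseRange.exists_mem_open
      ((RelProj.emb p chart U hU) ''ᵁ Proj.basicOpen (𝒮.deg U hU) f).2 ⟨_, w, hw, rfl⟩
    obtain ⟨U', hU', hle, v, hv, -⟩ := (mem_image_preimage_iff hP hP' hr U hU hd f hf y.1).1 ⟨y, hy, rfl⟩
    exact ⟨U', hU', hle, fun h => ((basicOpen_eq_bot_iff hd ((u.gradedAt U hU U' hU' hle).map_mem hf)).2 h).le hv⟩
  · intro h
    refine ⟨dense_iff_inter_open.2 fun O hO ⟨x, hx⟩ => ?_⟩
    obtain ⟨U, hU, hxU, -⟩ := exists_isAffineOpen_mem_and_subset (X := S) (U := ⊤) (x := p x) trivial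
    obtain ⟨w, rfl⟩ := (opensRange_emb (p := p) (chart := chart) U hU).ge hxU
    obtain ⟨d, f, hd, hf, hwf, hfO⟩ :=
      exists_basicOpen_le (RelProj.emb p chart U hU ⁻¹ᵁ ⟨O, hO⟩) (w := w) hx
    obtain ⟨U', hU', hle, hn⟩ := h U hU d hd f hf fun h => ((basicOpen_eq_bot_iff hd hf).2 h).le hwf
    obtain ⟨v, hv⟩ : ((Proj.basicOpen (𝒮'.deg U' hU') (u.gradedAt U hU U' hU' hle f) :
        Set (Proj (𝒮'.deg U' hU')))).Nonempty :=
      Set.nonempty_iff_ne_empty.2 fun h =>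
        hn ((basicOpen_eq_bot_iff hd ((u.gradedAt U hU U' hU' hle).map_mem hf)).1 (Opens.ext h))
    obtain ⟨y, hy, -⟩ := (mem_image_preimage_iff hP hP' hr U hU hd f hf _).2 ⟨U', hU', hle, v, hv, rfl⟩
    obtain ⟨t, ht, hty⟩ := hy
    exact ⟨r y, hty ▸ hfO ht, y, rfl⟩

end Groth.Agent.Lib.ProjQ
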