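import Groth.Agent.Lib.ProjQ.Props
import Mathlib.AlgebraicGeometry.Morphisms.Immersion

/-!
# Composition with `Proj` of a homomorphism on one base
-/

set_option autoImplicit false
universe u

open CategoryTheory CategoryTheory.Limits AlgebraicGeometry TopologicalSpace Opposite HomogeneousLocalization
open scoped HomogeneousIdeal

noncomputable section

namespace Groth.Agent.Lib.ProjQ

variable {S S' P P' Q : Scheme.{u}} {g : S' ⟶ S} {𝒮 : RelProj.QCGrAlg S} {𝒯 : RelProj.QCGrAlg S}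
  {𝒮' : RelProj.QCGrAlg S'}
  {u : RelProj.QGrHom g 𝒮 𝒮'} {v : 𝒯.toQCAlg ⟶ 𝒮.toQCAlg} {hv : RelProj.IsGradedHom v}
  {u' : RelProj.QGrHom g 𝒯 𝒮'}
  {p : P ⟶ S}
  {chart : ∀ (U : S.Opens) (hU : IsAffineOpen U), ((p ⁻¹ᵁ U : P.Opens) : Scheme.{u}) ≅ Proj (𝒮.deg U hU)}
  {p' : P' ⟶ S}
  {chart' : ∀ (U : S.Opens) (hU : IsAffineOpen U), ((p' ⁻¹ᵁ U : P'.Opens) : Scheme.{u}) ≅ Proj (𝒯.deg U hU)}
  {pQ : Q ⟶ S'}
  {chartQ : ∀ (U' : S'.Opens) (hU' : IsAffineOpen U'),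
    ((pQ ⁻¹ᵁ U' : Q.Opens) : Scheme.{u}) ≅ Proj (𝒮'.deg U' hU')}

theorem gradedAt_comp (hu' : ∀ U : S.Opens, u'.app U = v.hom.app (op U) ≫ u.app U)
    (U : S.Opens) (hU : IsAffineOpen U) (U' : S'.Opens) (hU' : IsAffineOpen U') (hle : U' ≤ g ⁻¹ᵁ U) :
    u'.gradedAt U hU U' hU' hle =
      (u.gradedAt U hU U' hU' hle).comp ((RelProj.QGrHom.ofHom v hv).gradedAt U hU U hU le_rfl) := by
  rw [gradedAt_ofHom v hv U hU]
  refine GradedRingHom.ext fun a => ?_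
  change (u'.appLE U U' hle).hom a = (u.appLE U U' hle).hom ((v.hom.app (op U)).hom a)
  rw [RelSpec.QHom.appLE_eq, RelSpec.QHom.appLE_eq, hu' U]
  rfl

/-- `Proj(v) ∘ Proj(u) = Proj(u ∘ v)` on `G(u ∘ v)`. -/
theorem exists_comp (hu' : ∀ U : S.Opens, u'.app U = v.hom.app (op U) ≫ u.app U)
    (hle : RelProj.domQ u' pQ chartQ ≤ RelProj.domQ u pQ chartQ)
    {r : (RelProj.domQ u pQ chartQ : Scheme.{u}) ⟶ P}
    (hr : RelProj.IsProjQMapOn u p chart pQ chartQ (RelProj.domQ u pQ chartQ) r)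
    {r' : (RelProj.domQ u' pQ chartQ : Scheme.{u}) ⟶ P'}
    (hr' : RelProj.IsProjQMapOn u' p' chart' pQ chartQ (RelProj.domQ u' pQ chartQ) r')
    {rv : (RelProj.domQ (RelProj.QGrHom.ofHom v hv) p chart : Scheme.{u}) ⟶ P'}
    (hrv : RelProj.IsProjQMapOn (RelProj.QGrHom.ofHom v hv) p' chart' p chart
      (RelProj.domQ (RelProj.QGrHom.ofHom v hv) p chart) rv) :
    ∃ k : (RelProj.domQ u' pQ chartQ : Scheme.{u}) ⟶ (RelProj.domQ (RelProj.QGrHom.ofHom v hv) p chart : Scheme.{u}),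
      k ≫ (RelProj.domQ (RelProj.QGrHom.ofHom v hv) p chart).ι = Q.homOfLE hle ≫ r ∧ k ≫ rv = r' := by
  let G := RelProj.domQ (RelProj.QGrHom.ofHom v hv) p chart
  -- the chart of `u` at `v a` composed with `homOfLE`
  have hchart : ∀ (U : S.Opens) (hU : IsAffineOpen U) (U' : S'.Opens) (hU' : IsAffineOpen U') (hl : U' ≤ g ⁻¹ᵁ U)
      (d : ℕ) (hd : 0 < d) (a : 𝒯.presheaf.obj (op U)) (ha : a ∈ 𝒯.deg U hU d)
      (ψ : 𝒯.deg U hU →+*ᵍ 𝒮'.deg U' hU'),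
      ψ = (u.gradedAt U hU U' hU' hl).comp ((RelProj.QGrHom.ofHom v hv).gradedAt U hU U hU le_rfl) →
      ∀ l : Spec (CommRingCat.of (Away (𝒮'.deg U' hU') (ψ a))) ⟶ (RelProj.domQ u' pQ chartQ : Scheme.{u}),
        l ≫ (RelProj.domQ u' pQ chartQ).ι = std pQ chartQ U' hU' hd (ψ a) (ψ.map_mem ha) →
        ∃ m : Spec (CommRingCat.of (Away (𝒮'.deg U' hU') (ψ a))) ⟶ (G : Scheme.{u}),
          l ≫ Q.homOfLE hle ≫ r = m ≫ G.ι ∧
          m ≫ rv = Spec.map (CommRingCat.ofHom (Away.map ψ a)) ≫ std p' chart' U hU hd a ha := by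
    intro U hU U' hU' hl d hd a ha ψ hψ l hlι
    subst hψ
    let w := (RelProj.QGrHom.ofHom v hv).gradedAt U hU U hU le_rfl
    let i : Idx (g := g) (𝒮 := 𝒮) := ⟨U, hU, U', hU', hl, d, hd, w a, w.map_mem ha⟩
    let iv : Idx (g := 𝟙 S) (𝒮 := 𝒯) := ⟨U, hU, U, hU, le_rfl, d, hd, a, ha⟩
    have h1 : l ≫ Q.homOfLE hle = lift (u := u) pQ chartQ i := by
      refine (cancel_mono (RelProj.domQ u pQ chartQ).ι).1 ?_
      rw [Category.assoc, Scheme.homOfLE_ι]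
      exact hlι.trans (lift_ι (u := u) (p' := pQ) (chart' := chartQ) i).symm
    refine ⟨Spec.map (CommRingCat.ofHom (Away.map (u.gradedAt U hU U' hU' hl) (w a))) ≫
      lift (u := RelProj.QGrHom.ofHom v hv) p chart iv, ?_, ?_⟩
    · refine ((Category.assoc _ _ _).symm.trans ((h1 =≫ r).trans ((isProjQMapOn_iff r).1 hr i))).trans ?_
      refine Eq.trans ?_ (Category.assoc _ _ _).symm
      exact (congrArg (Spec.map (CommRingCat.ofHom (Away.map (u.gradedAt U hU U' hU' hl) (w a))) ≫ ·)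
        (lift_ι (u := RelProj.QGrHom.ofHom v hv) (p' := p) (chart' := chart) iv)).symm
    · refine (Category.assoc _ _ _).trans ?_
      refine (congrArg (Spec.map (CommRingCat.ofHom (Away.map (u.gradedAt U hU U' hU' hl) (w a))) ≫ ·)
        ((isProjQMapOn_iff rv).1 hrv iv)).trans ?_
      rw [Away.map_comp, Idx.c, ← Spec.map_comp_assoc]
      rfl
  have hrange : Set.range (Q.homOfLE hle ≫ r) ⊆ Set.range G.ι := by
    rintro _ ⟨x, rfl⟩
    obtain ⟨i, z, hz⟩ := exists_lift (u := u') (p' := pQ) (chart' := chartQ) x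
    obtain ⟨m, hm, -⟩ := hchart i.U i.hU i.U' i.hU' i.hle i.d i.hd i.f i.hf (i.φ u') (gradedAt_comp hu' _ _ _ _ _)
      (lift (u := u') pQ chartQ i) (lift_ι i)
    refine ⟨m z, ?_⟩
    rw [← hz]
    exact (congr($hm z)).symm
  refine ⟨IsOpenImmersion.lift G.ι (Q.homOfLE hle ≫ r) hrange, IsOpenImmersion.lift_fac _ _ _,
    hom_ext fun i => ?_⟩
  obtain ⟨m, hm1, hm2⟩ := hchart i.U i.hU i.U' i.hU' i.hle i.d i.hd i.f i.hf (i.φ u') (gradedAt_comp hu' _ _ _ _ _)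
    (lift (u := u') pQ chartQ i) (lift_ι i)
  rw [(isProjQMapOn_iff r').1 hr' i, ← Category.assoc]
  refine Eq.trans ?_ hm2
  congr 1
  rw [← cancel_mono G.ι, Category.assoc, IsOpenImmersion.lift_fac]
  exact hm1

theorem isIso_homOfLE {A : Scheme.{u}} {U V : A.Opens} (h : U ≤ V) (hU : U = ⊤) : IsIso (A.homOfLE h) := by
  have : Epi (A.homOfLE h).base := (TopCat.epi_iff_surjective _).2 fun x =>
    ⟨⟨x.1, hU.ge (Set.mem_univ _)⟩, V.ι.isOpenEmbedding.injective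
      (congr($(A.homOfLE_ι h) (⟨x.1, hU.ge (Set.mem_univ _)⟩ : (U : Scheme.{u}))))⟩
  exact IsOpenImmersion.isIso _

end Groth.Agent.Lib.ProjQ
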