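import Groth.Agent.Lib.ProjQ.Immersion
import Groth.Agent.S12145
import Mathlib.AlgebraicGeometry.Morphisms.Immersion

/-!
# From local to global immersion criteria
-/

set_option autoImplicit false
universe u

open CategoryTheory CategoryTheory.Limits AlgebraicGeometry TopologicalSpace Opposite HomogeneousLocalization
open scoped HomogeneousIdeal

noncomputable section

namespace Groth.Agent.Lib.ProjQ

theorem isIso_restrict_of_le_opensRange {A B : Scheme.{u}} (f : A ⟶ B) [IsOpenImmersion f] {D : B.Opens}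
    (h : D ≤ f.opensRange) : IsIso (f ∣_ D) := by
  have hs : Function.Surjective (f ∣_ D) := fun x => by
    obtain ⟨y, hy⟩ := h x.2
    refine ⟨⟨y, show f y ∈ D from hy ▸ x.2⟩, D.ι.isOpenEmbedding.injective ?_⟩
    exact (congr($(morphismRestrict_ι f D) _)).trans hy
  have : Epi (f ∣_ D).base := (TopCat.epi_iff_surjective _).2 hs
  exact IsOpenImmersion.isIso _

theorem isClosedImmersion_restrict_of_le {A B : Scheme.{u}} (f : A ⟶ B) [IsImmersion f] {D : B.Opens}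
    (h : D ≤ f.coborderRange) : IsClosedImmersion (f ∣_ D) := by
  have : IsIso (f.coborderRange.ι ∣_ D) :=
    isIso_restrict_of_le_opensRange _ (h.trans (Scheme.Opens.opensRange_ι _).ge)
  have h1 : IsClosedImmersion ((f.liftCoborder ≫ f.coborderRange.ι) ∣_ D) := by
    rw [morphismRestrict_comp]
    exact MorphismProperty.comp_mem @IsClosedImmersion _ _
      (IsZariskiLocalAtTarget.restrict (P := @IsClosedImmersion) inferInstance _) inferInstance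
  rwa [f.liftCoborder_ι] at h1

theorem of_restrict_cover (Q : MorphismProperty Scheme.{u}) [IsZariskiLocalAtTarget Q]
    [Q.IsStableUnderComposition] (hQ : ∀ {A B : Scheme.{u}} (f : A ⟶ B) [IsOpenImmersion f], Q f)
    {A B : Scheme.{u}} (r : A ⟶ B) {ι : Type u} (D : ι → B.Opens)
    (hcov : r ⁻¹ᵁ (⨆ a, D a) = ⊤) (H : ∀ a, Q (r ∣_ D a)) : Q r := by
  let W : B.Opens := ⨆ a, D a
  have h1 : Q (r ∣_ W) := by
    refine IsZariskiLocalAtTarget.of_iSup_eq_top (P := Q) (fun a => W.ι ⁻¹ᵁ D a) ?_ fun a => ?_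
    · rw [← Scheme.Hom.preimage_iSup]
      exact top_le_iff.1 fun x _ => x.2
    · rw [Q.arrow_mk_iso_iff (morphismRestrictRestrict r W (W.ι ⁻¹ᵁ D a)),
        Q.arrow_mk_iso_iff (morphismRestrictEq r (show W.ι ''ᵁ (W.ι ⁻¹ᵁ D a) = D a by
          rw [W.ι.image_preimage_eq_opensRange_inf, Scheme.Opens.opensRange_ι]
          exact inf_of_le_right (le_iSup D a)))]
      exact H a
  haveI : Epi ((r ⁻¹ᵁ W).ι).base :=
    (TopCat.epi_iff_surjective _).2 fun x => ⟨⟨x, hcov.ge (Set.mem_univ x)⟩, rfl⟩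
  haveI : IsIso (r ⁻¹ᵁ W).ι := IsOpenImmersion.isIso _
  have e : r = inv (r ⁻¹ᵁ W).ι ≫ r ∣_ W ≫ W.ι := by
    rw [morphismRestrict_ι, IsIso.inv_hom_id_assoc]
  rw [e]
  exact MorphismProperty.comp_mem _ _ _ (hQ _) (MorphismProperty.comp_mem _ _ _ h1 (hQ _))

variable {Y X P PL : Scheme.{u}} {q : X ⟶ Y} {L : X.Modules}
  {𝒮 : RelProj.QCGrAlg Y} {𝒮L : RelProj.QCGrAlg X} {j : L ⟶ 𝒮L.toModule}
  {u : RelProj.QGrHom q 𝒮 𝒮L} {p : P ⟶ Y}
  {chart : ∀ (U : Y.Opens) (hU : IsAffineOpen U), ((p ⁻¹ᵁ U : P.Opens) : Scheme.{u}) ≅ Proj (𝒮.deg U hU)}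
  {pL : PL ⟶ X}
  {chartL : ∀ (U : X.Opens) (hU : IsAffineOpen U), ((pL ⁻¹ᵁ U : PL.Opens) : Scheme.{u}) ≅ Proj (𝒮L.deg U hU)}
  (hL : PicF.IsInvertible L) (hLq : Coh.IsQCoh L) (hj : RelProj.IsGrSymAlg L 𝒮L j)
  (hP : RelProj.IsRelProj 𝒮 p chart) (hPL : RelProj.IsRelProj 𝒮L pL chartL)
  {r : (RelProj.domQ u pL chartL : Scheme.{u}) ⟶ P}
  (hr : RelProj.IsProjQMapOn u p chart pL chartL (RelProj.domQ u pL chartL) r)
  (hY : IsAffineOpen (⊤ : Y.Opens))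

/-- Any open of `P` around a point contains a standard open of positive degree at that point. -/
theorem exists_std_le {y : P} {O : P.Opens} (hy : y ∈ O) (hY : IsAffineOpen (⊤ : Y.Opens)) :
    ∃ (n : ℕ) (s : 𝒮.presheaf.obj (op ⊤)) (hn : 0 < n) (hs : s ∈ 𝒮.deg ⊤ hY n),
      y ∈ (std p chart ⊤ hY hn s hs).opensRange ∧ (std p chart ⊤ hY hn s hs).opensRange ≤ O := by
  obtain ⟨w, rfl⟩ := (opensRange_emb (p := p) (chart := chart) ⊤ hY).ge (show y ∈ p ⁻¹ᵁ ⊤ from trivial)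
  obtain ⟨n, s, hn, hs, hws, hle⟩ := exists_basicOpen_le (RelProj.emb p chart ⊤ hY ⁻¹ᵁ O) (w := w) hy
  refine ⟨n, s, hn, hs, (opensRange_std ⊤ hY hn s hs).ge ⟨w, hws, rfl⟩, fun z hz => ?_⟩
  obtain ⟨t, ht, rfl⟩ := (opensRange_std (p := p) (chart := chart) ⊤ hY hn s hs).le hz
  exact hle ht

include hL hLq hj hPL in
theorem domQ_eq_top_of_locus {ι : Type u} (n : ι → ℕ) (s : ι → 𝒮.presheaf.obj (op ⊤)) (hn : ∀ a, 0 < n a)
    (hs : ∀ a, s a ∈ 𝒮.deg ⊤ hY (n a)) (hcov : ⨆ a, locus u (n a) (s a) = ⊤) (hP : RelProj.IsRelProj 𝒮 p chart) :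
    RelProj.domQ u pL chartL = ⊤ := by
  refine (S12145.result q L hL hLq 𝒮 𝒮L j hj u p chart hP pL chartL hPL hY).2 fun x => ?_
  obtain ⟨a, ha⟩ := Opens.mem_iSup.1 (hcov.ge (Set.mem_univ x))
  obtain ⟨⟨⟨V, hV⟩, hsub⟩, hxV⟩ := Opens.mem_iSup.1 ha
  exact ⟨n a, hn a, s a, hs a, V, hV, hxV, hsub⟩

include hL hLq hj hP hPL hr in
theorem iSup_locus_eq_top (htop : RelProj.domQ u pL chartL = ⊤) {ι : Type u} (n : ι → ℕ)
    (s : ι → 𝒮.presheaf.obj (op ⊤)) (hn : ∀ a, 0 < n a) (hs : ∀ a, s a ∈ 𝒮.deg ⊤ hY (n a))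
    (hcov : ∀ x : (RelProj.domQ u pL chartL : Scheme.{u}),
      ∃ a, r x ∈ (std p chart ⊤ hY (hn a) (s a) (hs a)).opensRange) :
    ⨆ a, locus u (n a) (s a) = ⊤ := by
  haveI := isIso_proj hL hLq hj hPL
  refine top_le_iff.1 fun x _ => ?_
  obtain ⟨ξ, rfl⟩ := pL.homeomorph.surjective x
  obtain ⟨a, ha⟩ := hcov ⟨ξ, htop.ge (Set.mem_univ ξ)⟩
  exact Opens.mem_iSup.2 ⟨a, (mem_locus_iff hL hLq hj hP hPL hr hY (hn a) (hs a) _ rfl ⟨ξ, _⟩).1 ha⟩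

include hL hLq hj hP hPL hr in
theorem preimage_iSup_std {ι : Type u} (n : ι → ℕ) (s : ι → 𝒮.presheaf.obj (op ⊤)) (hn : ∀ a, 0 < n a)
    (hs : ∀ a, s a ∈ 𝒮.deg ⊤ hY (n a)) (hcov : ⨆ a, locus u (n a) (s a) = ⊤) :
    r ⁻¹ᵁ (⨆ a, (std p chart ⊤ hY (hn a) (s a) (hs a)).opensRange) = ⊤ := by
  refine top_le_iff.1 fun x _ => ?_
  obtain ⟨a, ha⟩ := Opens.mem_iSup.1 (hcov.ge (Set.mem_univ (pL x.1)))
  exact Opens.mem_iSup.2 ⟨a, (mem_locus_iff hL hLq hj hP hPL hr hY (hn a) (hs a) _ rfl x).2 ha⟩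

theorem isAffineOpen_std (U : Y.Opens) (hU : IsAffineOpen U) {d : ℕ} (hd : 0 < d) (f : 𝒮.presheaf.obj (op U))
    (hf : f ∈ 𝒮.deg U hU d) : IsAffineOpen (std p chart U hU hd f hf).opensRange :=
  isAffineOpen_opensRange _

end Groth.Agent.Lib.ProjQ
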