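import Groth.Agent.Lib.ProjQ.Map
import Mathlib.AlgebraicGeometry.Morphisms.ClosedImmersion
import Mathlib.AlgebraicGeometry.Morphisms.IsIso

/-!
# Properties of `Proj(u)` read off from the standard charts
-/

set_option autoImplicit false
universe u

open CategoryTheory CategoryTheory.Limits AlgebraicGeometry TopologicalSpace Opposite HomogeneousLocalization
open scoped HomogeneousIdeal
open Groth.Agent.Lib.RelProjBasics.Basic (chartStr)

noncomputable section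

namespace Groth.Agent.Lib.ProjQ

section ring

variable {A B σ τ : Type u} [CommRing A] [SetLike σ A] [AddSubgroupClass σ A]
  [CommRing B] [SetLike τ B] [AddSubgroupClass τ B] {𝒜 : ℕ → σ} {ℬ : ℕ → τ} [GradedRing 𝒜] [GradedRing ℬ]
  (φ : 𝒜 →+*ᵍ ℬ)

theorem exists_deg_notMem (w : Proj ℬ) :
    ∃ (m : ℕ) (b : B), 0 < m ∧ b ∈ ℬ m ∧ b ∉ w.asHomogeneousIdeal := by
  by_contra! h
  exact w.not_irrelevant_le ((HomogeneousIdeal.irrelevant_le _).2 fun m hm b hb => h m b hm hb)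

theorem domOpen_eq_top_of_le (h : ℬ₊ ≤ 𝒜₊.map φ) : RelCone.domOpen φ = ⊤ := by
  refine top_le_iff.1 fun w _ => ?_
  rw [RelCone.mem_domOpen]
  by_contra! h'
  refine w.not_irrelevant_le (h.trans ?_)
  change Ideal.map φ _ ≤ w.asHomogeneousIdeal.toIdeal
  exact Ideal.map_le_iff_le_comap.2 fun f hf => h' f hf

theorem domOpen_eq_top_of_tnSurjective {n : ℕ} (hs : ∀ k, n ≤ k → ∀ b ∈ ℬ k, ∃ a ∈ 𝒜 k, φ a = b) :
    RelCone.domOpen φ = ⊤ := by
  refine top_le_iff.1 fun w _ => ?_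
  obtain ⟨m, b, hm, hb, hbw⟩ := exists_deg_notMem w
  have hb' : b ^ (n + 1) ∈ ℬ ((n + 1) • m) := SetLike.pow_mem_graded _ hb
  obtain ⟨a, ha, e⟩ := hs ((n + 1) • m)
    ((Nat.le_succ n).trans (Nat.le_mul_of_pos_right _ hm)) _ hb'
  refine (RelCone.mem_domOpen φ w).2 ⟨a, HomogeneousIdeal.mem_irrelevant_of_mem _ (Nat.mul_pos n.succ_pos hm) ha, ?_⟩
  rw [e]
  exact fun h' => hbw (w.isPrime.mem_of_pow_mem _ h')

theorem awayMap_surjective {n : ℕ} (hs : ∀ k, n ≤ k → ∀ b ∈ ℬ k, ∃ a ∈ 𝒜 k, φ a = b)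
    {i : ℕ} (hi : 0 < i) {s : A} (hsd : s ∈ 𝒜 i) : Function.Surjective (Away.map φ s) := by
  intro z
  obtain ⟨d, b, hb, rfl⟩ := Away.mk_surjective ℬ (φ.map_mem hsd) z
  have hbs : b * φ s ^ n ∈ ℬ ((d + n) • i) := by
    rw [add_smul]; exact SetLike.mul_mem_graded hb (SetLike.pow_mem_graded _ (φ.map_mem hsd))
  obtain ⟨a, ha, e⟩ := hs _ ((Nat.le_add_left n d).trans (Nat.le_mul_of_pos_right _ hi)) _ hbs
  refine ⟨Away.mk 𝒜 hsd (d + n) a ha, ?_⟩
  apply val_injective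
  rw [Away.map_mk, Away.val_mk, Away.val_mk, Localization.mk_eq_mk_iff, Localization.r_iff_exists]
  refine ⟨1, ?_⟩
  simp only [OneMemClass.coe_one, one_mul, e]
  change φ s ^ d * (b * φ s ^ n) = φ s ^ (d + n) * b
  ring

theorem awayMap_injective {n : ℕ} (hinj : ∀ k, n ≤ k → ∀ a ∈ 𝒜 k, φ a = 0 → a = 0)
    {i : ℕ} (hi : 0 < i) {s : A} (hsd : s ∈ 𝒜 i) : Function.Injective (Away.map φ s) := by
  rw [injective_iff_map_eq_zero]
  intro z hz
  obtain ⟨d, a, ha, rfl⟩ := Away.mk_surjective 𝒜 hsd z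
  have h0 := congrArg HomogeneousLocalization.val hz
  rw [Away.map_mk, Away.val_mk, val_zero, Localization.mk_eq_mk', IsLocalization.mk'_eq_zero_iff] at h0
  obtain ⟨⟨_, m, rfl⟩, hm⟩ := h0
  change φ s ^ m * φ a = 0 at hm
  have hmem : s ^ (m + n) * a ∈ 𝒜 ((m + n) • i + d • i) :=
    SetLike.mul_mem_graded (SetLike.pow_mem_graded _ hsd) ha
  have h1 : s ^ (m + n) * a = 0 := by
    refine hinj _ ?_ _ hmem ?_
    · exact ((Nat.le_add_left n m).trans (Nat.le_mul_of_pos_right _ hi)).trans (Nat.le_add_right _ _)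
    · rw [map_mul, map_pow, pow_add, mul_assoc, mul_left_comm, hm, mul_zero]
  apply val_injective
  rw [Away.val_mk, val_zero, Localization.mk_eq_mk', IsLocalization.mk'_eq_zero_iff]
  exact ⟨⟨_, m + n, rfl⟩, h1⟩

end ring

variable {S S' P P' : Scheme.{u}} {g : S' ⟶ S} {𝒮 : RelProj.QCGrAlg S} {𝒮' : RelProj.QCGrAlg S'}
  {u : RelProj.QGrHom g 𝒮 𝒮'} {p : P ⟶ S}
  {chart : ∀ (U : S.Opens) (hU : IsAffineOpen U), ((p ⁻¹ᵁ U : P.Opens) : Scheme.{u}) ≅ Proj (𝒮.deg U hU)}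
  {p' : P' ⟶ S'}
  {chart' : ∀ (U' : S'.Opens) (hU' : IsAffineOpen U'),
    ((p' ⁻¹ᵁ U' : P'.Opens) : Scheme.{u}) ≅ Proj (𝒮'.deg U' hU')}

/-- A standard open around a point of a relative `Proj`. -/
theorem exists_std (x : P) : ∃ (U : S.Opens) (hU : IsAffineOpen U) (d : ℕ) (hd : 0 < d)
    (f : 𝒮.presheaf.obj (op U)) (hf : f ∈ 𝒮.deg U hU d), x ∈ (std p chart U hU hd f hf).opensRange := by
  obtain ⟨U, hU, hx, -⟩ := exists_isAffineOpen_mem_and_subset (X := S) (U := ⊤) (x := p x) trivial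
  obtain ⟨w, hw⟩ := (opensRange_emb (p := p) (chart := chart) U hU).ge hx
  obtain ⟨d, f, hd, hf, hfw⟩ := exists_deg_notMem w
  exact ⟨U, hU, d, hd, f, hf, (opensRange_std U hU hd f hf).ge ⟨w, hfw, hw⟩⟩

/-- `G(u) = ⊤` is checked on charts. -/
theorem domQ_eq_top
    (h : ∀ y : S', ∃ (U : S.Opens) (hU : IsAffineOpen U) (U' : S'.Opens) (hU' : IsAffineOpen U')
      (hle : U' ≤ g ⁻¹ᵁ U), y ∈ U' ∧ RelCone.domOpen (u.gradedAt U hU U' hU' hle) = ⊤) :
    RelProj.domQ u p' chart' = ⊤ := by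
  refine top_le_iff.1 fun x _ => ?_
  obtain ⟨U, hU, U', hU', hle, hy, htop⟩ := h (p' x)
  obtain ⟨w, hw⟩ := (opensRange_emb (p := p') (chart := chart') U' hU').ge hy
  exact Opens.mem_iSup.2 ⟨⟨(⟨U, hU⟩, ⟨U', hU'⟩), hle⟩, w, htop.ge (Set.mem_univ w), hw⟩

theorem isIso_ι (htop : RelProj.domQ u p' chart' = ⊤) : IsIso (RelProj.domQ u p' chart').ι := by
  have : Function.Surjective (RelProj.domQ u p' chart').ι := fun x => ⟨⟨x, htop.ge (Set.mem_univ x)⟩, rfl⟩
  have : Epi (RelProj.domQ u p' chart').ι.base := (TopCat.epi_iff_surjective _).2 this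
  exact IsOpenImmersion.isIso _

theorem ι_comp_isProjQMap {h : P' ⟶ P} (hh : RelProj.IsProjQMap u p chart p' chart' h) :
    RelProj.IsProjQMapOn u p chart p' chart' (RelProj.domQ u p' chart')
      ((RelProj.domQ u p' chart').ι ≫ h) :=
  (isProjQMapOn_iff _).2 fun i => by
    rw [← Category.assoc, lift_ι, Idx.c, std]
    exact hh.2 i.U i.hU i.U' i.hU' i.hle i.d i.hd i.f i.hf

theorem isProjQMap_of_isProjQMapOn (htop : RelProj.domQ u p' chart' = ⊤) (h : P' ⟶ P)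
    (hr : RelProj.IsProjQMapOn u p chart p' chart' (RelProj.domQ u p' chart')
      ((RelProj.domQ u p' chart').ι ≫ h)) :
    RelProj.IsProjQMap u p chart p' chart' h := by
  refine ⟨htop, fun U hU U' hU' hle d hd f hf => ?_⟩
  let i : Idx (g := g) (𝒮 := 𝒮) := ⟨U, hU, U', hU', hle, d, hd, f, hf⟩
  have h1 := (isProjQMapOn_iff _).1 hr i
  rw [← Category.assoc, lift_ι] at h1
  exact h1

theorem exists_isProjQMap (htop : RelProj.domQ u p' chart' = ⊤) (hP : RelProj.IsRelProj 𝒮 p chart)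
    (hP' : RelProj.IsRelProj 𝒮' p' chart') : ∃ h : P' ⟶ P, RelProj.IsProjQMap u p chart p' chart' h := by
  haveI := isIso_ι htop
  obtain ⟨r, hr, -⟩ := existsUnique (u := u) hP hP'
  refine ⟨inv (RelProj.domQ u p' chart').ι ≫ r, isProjQMap_of_isProjQMapOn htop _ ?_⟩
  rwa [IsIso.hom_inv_id_assoc]

theorem isPullback_std (hP : RelProj.IsRelProj 𝒮 p chart) (hP' : RelProj.IsRelProj 𝒮' p' chart')
    {r : (RelProj.domQ u p' chart' : Scheme.{u}) ⟶ P}
    (hr : RelProj.IsProjQMapOn u p chart p' chart' (RelProj.domQ u p' chart') r)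
    (i : Idx (g := g) (𝒮 := 𝒮)) (hi : i.U' = g ⁻¹ᵁ i.U) :
    IsPullback (Spec.map (CommRingCat.ofHom (Away.map (i.φ u) i.f))) (lift (u := u) p' chart' i)
      (std p chart i.U i.hU i.hd i.f i.hf) r := by
  refine IsOpenImmersion.isPullback _ _ _ _ ((isProjQMapOn_iff r).1 hr i) ?_
  apply Opens.ext
  ext x
  change r x ∈ (std p chart i.U i.hU i.hd i.f i.hf).opensRange ↔ x ∈ (lift (u := u) p' chart' i).opensRange
  rw [opensRange_std]
  have key := fun hy => mem_preimage_iff hP hP' hr i.U i.hU i.U' i.hU' i.hle i.hd i.f i.hf x hy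
  constructor
  · intro hx
    have hy : p' x.1 ∈ i.U' := by
      rw [hi]
      show g (p' x.1) ∈ i.U
      rw [show g (p' x.1) = p (r x) from (congr($(over hP hP' hr) x)).symm]
      obtain ⟨w, -, hw⟩ := hx
      rw [← hw]
      exact (opensRange_emb (p := p) (chart := chart) i.U i.hU).le ⟨w, rfl⟩
    obtain ⟨z, hz⟩ := (i.opensRange_e (u := u) p' chart').ge ((key hy).1 hx)
    exact ⟨z, (RelProj.domQ u p' chart').ι.isOpenEmbedding.injective
      ((congr($(lift_ι (u := u) (p' := p') (chart' := chart') i) z)).trans hz)⟩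
  · rintro ⟨z, rfl⟩
    rw [show r (lift (u := u) p' chart' i z) = i.c p chart u z from congr($((isProjQMapOn_iff r).1 hr i) z)]
    exact (opensRange_std (p := p) (chart := chart) i.U i.hU i.hd i.f i.hf).le ⟨_, rfl⟩

/-- A property local at the target holds for `Proj(u)` along an affine `g` once it holds on the standard charts. -/
theorem of_charts (Q : MorphismProperty Scheme.{u}) [IsZariskiLocalAtTarget Q]
    (hP : RelProj.IsRelProj 𝒮 p chart) (hP' : RelProj.IsRelProj 𝒮' p' chart')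
    {r : (RelProj.domQ u p' chart' : Scheme.{u}) ⟶ P}
    (hr : RelProj.IsProjQMapOn u p chart p' chart' (RelProj.domQ u p' chart') r)
    (haff : ∀ U : S.Opens, IsAffineOpen U → IsAffineOpen (g ⁻¹ᵁ U))
    (H : ∀ i : Idx (g := g) (𝒮 := 𝒮), i.U' = g ⁻¹ᵁ i.U →
      Q (Spec.map (CommRingCat.ofHom (Away.map (i.φ u) i.f)))) : Q r := by
  choose U hU d hd f hf hx using fun x : P => exists_std (p := p) (chart := chart) x
  let 𝒰 : P.OpenCover := .mkOfCovers P (fun x => Spec (CommRingCat.of (Away (𝒮.deg (U x) (hU x)) (f x))))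
    (fun x => std p chart (U x) (hU x) (hd x) (f x) (hf x)) (fun x => ⟨x, hx x⟩) fun x => inferInstance
  refine IsZariskiLocalAtTarget.of_openCover (P := Q) 𝒰 fun x => ?_
  let i : Idx (g := g) (𝒮 := 𝒮) := ⟨U x, hU x, g ⁻¹ᵁ U x, haff _ (hU x), le_rfl, d x, hd x, f x, hf x⟩
  have hpb := (isPullback_std hP hP' hr i rfl).flip
  change Q (pullback.snd r (std p chart (U x) (hU x) (hd x) (f x) (hf x)))
  rw [← hpb.isoPullback_inv_snd, MorphismProperty.cancel_left_of_respectsIso Q]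
  exact H i rfl

theorem of_charts' (Q : MorphismProperty Scheme.{u}) [IsZariskiLocalAtTarget Q]
    (hP : RelProj.IsRelProj 𝒮 p chart) (hP' : RelProj.IsRelProj 𝒮' p' chart')
    {h : P' ⟶ P} (hh : RelProj.IsProjQMap u p chart p' chart' h)
    (haff : ∀ U : S.Opens, IsAffineOpen U → IsAffineOpen (g ⁻¹ᵁ U))
    (H : ∀ i : Idx (g := g) (𝒮 := 𝒮), i.U' = g ⁻¹ᵁ i.U →
      Q (Spec.map (CommRingCat.ofHom (Away.map (i.φ u) i.f)))) : Q h := by
  haveI := isIso_ι hh.1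
  have h' := of_charts Q hP hP' (ι_comp_isProjQMap hh) haff H
  rwa [MorphismProperty.cancel_left_of_respectsIso Q] at h'

theorem gradedAt_ofHom {𝒜 ℬ : RelProj.QCGrAlg S} (φ : 𝒜.toQCAlg ⟶ ℬ.toQCAlg) (hφ : RelProj.IsGradedHom φ)
    (U : S.Opens) (hU : IsAffineOpen U) :
    (RelProj.QGrHom.ofHom φ hφ).gradedAt U hU U hU le_rfl = RelProj.gradedHomAt φ hφ U hU :=
  GradedRingHom.ext fun x => congr($(ℬ.presheaf.map_id (op U)) ((φ.hom.app (op U)).hom x))

theorem preimage_id (U : S.Opens) : (𝟙 S : S ⟶ S) ⁻¹ᵁ U = U := rfl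

end Groth.Agent.Lib.ProjQ
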