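import Groth.Agent.Lib.ProjQ.Colimit
import Groth.Agent.Lib.ProjQ.Crit
import Groth.Agent.Lib.ProjQ.Comp
import Groth.Agent.S12147
import Groth.Agent.S12153

/-!
# An immersion into `Proj` of a filtered colimit is one at a finite stage
-/

set_option autoImplicit false
universe u

open CategoryTheory CategoryTheory.Limits AlgebraicGeometry TopologicalSpace Opposite HomogeneousLocalization
open scoped HomogeneousIdeal

noncomputable section

namespace Groth.Agent.Lib.ProjQ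

/-- Finitely many elements control whether a closed immersion into an affine scheme stays one after mapping
to a smaller ring. -/
theorem exists_finset_closed {Z : Scheme.{u}} {R A : CommRingCat.{u}} (l : Z ⟶ Spec A) [IsClosedImmersion l]
    (σ : R ⟶ A) [LocallyOfFiniteType (l ≫ Spec.map σ)] :
    ∃ T : Finset A, ∀ (A' : CommRingCat.{u}) (ψ : A' ⟶ A), (∀ a ∈ T, a ∈ Set.range ψ.hom) →
      (∀ c, σ.hom c ∈ Set.range ψ.hom) → IsClosedImmersion (l ≫ Spec.map ψ) := by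
  classical
  obtain ⟨hZ, hl⟩ := IsClosedImmersion.isAffine_surjective_of_isAffine l
  let θ : A ⟶ Γ(Z, ⊤) := (Scheme.ΓSpecIso A).inv ≫ l.appTop
  have hθ : Function.Surjective θ.hom := hl.comp (ConcreteCategory.bijective_of_isIso (Scheme.ΓSpecIso A).inv).2
  have happ : ∀ {A' : CommRingCat.{u}} (ψ : A' ⟶ A),
      (l ≫ Spec.map ψ).appTop = (Scheme.ΓSpecIso A').hom ≫ ψ ≫ θ := by
    intro A' ψ
    rw [Scheme.Hom.comp_appTop]
    have h := Scheme.ΓSpecIso_naturality ψ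
    rw [← Iso.eq_comp_inv] at h
    rw [h]
    simp [θ]
  have hft : (σ ≫ θ).hom.FiniteType := by
    have h := HasRingHomProperty.appTop (P := @LocallyOfFiniteType) (l ≫ Spec.map σ) inferInstance
    rw [happ] at h
    exact RingHom.FiniteType.of_comp_finiteType (f := (Scheme.ΓSpecIso R).hom.hom) h
  letI := (σ ≫ θ).hom.toAlgebra
  obtain ⟨G, hG⟩ := (RingHom.finiteType_algebraMap (A := R) (B := Γ(Z, ⊤))).1 hft
  choose pre hpre using hθ
  refine ⟨G.image pre, fun A' ψ hT hσ => ?_⟩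
  refine IsClosedImmersion.of_surjective_of_isAffine _ ?_
  rw [happ]
  refine fun z => ?_
  have hz : z ∈ Algebra.adjoin R (↑G : Set Γ(Z, ⊤)) := by rw [hG]; trivial
  suffices z ∈ (ψ ≫ θ).hom.range by
    obtain ⟨a', ha'⟩ := this
    obtain ⟨b, hb⟩ := (ConcreteCategory.bijective_of_isIso (Scheme.ΓSpecIso A').hom).2 a'
    exact ⟨b, (congrArg (fun t => θ.hom (ψ.hom t)) hb).trans ha'⟩
  induction hz using Algebra.adjoin_induction with
  | mem x hx =>
    obtain ⟨a', ha'⟩ := hT (pre x) (Finset.mem_image_of_mem pre hx)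
    exact ⟨a', (congrArg θ.hom ha').trans (hpre x)⟩
  | algebraMap c =>
    obtain ⟨a', ha'⟩ := hσ c
    exact ⟨a', congrArg θ.hom ha'⟩
  | add x y _ _ hx hy => exact add_mem hx hy
  | mul x y _ _ hx hy => exact mul_mem hx hy

/-- A square over a monomorphism. -/
theorem isPullback_of_comp_mono {Z A B G P : Scheme.{u}} {h : Z ⟶ A} {v : Z ⟶ B} {k : A ⟶ G} {l : B ⟶ G}
    {f : A ⟶ P} {g : B ⟶ P} (ι : G ⟶ P) [Mono ι] (hk : k ≫ ι = f) (hl : l ≫ ι = g)
    (hpb : IsPullback h v f g) : IsPullback h v k l := by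
  have w : h ≫ k = v ≫ l := by rw [← cancel_mono ι, Category.assoc, Category.assoc, hk, hl, hpb.w]
  refine ⟨⟨w⟩, ⟨PullbackCone.IsLimit.mk w
    (fun s => hpb.lift s.fst s.snd (by rw [← hk, ← hl, reassoc_of% s.condition]))
    (fun s => hpb.lift_fst _ _ _) (fun s => hpb.lift_snd _ _ _) (fun s m h1 h2 => hpb.hom_ext ?_ ?_)⟩⟩
  · rw [hpb.lift_fst]; exact h1
  · rw [hpb.lift_snd]; exact h2

variable {Y X P PL : Scheme.{u}} {q : X ⟶ Y} {L : X.Modules}
  {𝒮 : RelProj.QCGrAlg Y} {𝒮L : RelProj.QCGrAlg X} {j : L ⟶ 𝒮L.toModule}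
  {u : RelProj.QGrHom q 𝒮 𝒮L} {p : P ⟶ Y}
  {chart : ∀ (U : Y.Opens) (hU : IsAffineOpen U), ((p ⁻¹ᵁ U : P.Opens) : Scheme.{u}) ≅ Proj (𝒮.deg U hU)}
  {pL : PL ⟶ X}
  {chartL : ∀ (U : X.Opens) (hU : IsAffineOpen U), ((pL ⁻¹ᵁ U : PL.Opens) : Scheme.{u}) ≅ Proj (𝒮L.deg U hU)}

theorem exists_std_le' {y : P} {O : P.Opens} (hy : y ∈ O) :
    ∃ (U : Y.Opens) (hU : IsAffineOpen U) (n : ℕ) (s : 𝒮.presheaf.obj (op U)) (hn : 0 < n)
      (hs : s ∈ 𝒮.deg U hU n), y ∈ (std p chart U hU hn s hs).opensRange ∧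
        (std p chart U hU hn s hs).opensRange ≤ O := by
  obtain ⟨U, hU, hyU, -⟩ := exists_isAffineOpen_mem_and_subset (X := Y) (U := ⊤) (x := p y) trivial
  obtain ⟨w, rfl⟩ := (opensRange_emb (p := p) (chart := chart) U hU).ge hyU
  obtain ⟨n, s, hn, hs, hws, hle⟩ := exists_basicOpen_le (RelProj.emb p chart U hU ⁻¹ᵁ O) (w := w) hy
  refine ⟨U, hU, n, s, hn, hs, (opensRange_std U hU hn s hs).ge ⟨w, hws, rfl⟩, fun z hz => ?_⟩
  obtain ⟨t, ht, rfl⟩ := (opensRange_std (p := p) (chart := chart) U hU hn s hs).le hz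
  exact hle ht

variable {Λ : Type u} [Preorder Λ] [IsDirected Λ (· ≤ ·)] [Nonempty Λ] {𝒮i : Λ → RelProj.QCGrAlg Y}
  {φ : ∀ i, (𝒮i i).toQCAlg ⟶ 𝒮.toQCAlg}

/-- One standard chart: from some stage on, the composite into the stage chart is a closed immersion. -/
theorem exists_stage_closed (hφ : ∀ i, RelProj.IsGradedHom (φ i))
    (t : ∀ i j, i ≤ j → ((𝒮i i).toQCAlg ⟶ (𝒮i j).toQCAlg)) (ht : ∀ i j (h : i ≤ j), RelProj.IsGradedHom (t i j h))
    (hφt : ∀ i j (h : i ≤ j), t i j h ≫ φ j = φ i)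
    (hsurj : ∀ (U : Y.Opens), IsAffineOpen U → ∀ x : 𝒮.presheaf.obj (op U),
      ∃ (i : Λ) (y : (𝒮i i).presheaf.obj (op U)), ((φ i).hom.app (op U)).hom y = x)
    (hP : RelProj.IsRelProj 𝒮 p chart) (hPL : RelProj.IsRelProj 𝒮L pL chartL)
    [LocallyOfFiniteType q] [IsIso pL]
    {r : (RelProj.domQ u pL chartL : Scheme.{u}) ⟶ P}
    (hr : RelProj.IsProjQMapOn u p chart pL chartL (RelProj.domQ u pL chartL) r) [IsImmersion r]
    {U : Y.Opens} (hU : IsAffineOpen U) {d : ℕ} (hd : 0 < d) {f : 𝒮.presheaf.obj (op U)}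
    (hf : f ∈ 𝒮.deg U hU d) (hle : (std p chart U hU hd f hf).opensRange ≤ r.coborderRange) :
    ∃ i₀ : Λ, ∀ i, i₀ ≤ i → ∃ (y : (𝒮i i).presheaf.obj (op U)) (hy : y ∈ (𝒮i i).deg U hU d),
      (RelProj.QGrHom.ofHom (φ i) (hφ i)).gradedAt U hU U hU le_rfl y = f ∧
      IsClosedImmersion (pullback.snd r (std p chart U hU hd
        ((RelProj.QGrHom.ofHom (φ i) (hφ i)).gradedAt U hU U hU le_rfl y)
        (((RelProj.QGrHom.ofHom (φ i) (hφ i)).gradedAt U hU U hU le_rfl).map_mem hy)) ≫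
        Spec.map (CommRingCat.ofHom (Away.map
          ((RelProj.QGrHom.ofHom (φ i) (hφ i)).gradedAt U hU U hU le_rfl) y))) := by
  classical
  set g := std p chart U hU hd f hf
  haveI hclosed : IsClosedImmersion (pullback.snd r g) :=
    ((MorphismProperty.arrow_mk_iso_iff @IsClosedImmersion) (morphismRestrictOpensRange r g)).1
      (isClosedImmersion_restrict_of_le r hle)
  let σ : Γ(Y, U) ⟶ CommRingCat.of (Away (𝒮.deg U hU) f) :=
    CommRingCat.ofHom ((fromZeroRingHom (𝒮.deg U hU) (Submonoid.powers f)).comp (𝒮.strZero U hU).hom)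
  haveI : LocallyOfFiniteType (pullback.snd r g ≫ Spec.map σ) := by
    have e : (pullback.snd r g ≫ Spec.map σ) ≫ hU.fromSpec =
        pullback.fst r g ≫ (RelProj.domQ u pL chartL).ι ≫ pL ≫ q := by
      rw [Category.assoc, ← std_over hP U hU hd f hf, ← over hP hPL hr, pullback.condition_assoc]
    haveI : IsOpenImmersion (pullback.fst r g) := inferInstance
    haveI : LocallyOfFiniteType ((pullback.snd r g ≫ Spec.map σ) ≫ hU.fromSpec) := e ▸ inferInstance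
    exact locallyOfFiniteType_of_comp _ hU.fromSpec
  obtain ⟨T, hT⟩ := exists_finset_closed (pullback.snd r g) σ
  choose m a ha hma using fun z : Away (𝒮.deg U hU) f => Away.mk_surjective (𝒮.deg U hU) hf z
  obtain ⟨i₁, hi₁⟩ := exists_stage hφ t ht hφt hsurj hU hf
  choose i₂ hi₂ using fun z : Away (𝒮.deg U hU) f => exists_stage hφ t ht hφt hsurj hU (ha z)
  obtain ⟨M, hM⟩ := Finset.exists_le (insert i₁ (T.image i₂))
  refine ⟨M, fun i hi => ?_⟩
  obtain ⟨y, hy, hyf⟩ := hi₁ i ((hM _ (Finset.mem_insert_self _ _)).trans hi)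
  have hw : ∀ x, (RelProj.QGrHom.ofHom (φ i) (hφ i)).gradedAt U hU U hU le_rfl x = ((φ i).hom.app (op U)).hom x :=
    fun x => congr($(gradedAt_ofHom (φ i) (hφ i) U hU) x)
  refine ⟨y, hy, (hw y).trans hyf, ?_⟩
  have hlift : ∀ z ∈ T, ∃ y' ∈ (𝒮i i).deg U hU (m z • d),
      (RelProj.QGrHom.ofHom (φ i) (hφ i)).gradedAt U hU U hU le_rfl y' = a z := fun z hz => by
    obtain ⟨y', hy', e⟩ := hi₂ z i ((hM _ (Finset.mem_insert_of_mem (Finset.mem_image_of_mem i₂ hz))).trans hi)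
    exact ⟨y', hy', (hw y').trans e⟩
  have key : ∀ (W : (𝒮i i).deg U hU →+*ᵍ 𝒮.deg U hU),
      (∀ c, W (((𝒮i i).strZero U hU).hom c : (𝒮i i).presheaf.obj (op U)) = (𝒮.strZero U hU).hom c) →
      ∀ (f' : 𝒮.presheaf.obj (op U)) (hf' : f' ∈ 𝒮.deg U hU d), W y = f' →
      ∀ z : Away (𝒮.deg U hU) f', ∀ (mm : ℕ) (aa : 𝒮.presheaf.obj (op U)) (haa : aa ∈ 𝒮.deg U hU (mm • d)),
        Away.mk (𝒮.deg U hU) hf' mm aa haa = z → (∃ y' ∈ (𝒮i i).deg U hU (mm • d), W y' = aa) →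
        ∀ hwy : W y = f', z ∈ Set.range (fun b => cast (by rw [hwy]) (Away.map W y b) :
          Away ((𝒮i i).deg U hU) y → Away (𝒮.deg U hU) f') := by
    intro W _ f' hf' hWy z mm aa haa hz hy' hwy
    obtain ⟨y', hy', rfl⟩ := hy'
    subst hz hwy
    exact ⟨Away.mk _ hy mm y' hy', Away.map_mk _ _ _ _ _ _⟩
  have main : ∀ (W : (𝒮i i).deg U hU →+*ᵍ 𝒮.deg U hU),
      (∀ c, W (((𝒮i i).strZero U hU).hom c : (𝒮i i).presheaf.obj (op U)) = (𝒮.strZero U hU).hom c) →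
      (∀ z ∈ T, ∃ y' ∈ (𝒮i i).deg U hU (m z • d), W y' = a z) → ∀ hwy : W y = f,
      IsClosedImmersion (pullback.snd r (std p chart U hU hd (W y) (W.map_mem hy)) ≫
        Spec.map (CommRingCat.ofHom (Away.map W y))) := by
    intro W hstr hl hwy
    subst hwy
    refine hT _ (CommRingCat.ofHom (Away.map W y)) (fun z hz => ?_) (fun c => ?_)
    · exact key W hstr (W y) hf rfl z (m z) (a z) (ha z) (hma z) (hl z hz) rfl
    · exact ⟨fromZeroRingHom _ (Submonoid.powers y) (((𝒮i i).strZero U hU).hom c),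
        (H81.RelProj.Localize.map_fromZero W y _).trans (congrArg (fromZeroRingHom (𝒮.deg U hU) _) (Subtype.ext (hstr c)))⟩
  refine main _ (fun c => ?_) hlift ((hw y).trans hyf)
  rw [hw]
  exact congr(($((φ i).comm)).app (op U) c)

end Groth.Agent.Lib.ProjQ
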