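import Groth.Prelude.Def_RelProj4
import Groth.Agent.H81.RelProj.Chart
import Groth.Agent.H81.RelProj.BaseChange

/-!
# Standard charts of a relative `Proj` under restriction to affine opens
-/

set_option autoImplicit false
universe u

open CategoryTheory CategoryTheory.Limits AlgebraicGeometry TopologicalSpace Opposite HomogeneousLocalization
open scoped HomogeneousIdeal
open Groth.Agent.Lib.RelProjBasics.Basic (chartStr)

noncomputable section

namespace Groth.Agent.Lib.ProjQ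

variable {S P : Scheme.{u}} {𝒮 : RelProj.QCGrAlg S} {p : P ⟶ S}
  {chart : ∀ (U : S.Opens) (hU : IsAffineOpen U), ((p ⁻¹ᵁ U : P.Opens) : Scheme.{u}) ≅ Proj (𝒮.deg U hU)}

theorem emb_over (hP : RelProj.IsRelProj 𝒮 p chart) (U : S.Opens) (hU : IsAffineOpen U) :
    RelProj.emb p chart U hU ≫ p = chartStr 𝒮 U hU ≫ hU.fromSpec :=
  (H81.RelProj.BaseChange.isPullback_emb hP U hU).w

theorem opensRange_emb (U : S.Opens) (hU : IsAffineOpen U) :
    (RelProj.emb p chart U hU).opensRange = p ⁻¹ᵁ U := by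
  change ((chart U hU).inv ≫ (p ⁻¹ᵁ U).ι).opensRange = p ⁻¹ᵁ U
  rw [Scheme.Hom.opensRange_comp_of_isIso, Scheme.Opens.opensRange_ι]

theorem emb_step (hP : RelProj.IsRelProj 𝒮 p chart) {U : S.Opens} (hU : IsAffineOpen U) (r : Γ(S, U)) :
    RelProj.emb p chart (S.basicOpen r) (hU.basicOpen r) =
      H81.RelProj.Chart.ρ 𝒮 hU r ≫ RelProj.emb p chart U hU := by
  have h : (chart _ (hU.basicOpen r)).inv ≫ P.homOfLE (p.preimage_mono (S.basicOpen_le r)) =
      H81.RelProj.Chart.ρ 𝒮 hU r ≫ (chart U hU).inv := by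
    rw [Iso.inv_comp_eq, ← Category.assoc, Iso.eq_comp_inv]
    exact hP.chart_res U hU r
  rw [RelProj.emb, RelProj.emb, ← Category.assoc, ← h, Category.assoc, Scheme.homOfLE_ι]

/-- The standard chart of `P` at a homogeneous element over an affine open. -/
def std (p : P ⟶ S)
    (chart : ∀ (U : S.Opens) (hU : IsAffineOpen U), ((p ⁻¹ᵁ U : P.Opens) : Scheme.{u}) ≅ Proj (𝒮.deg U hU))
    (U : S.Opens) (hU : IsAffineOpen U) {d : ℕ} (hd : 0 < d) (f : 𝒮.presheaf.obj (op U))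
    (hf : f ∈ 𝒮.deg U hU d) : Spec (CommRingCat.of (Away (𝒮.deg U hU) f)) ⟶ P :=
  Proj.awayι (𝒮.deg U hU) f hf hd ≫ RelProj.emb p chart U hU

instance (U : S.Opens) (hU : IsAffineOpen U) {d : ℕ} (hd : 0 < d) (f : 𝒮.presheaf.obj (op U))
    (hf : f ∈ 𝒮.deg U hU d) : IsOpenImmersion (std p chart U hU hd f hf) := by
  unfold std; infer_instance

theorem opensRange_std (U : S.Opens) (hU : IsAffineOpen U) {d : ℕ} (hd : 0 < d) (f : 𝒮.presheaf.obj (op U))
    (hf : f ∈ 𝒮.deg U hU d) :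
    (std p chart U hU hd f hf).opensRange = (RelProj.emb p chart U hU) ''ᵁ Proj.basicOpen (𝒮.deg U hU) f :=
  (Scheme.Hom.opensRange_comp _ _).trans (congrArg _ (Proj.opensRange_awayι _ f hf hd))

theorem image_step (hP : RelProj.IsRelProj 𝒮 p chart) {U : S.Opens} (hU : IsAffineOpen U) (r : Γ(S, U))
    (f : 𝒮.presheaf.obj (op U)) :
    (RelProj.emb p chart (S.basicOpen r) (hU.basicOpen r)) ''ᵁ
        Proj.basicOpen (𝒮.deg (S.basicOpen r) (hU.basicOpen r)) (𝒮.res hU (hU.basicOpen r) (S.basicOpen_le r) f) =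
      (RelProj.emb p chart U hU) ''ᵁ Proj.basicOpen (𝒮.deg U hU) f ⊓ p ⁻¹ᵁ S.basicOpen r := by
  apply Opens.ext
  rw [← opensRange_emb (p := p) (chart := chart) (S.basicOpen r) (hU.basicOpen r)]
  ext x
  constructor
  · rintro ⟨w, hw, rfl⟩
    refine ⟨⟨H81.RelProj.Chart.ρ 𝒮 hU r w, ?_, ?_⟩, ⟨w, rfl⟩⟩
    · exact hw
    · rw [emb_step hP hU r]; rfl
  · rintro ⟨⟨z, hz, rfl⟩, ⟨w, hw⟩⟩
    refine ⟨w, ?_, hw⟩
    have e : H81.RelProj.Chart.ρ 𝒮 hU r w = z := by
      refine (RelProj.emb p chart U hU).isOpenEmbedding.injective ?_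
      exact (congr($(emb_step (p := p) (chart := chart) hP hU r) w)).symm.trans hw
    subst e
    exact hz

theorem std_step (hP : RelProj.IsRelProj 𝒮 p chart) {U D : S.Opens} (hU : IsAffineOpen U) (hD : IsAffineOpen D)
    (r : Γ(S, U)) (e : D = S.basicOpen r) (ψ : 𝒮.deg U hU →+*ᵍ 𝒮.deg D hD)
    (hψ : ∀ i : D ≤ U, ψ = 𝒮.res hU hD i)
    {d : ℕ} (hd : 0 < d) (f : 𝒮.presheaf.obj (op U)) (hf : f ∈ 𝒮.deg U hU d) :
    std p chart D hD hd (ψ f) (ψ.map_mem hf) =
      Spec.map (CommRingCat.ofHom (Away.map ψ f)) ≫ std p chart U hU hd f hf := by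
  subst e
  obtain rfl := hψ (S.basicOpen_le r)
  rw [std, std, emb_step hP hU r, ← Category.assoc, ← Category.assoc]
  congr 1
  exact Proj.awayι_comp_map _ _ hd f hf

theorem image_res_le_basic (hP : RelProj.IsRelProj 𝒮 p chart) {U D : S.Opens} (hU : IsAffineOpen U)
    (hD : IsAffineOpen D) (r : Γ(S, U)) (e : D = S.basicOpen r) (i : D ≤ U) (f : 𝒮.presheaf.obj (op U)) :
    (RelProj.emb p chart D hD) ''ᵁ Proj.basicOpen (𝒮.deg D hD) (𝒮.res hU hD i f) =
      (RelProj.emb p chart U hU) ''ᵁ Proj.basicOpen (𝒮.deg U hU) f ⊓ p ⁻¹ᵁ D := by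
  subst e
  exact image_step hP hU r f

theorem res_comp {U V W : S.Opens} (hU : IsAffineOpen U) (hV : IsAffineOpen V) (hW : IsAffineOpen W)
    (i : V ≤ U) (j : W ≤ V) :
    (𝒮.res hV hW j).comp (𝒮.res hU hV i) = 𝒮.res hU hW (j.trans i) :=
  GradedRingHom.ext fun x => (congr($(𝒮.presheaf.map_comp (homOfLE i).op (homOfLE j).op) x)).symm

theorem res_res {U V W : S.Opens} (hU : IsAffineOpen U) (hV : IsAffineOpen V) (hW : IsAffineOpen W)
    (i : V ≤ U) (j : W ≤ V) (f : 𝒮.presheaf.obj (op U)) :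
    𝒮.res hV hW j (𝒮.res hU hV i f) = 𝒮.res hU hW (j.trans i) f :=
  congr($(res_comp hU hV hW i j) f)

/-- Restriction to any smaller affine open, on standard charts. -/
theorem std_res (hP : RelProj.IsRelProj 𝒮 p chart) {U V : S.Opens} (hU : IsAffineOpen U) (hV : IsAffineOpen V)
    (i : V ≤ U) {d : ℕ} (hd : 0 < d) (f : 𝒮.presheaf.obj (op U)) (hf : f ∈ 𝒮.deg U hU d) :
    std p chart V hV hd (𝒮.res hU hV i f) ((𝒮.res hU hV i).map_mem hf) =
      Spec.map (CommRingCat.ofHom (Away.map (𝒮.res hU hV i) f)) ≫ std p chart U hU hd f hf := by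
  set ψ := 𝒮.res hU hV i with hψ
  refine Scheme.hom_ext_of_forall _ _ fun z => ?_
  set a := std p chart V hV hd (ψ f) (ψ.map_mem hf) with ha
  have hx : a z ∈ (RelProj.emb p chart V hV) ''ᵁ Proj.basicOpen (𝒮.deg V hV) (ψ f) :=
    (opensRange_std (p := p) (chart := chart) V hV hd (ψ f) (ψ.map_mem hf)).le ⟨z, rfl⟩
  have hy : p (a z) ∈ V := by
    obtain ⟨w, -, hw⟩ := hx
    rw [← hw]
    exact (opensRange_emb (p := p) (chart := chart) V hV).le ⟨w, rfl⟩
  obtain ⟨r, s, e, hmem⟩ := exists_basicOpen_le_affine_inter hU hV (p (a z)) ⟨i hy, hy⟩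
  let D := S.basicOpen s
  let hD : IsAffineOpen D := hV.basicOpen s
  let k := Spec.map (CommRingCat.ofHom (Away.map (𝒮.res hV hD (S.basicOpen_le s)) (ψ f)))
  haveI : IsOpenImmersion k := by
    letI := (Away.map (𝒮.res hV hD (S.basicOpen_le s)) (ψ f)).toAlgebra
    haveI := H81.RelProj.Chart.awayMap_isLocalization 𝒮 hV s (ψ.map_mem hf)
    exact IsOpenImmersion.of_isLocalization
      (fromZeroRingHom (𝒮.deg V hV) (Submonoid.powers (ψ f)) ((𝒮.strZero V hV).hom s))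
  have hka : std p chart D hD hd (𝒮.res hV hD (S.basicOpen_le s) (ψ f))
      ((𝒮.res hV hD (S.basicOpen_le s)).map_mem (ψ.map_mem hf)) = k ≫ a :=
    std_step hP hV hD s rfl _ (fun _ => rfl) hd (ψ f) (ψ.map_mem hf)
  have hz : z ∈ k.opensRange := by
    have h1 : a z ∈ (RelProj.emb p chart D hD) ''ᵁ
        Proj.basicOpen (𝒮.deg D hD) (𝒮.res hV hD (S.basicOpen_le s) (ψ f)) := by
      exact (image_step hP hV s (ψ f)).ge ⟨hx, show p (a z) ∈ S.basicOpen s from e.le hmem⟩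
    obtain ⟨z', hz'⟩ := (opensRange_std (p := p) (chart := chart) D hD hd _
      ((𝒮.res hV hD (S.basicOpen_le s)).map_mem (ψ.map_mem hf))).ge h1
    exact ⟨z', a.isOpenEmbedding.injective ((congr($hka.symm z')).trans hz')⟩
  refine ⟨k.opensRange, hz, ?_⟩
  rw [← cancel_epi k.isoOpensRange.hom]
  simp only [Scheme.Hom.isoOpensRange_hom_ι_assoc]
  rw [← hka]
  have hb := std_step (p := p) (chart := chart) hP hU hD r (show D = S.basicOpen r from e.symm)
    ((𝒮.res hV hD (S.basicOpen_le s)).comp ψ) (fun _ => res_comp hU hV hD i _) hd f hf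
  rw [Away.map_comp] at hb
  refine hb.trans ?_
  rw [← Spec.map_comp_assoc]
  rfl

/-- Restriction to any smaller affine open, on standard opens. -/
theorem image_res (hP : RelProj.IsRelProj 𝒮 p chart) {U V : S.Opens} (hU : IsAffineOpen U) (hV : IsAffineOpen V)
    (i : V ≤ U) (f : 𝒮.presheaf.obj (op U)) :
    (RelProj.emb p chart V hV) ''ᵁ Proj.basicOpen (𝒮.deg V hV) (𝒮.res hU hV i f) =
      (RelProj.emb p chart U hU) ''ᵁ Proj.basicOpen (𝒮.deg U hU) f ⊓ p ⁻¹ᵁ V := by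
  apply Opens.ext
  ext x
  by_cases hy : p x ∈ V
  · obtain ⟨r, s, e, hmem⟩ := exists_basicOpen_le_affine_inter hU hV (p x) ⟨i hy, hy⟩
    have h1 := image_res_le_basic (p := p) (chart := chart) hP hV (hV.basicOpen s) s rfl (S.basicOpen_le s)
      (𝒮.res hU hV i f)
    have h2 := image_res_le_basic (p := p) (chart := chart) hP hU (hV.basicOpen s) r e.symm
      (e ▸ S.basicOpen_le r) f
    rw [res_res hU hV (hV.basicOpen s) i (S.basicOpen_le s) f] at h1
    have h3 := Set.ext_iff.1 (congrArg (fun O : P.Opens => (O : Set P)) (h1.symm.trans h2)) x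
    have hD : x ∈ (p ⁻¹ᵁ S.basicOpen s : P.Opens) := show p x ∈ S.basicOpen s from e ▸ hmem
    exact ⟨fun h => ⟨(h3.1 ⟨h, hD⟩).1, hy⟩, fun h => (h3.2 ⟨h.1, hD⟩).1⟩
  · refine ⟨fun h => (hy ?_).elim, fun h => (hy h.2).elim⟩
    obtain ⟨w, -, rfl⟩ := h
    exact (opensRange_emb (p := p) (chart := chart) V hV).le ⟨w, rfl⟩

/-- A homogeneous element over a basic open comes from the bigger open up to a unit. -/
theorem exists_res_mul {U : S.Opens} (hU : IsAffineOpen U) (r : Γ(S, U)) {d : ℕ}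
    {b : 𝒮.presheaf.obj (op (S.basicOpen r))} (hb : b ∈ 𝒮.deg (S.basicOpen r) (hU.basicOpen r) d) :
    ∃ f ∈ 𝒮.deg U hU d, ∃ c : 𝒮.presheaf.obj (op (S.basicOpen r)), IsUnit c ∧
      𝒮.res hU (hU.basicOpen r) (S.basicOpen_le r) f = b * c := by
  obtain ⟨k, f, hf, e⟩ := (H81.RelProj.Chart.isLocHom 𝒮 hU r).exists_homogeneous hb
  refine ⟨f, hf, _, IsUnit.pow k ?_, e.symm⟩
  letI := (𝒮.res hU (hU.basicOpen r) (S.basicOpen_le r)).toRingHom.toAlgebra
  haveI : IsLocalization.Away ((𝒮.strZero U hU).hom r : 𝒮.presheaf.obj (op U))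
      (𝒮.presheaf.obj (op (S.basicOpen r))) := H81.RelProj.Chart.isLocHom 𝒮 hU r
  exact IsLocalization.Away.algebraMap_isUnit (S := 𝒮.presheaf.obj (op (S.basicOpen r)))
    ((𝒮.strZero U hU).hom r : 𝒮.presheaf.obj (op U))

theorem basicOpen_mul_unit {A σ : Type u} [CommRing A] [SetLike σ A] [AddSubgroupClass σ A] {𝒜 : ℕ → σ}
    [GradedRing 𝒜] (b : A) {c : A} (hc : IsUnit c) : Proj.basicOpen 𝒜 (b * c) = Proj.basicOpen 𝒜 b := by
  apply Opens.ext
  ext x
  simp only [SetLike.mem_coe, Proj.mem_basicOpen]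
  haveI := x.isPrime
  exact not_congr ⟨fun h => (x.isPrime.mem_or_mem h).resolve_right fun h' =>
    x.isPrime.ne_top (Ideal.eq_top_of_isUnit_mem _ h' hc), fun h => Ideal.mul_mem_right _ _ h⟩

end Groth.Agent.Lib.ProjQ
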