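import Groth.Agent.Lib.ProjQ.Props
import Groth.Agent.Lib.SymAlg.Unique
import Groth.Agent.Lib.SymAlg.Gen
import Groth.Agent.Lib.TensorMod.Gen
import Groth.Prelude.Def_Pic
import Mathlib.Algebra.Polynomial.Basic

/-!
# The relative `Proj` of the symmetric algebra of an invertible module
-/

set_option autoImplicit false
universe u

open CategoryTheory CategoryTheory.Limits AlgebraicGeometry TopologicalSpace Opposite HomogeneousLocalization
open scoped HomogeneousIdeal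
open Groth.Agent.Lib.RelProjBasics.Basic (chartStr)

noncomputable section

namespace Groth.Agent.Lib.ProjQ

variable {X : Scheme.{u}}

/-- `t` is a frame of the graded algebra over `V`: degree `n` is freely generated by `t ^ n`. -/
structure IsFrame (𝒮 : RelProj.QCGrAlg X) (V : X.Opens) (hV : IsAffineOpen V)
    (t : 𝒮.presheaf.obj (op V)) : Prop where
  mem : t ∈ 𝒮.deg V hV 1
  surj : ∀ (n : ℕ) (b : 𝒮.presheaf.obj (op V)), b ∈ 𝒮.deg V hV n → ∃ a, b = (𝒮.str.app (op V)).hom a * t ^ n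
  inj : ∀ (n : ℕ) (a : Γ(X, V)), (𝒮.str.app (op V)).hom a * t ^ n = 0 → a = 0

variable {L : X.Modules} {𝒮 : RelProj.QCGrAlg X} {j : L ⟶ 𝒮.toModule}

open Groth.Agent.Lib.TensorMod in
theorem exists_frame (hL : PicF.IsInvertible L) (hLq : Coh.IsQCoh L) (hj : RelProj.IsGrSymAlg L 𝒮 j)
    {x : X} {W : X.Opens} (hx : x ∈ W) :
    ∃ (V : X.Opens) (hV : IsAffineOpen V) (t : 𝒮.presheaf.obj (op V)),
      x ∈ V ∧ V ≤ W ∧ IsFrame 𝒮 V hV t := by
  obtain ⟨U, e, hxU, he⟩ := Gen.isInvertible_iff.1 hL x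
  obtain ⟨V, hV, hxV, hsub⟩ := exists_isAffineOpen_mem_and_subset (X := X) (x := x) (U := U ⊓ W) ⟨hxU, hx⟩
  haveI : L.IsQuasicoherent := hLq
  letI := SymAlg.Unique.algInst 𝒮.toQCAlg V
  have hVU : V ≤ U := fun y hy => (hsub hy).1
  let eV : Γ(L, V) := L.presheaf.map (homOfLE hVU).op e
  let E : Γ(X, V) ≃ₗ[Γ(X, V)] Γ(L, V) :=
    LinearEquiv.ofBijective (LinearMap.toSpanSingleton _ _ eV) (he V hVU)
  let jl := SymAlg.Unique.jLin 𝒮.toQCAlg j V
  have hE : ∀ a, E a = a • eV := fun a => rfl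
  have hjl : LinearMap.range jl = Submodule.span Γ(X, V) {jl eV} := by
    refine le_antisymm ?_ (Submodule.span_le.2 (Set.singleton_subset_iff.2 ⟨eV, rfl⟩))
    rintro _ ⟨m, rfl⟩
    obtain ⟨a, rfl⟩ := E.surjective m
    rw [hE, map_smul]
    exact Submodule.smul_mem _ _ (Submodule.mem_span_singleton_self _)
  refine ⟨V, hV, jl eV, hxV, fun y hy => (hsub hy).2, hj.2 V hV eV, fun n b hb => ?_, fun n a ha => ?_⟩
  · have h := (SymAlg.Unique.deg_eq hj hV n b).1 hb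
    rw [hjl, Submodule.span_pow, Set.singleton_pow, Submodule.mem_span_singleton] at h
    obtain ⟨a, rfl⟩ := h
    exact ⟨a, rfl⟩
  · let φ : Γ(L, V) →ₗ[Γ(X, V)] Polynomial Γ(X, V) :=
      (LinearMap.toSpanSingleton Γ(X, V) (Polynomial Γ(X, V)) Polynomial.X).comp E.symm.toLinearMap
    let F := (SymAlg.Unique.isSymmetricAlgebra hj.1 hV).lift φ
    have hF : F (jl eV) = Polynomial.X := by
      rw [IsSymmetricAlgebra.lift_eq]
      show E.symm eV • (Polynomial.X : Polynomial Γ(X, V)) = Polynomial.X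
      rw [show E.symm eV = 1 from (LinearEquiv.symm_apply_eq _).2 (by rw [hE, one_smul]), one_smul]
    have h := congrArg F ha
    rw [map_zero, map_mul, map_pow, hF,
      show F ((𝒮.str.app (op V)).hom a) = Polynomial.C a from F.commutes a] at h
    have h' := congrArg (fun q => Polynomial.coeff q n) h
    simpa [Polynomial.coeff_C_mul_X_pow] using h'

variable {PL : Scheme.{u}} {pL : PL ⟶ X}
  {chartL : ∀ (U : X.Opens) (hU : IsAffineOpen U), ((pL ⁻¹ᵁ U : PL.Opens) : Scheme.{u}) ≅ Proj (𝒮.deg U hU)}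

theorem mem_emb_str (hPL : RelProj.IsRelProj 𝒮 pL chartL) {V : X.Opens} (hV : IsAffineOpen V)
    {t : 𝒮.presheaf.obj (op V)} (ht : t ∈ 𝒮.deg V hV 1) (a : Γ(X, V))
    (w : Proj (𝒮.deg V hV)) (hw : w ∈ Proj.basicOpen (𝒮.deg V hV) t) :
    w ∈ Proj.basicOpen (𝒮.deg V hV) ((𝒮.str.app (op V)).hom a * t) ↔
      pL (RelProj.emb pL chartL V hV w) ∈ X.basicOpen a := by
  obtain ⟨z, rfl⟩ := (Proj.opensRange_awayι (𝒮.deg V hV) t ht one_pos).ge hw
  have hat : (𝒮.str.app (op V)).hom a * t ∈ 𝒮.deg V hV 1 := by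
    simpa using SetLike.mul_mem_graded (𝒮.str_mem V hV a) ht
  have e1 : (Proj.awayι (𝒮.deg V hV) t ht one_pos z ∈
      Proj.basicOpen (𝒮.deg V hV) ((𝒮.str.app (op V)).hom a * t)) ↔
      z ∈ PrimeSpectrum.basicOpen (Away.isLocalizationElem ht hat) := by
    rw [← Proj.awayι_preimage_basicOpen _ ht one_pos hat one_pos]
    rfl
  have e2 : Away.isLocalizationElem ht hat =
      fromZeroRingHom (𝒮.deg V hV) (Submonoid.powers t) ((𝒮.strZero V hV).hom a) := by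
    apply val_injective
    rw [Away.val_mk, H81.RelProj.Localize.val_fromZero, Localization.mk_eq_mk_iff, Localization.r_iff_exists]
    refine ⟨1, ?_⟩
    simp [mul_comm]
    rfl
  have e3 : (pL (RelProj.emb pL chartL V hV (Proj.awayι (𝒮.deg V hV) t ht one_pos z)) ∈ X.basicOpen a) ↔
      z ∈ PrimeSpectrum.basicOpen
        (fromZeroRingHom (𝒮.deg V hV) (Submonoid.powers t) ((𝒮.strZero V hV).hom a)) := by
    have h := congr($(std_over (chart := chartL) hPL V hV one_pos t ht) z)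
    rw [show pL (RelProj.emb pL chartL V hV (Proj.awayι (𝒮.deg V hV) t ht one_pos z)) = _ from h,
      Scheme.Hom.comp_apply]
    rw [← Scheme.Hom.mem_preimage, hV.fromSpec_preimage_basicOpen]
    rfl
  rw [e1, e2, e3]

theorem notMem_of_frame (hj : RelProj.IsGrSymAlg L 𝒮 j) (hLq : Coh.IsQCoh L) {V : X.Opens} {hV : IsAffineOpen V}
    {t : 𝒮.presheaf.obj (op V)} (h : IsFrame 𝒮 V hV t) (w : Proj (𝒮.deg V hV)) :
    w ∈ Proj.basicOpen (𝒮.deg V hV) t := by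
  intro hmem
  obtain ⟨e, he⟩ := SymAlg.Gen.exists_not_mem hj hLq hV w
  obtain ⟨a, ha⟩ := h.surj 1 _ (hj.2 V hV e)
  have ha' : QCAlgSub.Basic.jm 𝒮.toQCAlg j V e = (𝒮.str.app (op V)).hom a * t ^ 1 := ha
  apply he
  rw [ha', pow_one]
  exact Ideal.mul_mem_left _ _ hmem

theorem emb_basicOpen_frame (hPL : RelProj.IsRelProj 𝒮 pL chartL) (hj : RelProj.IsGrSymAlg L 𝒮 j)
    (hLq : Coh.IsQCoh L) {V : X.Opens} {hV : IsAffineOpen V} {t : 𝒮.presheaf.obj (op V)}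
    (h : IsFrame 𝒮 V hV t) {d : ℕ} (hd : 0 < d) (a : Γ(X, V)) :
    (RelProj.emb pL chartL V hV) ''ᵁ Proj.basicOpen (𝒮.deg V hV) ((𝒮.str.app (op V)).hom a * t ^ d) =
      pL ⁻¹ᵁ X.basicOpen a := by
  have key : ∀ w, w ∈ Proj.basicOpen (𝒮.deg V hV) ((𝒮.str.app (op V)).hom a * t ^ d) ↔
      pL (RelProj.emb pL chartL V hV w) ∈ X.basicOpen a := fun w => by
    rw [← mem_emb_str hPL hV h.mem a w (notMem_of_frame hj hLq h w), Proj.basicOpen_mul, Proj.basicOpen_mul,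
      Proj.basicOpen_pow _ _ _ hd]
  refine le_antisymm ?_ ?_ <;> intro y hy
  · obtain ⟨w, hw, rfl⟩ := hy
    exact (key w).1 hw
  · obtain ⟨w, rfl⟩ := (opensRange_emb (p := pL) (chart := chartL) V hV).ge (X.basicOpen_le a hy)
    exact ⟨w, (key w).2 hy, rfl⟩

/-- The relative `Proj` of the symmetric algebra of an invertible module is the base. -/
theorem isIso_proj (hL : PicF.IsInvertible L) (hLq : Coh.IsQCoh L) (hj : RelProj.IsGrSymAlg L 𝒮 j)
    (hPL : RelProj.IsRelProj 𝒮 pL chartL) : IsIso pL := by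
  choose V hV t hxV _ ht using fun x : X => exists_frame hL hLq hj (x := x) (W := ⊤) trivial
  refine IsZariskiLocalAtTarget.of_iSup_eq_top (P := MorphismProperty.isomorphisms Scheme.{u}) V
    (top_le_iff.1 fun x _ => Opens.mem_iSup.2 ⟨x, hxV x⟩) fun x => ?_
  obtain ⟨V, hV, t, ht⟩ : ∃ V' hV' t', V' = V x ∧ IsFrame 𝒮 V' hV' t' := ⟨_, hV x, t x, rfl, ht x⟩
  obtain ⟨rfl, ht⟩ := ht
  change IsIso (pL ∣_ V x)
  rw [RelProjBasics.Basic.morphismRestrict_eq hPL (V x) hV]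
  suffices IsIso (chartStr 𝒮 (V x) hV) by infer_instance
  haveI : Epi (Proj.awayι (𝒮.deg (V x) hV) t ht.mem one_pos).base :=
    (TopCat.epi_iff_surjective _).2 fun w =>
      (Proj.opensRange_awayι (𝒮.deg (V x) hV) t ht.mem one_pos).ge (notMem_of_frame hj hLq ht w)
  haveI : IsIso (Proj.awayι (𝒮.deg (V x) hV) t ht.mem one_pos) := IsOpenImmersion.isIso _
  let φ := (fromZeroRingHom (𝒮.deg (V x) hV) (Submonoid.powers t)).comp (𝒮.strZero (V x) hV).hom
  have hφ : Function.Bijective φ := by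
    refine ⟨(injective_iff_map_eq_zero φ).2 fun a ha => ?_, fun z => ?_⟩
    · have h := congrArg HomogeneousLocalization.val ha
      rw [RingHom.comp_apply, H81.RelProj.Localize.val_fromZero, val_zero, Localization.mk_eq_mk',
        IsLocalization.mk'_eq_zero_iff] at h
      obtain ⟨⟨_, k, rfl⟩, hk⟩ := h
      exact ht.inj k a (by rw [mul_comm]; exact hk)
    · obtain ⟨n, b, hb, rfl⟩ := Away.mk_surjective (𝒮.deg (V x) hV) ht.mem z
      rw [smul_eq_mul, mul_one] at hb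
      obtain ⟨a, rfl⟩ := ht.surj n b hb
      refine ⟨a, ?_⟩
      apply val_injective
      rw [RingHom.comp_apply, H81.RelProj.Localize.val_fromZero, Away.val_mk, Localization.mk_eq_mk_iff,
        Localization.r_iff_exists]
      refine ⟨1, ?_⟩
      simp [mul_comm]
      rfl
  haveI : IsIso (Spec.map (CommRingCat.ofHom φ)) :=
    (inferInstance : IsIso (Spec.map (RingEquiv.ofBijective φ hφ).toCommRingCatIso.hom))
  have e : Proj.awayι (𝒮.deg (V x) hV) t ht.mem one_pos ≫ chartStr 𝒮 (V x) hV =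
      Spec.map (CommRingCat.ofHom φ) := by
    rw [chartStr, Proj.awayι_toSpecZero_assoc, ← Spec.map_comp]
    rfl
  haveI : IsIso (Proj.awayι (𝒮.deg (V x) hV) t ht.mem one_pos ≫ chartStr 𝒮 (V x) hV) := e ▸ inferInstance
  exact IsIso.of_isIso_comp_left (Proj.awayι (𝒮.deg (V x) hV) t ht.mem one_pos) _

/-- A section is a generator near a point exactly when the point of `Proj` lies in its standard open. -/
theorem mem_emb_iff (hL : PicF.IsInvertible L) (hLq : Coh.IsQCoh L) (hj : RelProj.IsGrSymAlg L 𝒮 j)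
    (hPL : RelProj.IsRelProj 𝒮 pL chartL) {W : X.Opens} {d : ℕ} (hd : 0 < d)
    (b : ∀ (V : X.Opens) (_ : IsAffineOpen V) (_ : V ≤ W), 𝒮.presheaf.obj (op V))
    (hb : ∀ V hV hVW, b V hV hVW ∈ 𝒮.deg V hV d)
    (hres : ∀ V hV hVW V' hV' hVW' (i : V' ≤ V), 𝒮.res hV hV' i (b V hV hVW) = b V' hV' hVW')
    (x : PL) (U' : X.Opens) (hU' : IsAffineOpen U') (hU'W : U' ≤ W) (hx : pL x ∈ U') :
    x ∈ (RelProj.emb pL chartL U' hU') ''ᵁ Proj.basicOpen (𝒮.deg U' hU') (b U' hU' hU'W) ↔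
      ∃ (V : X.Opens) (hV : IsAffineOpen V) (hVW : V ≤ W), pL x ∈ V ∧
        (𝒮.deg V hV d : Set (𝒮.presheaf.obj (op V))) ⊆ (Ideal.span {b V hV hVW} : Set _) := by
  constructor
  · intro hxb
    obtain ⟨V₁, hV₁, t, hxV₁, hV₁U, ht⟩ := exists_frame hL hLq hj hx
    obtain ⟨a, ha⟩ := ht.surj d _ (hb V₁ hV₁ (hV₁U.trans hU'W))
    have h1 : x ∈ (RelProj.emb pL chartL V₁ hV₁) ''ᵁ
        Proj.basicOpen (𝒮.deg V₁ hV₁) (𝒮.res hU' hV₁ hV₁U (b U' hU' hU'W)) :=
      (image_res (p := pL) (chart := chartL) hPL hU' hV₁ hV₁U _).ge ⟨hxb, hxV₁⟩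
    rw [hres U' hU' hU'W V₁ hV₁ (hV₁U.trans hU'W) hV₁U, ha, emb_basicOpen_frame hPL hj hLq ht hd] at h1
    refine ⟨X.basicOpen a, hV₁.basicOpen a, (X.basicOpen_le a).trans (hV₁U.trans hU'W), h1, fun c hc => ?_⟩
    obtain ⟨f, hf, v, hv, hfv⟩ := exists_res_mul hV₁ a hc
    obtain ⟨a', rfl⟩ := ht.surj d f hf
    obtain ⟨w, hw⟩ : IsUnit ((𝒮.str.app (op (X.basicOpen a))).hom
        ((X.presheaf.map (homOfLE (X.basicOpen_le a)).op).hom a)) :=
      (RingedSpace.isUnit_res_basicOpen _ a).map _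
    obtain ⟨v', rfl⟩ := hv
    refine Ideal.mem_span_singleton'.2
      ⟨(𝒮.str.app (op (X.basicOpen a))).hom ((X.presheaf.map (homOfLE (X.basicOpen_le a)).op).hom a') *
        ↑w⁻¹ * ↑v'⁻¹, ?_⟩
    rw [← hres V₁ hV₁ (hV₁U.trans hU'W) _ (hV₁.basicOpen a) _ (X.basicOpen_le a), ha, map_mul,
      show 𝒮.res hV₁ (hV₁.basicOpen a) (X.basicOpen_le a) ((𝒮.str.app (op V₁)).hom a) = ↑w from
        (H81.RelProj.Chart.str_res 𝒮 (X.basicOpen_le a) a).trans hw.symm]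
    rw [map_mul, show 𝒮.res hV₁ (hV₁.basicOpen a) (X.basicOpen_le a) ((𝒮.str.app (op V₁)).hom a') = _ from
        H81.RelProj.Chart.str_res 𝒮 (X.basicOpen_le a) a'] at hfv
    calc _ = (↑w⁻¹ * ↑w) * (((𝒮.str.app (op (X.basicOpen a))).hom
            ((X.presheaf.map (homOfLE (X.basicOpen_le a)).op).hom a') *
            𝒮.res hV₁ (hV₁.basicOpen a) (X.basicOpen_le a) (t ^ d)) * ↑v'⁻¹) := by ring
      _ = c := by rw [hfv, Units.inv_mul, one_mul, Units.mul_inv_cancel_right]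
  · rintro ⟨V, hV, hVW, hxV, hsub⟩
    obtain ⟨V₂, hV₂, hxV₂, hsub₂⟩ := exists_isAffineOpen_mem_and_subset (X := X) (x := pL x) (U := V ⊓ U') ⟨hxV, hx⟩
    have i1 : V₂ ≤ V := fun y hy => (hsub₂ hy).1
    have i2 : V₂ ≤ U' := fun y hy => (hsub₂ hy).2
    obtain ⟨w, rfl⟩ := (opensRange_emb (p := pL) (chart := chartL) V hV).ge hxV
    have hw : w ∈ Proj.basicOpen (𝒮.deg V hV) (b V hV hVW) := by
      intro hmem
      obtain ⟨e, he⟩ := SymAlg.Gen.exists_not_mem hj hLq hV w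
      obtain ⟨c, hc⟩ := Ideal.mem_span_singleton'.1 (hsub (show QCAlgSub.Basic.jm 𝒮.toQCAlg j V e ^ d ∈ 𝒮.deg V hV d by
        simpa using SetLike.pow_mem_graded d
          (show QCAlgSub.Basic.jm 𝒮.toQCAlg j V e ∈ 𝒮.deg V hV 1 from hj.2 V hV e)))
      exact he (w.isPrime.mem_of_pow_mem d (hc ▸ Ideal.mul_mem_left _ _ hmem))
    have h2 : RelProj.emb pL chartL V hV w ∈ (RelProj.emb pL chartL V₂ hV₂) ''ᵁ
        Proj.basicOpen (𝒮.deg V₂ hV₂) (𝒮.res hV hV₂ i1 (b V hV hVW)) :=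
      (image_res (p := pL) (chart := chartL) hPL hV hV₂ i1 _).ge ⟨⟨w, hw, rfl⟩, hxV₂⟩
    rw [hres V hV hVW V₂ hV₂ (i2.trans hU'W) i1, ← hres U' hU' hU'W V₂ hV₂ (i2.trans hU'W) i2] at h2
    exact ((image_res (p := pL) (chart := chartL) hPL hU' hV₂ i2 _).le h2).1

end Groth.Agent.Lib.ProjQ
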