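import Groth.Agent.Lib.ProjQ.Invertible

/-!
# Sections of the symmetric algebra of an invertible module over quasi-compact opens
-/

set_option autoImplicit false
universe u

open CategoryTheory CategoryTheory.Limits AlgebraicGeometry TopologicalSpace Opposite HomogeneousLocalization
open scoped HomogeneousIdeal

noncomputable section

namespace Groth.Agent.Lib.ProjQ.SecAlg

variable {X : Scheme.{u}} {L : X.Modules} {𝒮 : RelProj.QCGrAlg X} {j : L ⟶ 𝒮.toModule}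

/-- Restriction of a section of the algebra. -/
abbrev rz {V W : X.Opens} (h : V ≤ W) (z : 𝒮.presheaf.obj (op W)) : 𝒮.presheaf.obj (op V) :=
  (𝒮.presheaf.map (homOfLE h).op).hom z

theorem rz_rz {V W U : X.Opens} (h : V ≤ W) (h' : W ≤ U) (z : 𝒮.presheaf.obj (op U)) :
    rz h (rz h' z) = rz (h.trans h') z :=
  congr($((𝒮.presheaf.map_comp (homOfLE h').op (homOfLE h).op).symm) z)

theorem rz_self {W : X.Opens} (h : W ≤ W) (z : 𝒮.presheaf.obj (op W)) : rz h z = z :=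
  congr($(𝒮.presheaf.map_id (op W)) z)

theorem rz_str {V W : X.Opens} (h : V ≤ W) (a : Γ(X, W)) :
    rz h ((𝒮.str.app (op W)).hom a) = (𝒮.str.app (op V)).hom ((X.presheaf.map (homOfLE h).op).hom a) :=
  H81.RelProj.Chart.str_res 𝒮 h a

theorem eq_of_cover {ι : Type*} {W : X.Opens} (V : ι → X.Opens) (hV : ∀ i, V i ≤ W) (hcov : W ≤ iSup V)
    (z z' : 𝒮.presheaf.obj (op W)) (h : ∀ i, rz (hV i) z = rz (hV i) z') : z = z' :=
  TopCat.Sheaf.eq_of_locally_eq' (⟨𝒮.presheaf, 𝒮.isSheaf⟩ : TopCat.Sheaf CommRingCat.{u} X) V W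
    (fun i => homOfLE (hV i)) hcov z z' h

theorem exists_glue {ι : Type*} {W : X.Opens} (V : ι → X.Opens) (hV : ∀ i, V i ≤ W) (hcov : W ≤ iSup V)
    (z : ∀ i, 𝒮.presheaf.obj (op (V i)))
    (h : ∀ i k, rz (inf_le_left : V i ⊓ V k ≤ V i) (z i) = rz inf_le_right (z k)) :
    ∃ w, ∀ i, rz (hV i) w = z i := by
  obtain ⟨w, hw, -⟩ := TopCat.Sheaf.existsUnique_gluing' (⟨𝒮.presheaf, 𝒮.isSheaf⟩ : TopCat.Sheaf CommRingCat.{u} X)
    V W (fun i => homOfLE (hV i)) hcov z h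
  exact ⟨w, hw⟩

/-- A section of degree `d` on every affine open. -/
def IsHom (𝒮 : RelProj.QCGrAlg X) (d : ℕ) (W : X.Opens) (z : 𝒮.presheaf.obj (op W)) : Prop :=
  ∀ (V : X.Opens) (hV : IsAffineOpen V) (h : V ≤ W), rz h z ∈ 𝒮.deg V hV d

/-- A section of degree `d` near every point. -/
def IsLocHom (𝒮 : RelProj.QCGrAlg X) (d : ℕ) (W : X.Opens) (z : 𝒮.presheaf.obj (op W)) : Prop :=
  ∀ x ∈ W, ∃ (V : X.Opens) (hV : IsAffineOpen V) (h : V ≤ W), x ∈ V ∧ rz h z ∈ 𝒮.deg V hV d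

/-- The open where a section of degree `d` generates. -/
def loc (𝒮 : RelProj.QCGrAlg X) (d : ℕ) (W : X.Opens) (z : 𝒮.presheaf.obj (op W)) : X.Opens :=
  sSup {V | ∃ (hV : IsAffineOpen V) (h : V ≤ W),
    (𝒮.deg V hV d : Set (𝒮.presheaf.obj (op V))) ⊆ (Ideal.span {rz h z} : Set _)}

theorem mem_loc {d : ℕ} {W : X.Opens} {z : 𝒮.presheaf.obj (op W)} {x : X} :
    x ∈ loc 𝒮 d W z ↔ ∃ (V : X.Opens) (hV : IsAffineOpen V) (h : V ≤ W), x ∈ V ∧
      (𝒮.deg V hV d : Set (𝒮.presheaf.obj (op V))) ⊆ (Ideal.span {rz h z} : Set _) := by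
  rw [loc, Opens.mem_sSup]
  exact ⟨fun ⟨V, ⟨hV, h, hs⟩, hx⟩ => ⟨V, hV, h, hx, hs⟩, fun ⟨V, hV, h, hx, hs⟩ => ⟨V, ⟨hV, h, hs⟩, hx⟩⟩

theorem loc_le (d : ℕ) (W : X.Opens) (z : 𝒮.presheaf.obj (op W)) : loc 𝒮 d W z ≤ W :=
  sSup_le fun _ ⟨_, h, _⟩ => h

theorem exists_frames (hL : PicF.IsInvertible L) (hLq : Coh.IsQCoh L) (hj : RelProj.IsGrSymAlg L 𝒮 j)
    {W : X.Opens} (hW : IsCompact (W : Set X)) :
    ∃ (N : ℕ) (V : Fin N → X.Opens) (hV : ∀ i, IsAffineOpen (V i))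
      (t : ∀ i, 𝒮.presheaf.obj (op (V i))), (∀ i, IsFrame 𝒮 (V i) (hV i) (t i)) ∧ (∀ i, V i ≤ W) ∧ W ≤ iSup V := by
  choose V hV t hxV hVW ht using fun x : W => exists_frame hL hLq hj (x := x.1) x.2
  obtain ⟨s, hs⟩ := hW.elim_finite_subcover (fun x => (V x : Set X)) (fun x => (V x).isOpen)
    fun y hy => Set.mem_iUnion.2 ⟨⟨y, hy⟩, hxV ⟨y, hy⟩⟩
  refine ⟨s.card, fun i => V (s.equivFin.symm i), fun i => hV _, fun i => t _, fun i => ht _, fun i => hVW _,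
    fun y hy => ?_⟩
  obtain ⟨x, hx, hyx⟩ := Set.mem_iUnion₂.1 (hs hy)
  exact Opens.mem_iSup.2 ⟨s.equivFin ⟨x, hx⟩, by simpa using hyx⟩

/-- On an affine open, a section over a basic open is killed by a power of the function. -/
theorem exists_str_pow_mul_eq_zero {V : X.Opens} (hV : IsAffineOpen V) (a : Γ(X, V))
    (z : 𝒮.presheaf.obj (op V)) (h : rz (X.basicOpen_le a) z = 0) :
    ∃ k : ℕ, (𝒮.str.app (op V)).hom a ^ k * z = 0 := by
  letI := (𝒮.res hV (hV.basicOpen a) (X.basicOpen_le a)).toRingHom.toAlgebra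
  haveI : IsLocalization.Away ((𝒮.str.app (op V)).hom a) (𝒮.presheaf.obj (op (X.basicOpen a))) :=
    H81.RelProj.Chart.isLocHom 𝒮 hV a
  obtain ⟨⟨_, k, rfl⟩, hk⟩ := (IsLocalization.map_eq_zero_iff (Submonoid.powers ((𝒮.str.app (op V)).hom a))
    (𝒮.presheaf.obj (op (X.basicOpen a))) z).1 h
  exact ⟨k, hk⟩

variable {PL : Scheme.{u}} {pL : PL ⟶ X}
  {chartL : ∀ (U : X.Opens) (hU : IsAffineOpen U), ((pL ⁻¹ᵁ U : PL.Opens) : Scheme.{u}) ≅ Proj (𝒮.deg U hU)}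
  (hL : PicF.IsInvertible L) (hLq : Coh.IsQCoh L) (hj : RelProj.IsGrSymAlg L 𝒮 j)
  (hPL : RelProj.IsRelProj 𝒮 pL chartL)

include hL hLq hj hPL in
/-- Points of `Proj` in the standard open of a section. -/
theorem mem_emb_iff_mem_loc {d : ℕ} (hd : 0 < d) {W : X.Opens} (z : 𝒮.presheaf.obj (op W))
    (hz : IsHom 𝒮 d W z) (x : PL) (U' : X.Opens) (hU' : IsAffineOpen U') (hle : U' ≤ W) (hx : pL x ∈ U') :
    x ∈ (RelProj.emb pL chartL U' hU') ''ᵁ Proj.basicOpen (𝒮.deg U' hU') (rz hle z) ↔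
      pL x ∈ loc 𝒮 d W z := by
  rw [mem_loc]
  exact mem_emb_iff hL hLq hj hPL hd (W := W) (fun V _ h => rz h z) (fun V hV h => hz V hV h)
    (fun V _ _ V' _ _ i => rz_rz i _ z) x U' hU' hle hx

include hL hLq hj hPL in
/-- In a frame the locus is the non-vanishing locus of the coordinate. -/
theorem loc_inf_frame {d : ℕ} (hd : 0 < d) {W : X.Opens} (z : 𝒮.presheaf.obj (op W))
    (hz : IsHom 𝒮 d W z) {V : X.Opens} {hV : IsAffineOpen V} {t : 𝒮.presheaf.obj (op V)}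
    (ht : IsFrame 𝒮 V hV t) (h : V ≤ W) {a : Γ(X, V)} (ha : rz h z = (𝒮.str.app (op V)).hom a * t ^ d) :
    loc 𝒮 d W z ⊓ V = X.basicOpen a := by
  haveI := isIso_proj hL hLq hj hPL
  apply Opens.ext
  ext x
  obtain ⟨y, rfl⟩ := pL.homeomorph.surjective x
  change pL y ∈ loc 𝒮 d W z ∧ pL y ∈ V ↔ pL y ∈ X.basicOpen a
  have key : pL y ∈ V → (pL y ∈ loc 𝒮 d W z ↔ pL y ∈ X.basicOpen a) := fun hy => by
    rw [← mem_emb_iff_mem_loc hL hLq hj hPL hd z hz y V hV h hy, ha, emb_basicOpen_frame hPL hj hLq ht hd]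
    rfl
  exact ⟨fun ⟨h1, h2⟩ => (key h2).1 h1, fun h1 => ⟨(key (X.basicOpen_le a h1)).2 h1, X.basicOpen_le a h1⟩⟩

include hL hLq hj hPL in
/-- A section vanishing on the locus of `σ` is killed by a power of `σ`. -/
theorem exists_pow_mul_eq_zero {n : ℕ} (hn : 0 < n) {T : X.Opens} (σ : 𝒮.presheaf.obj (op T))
    (hσ : IsHom 𝒮 n T σ) {W : X.Opens} (hWT : W ≤ T) (hW : IsCompact (W : Set X))
    (c : 𝒮.presheaf.obj (op W)) (hc : rz (inf_le_left : W ⊓ loc 𝒮 n T σ ≤ W) c = 0) :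
    ∃ k : ℕ, rz hWT σ ^ k * c = 0 := by
  obtain ⟨N, V, hV, t, ht, hVW, hcov⟩ := exists_frames hL hLq hj hW
  choose a ha using fun i => (ht i).surj n _ (hσ (V i) (hV i) ((hVW i).trans hWT))
  have h1 : ∀ i, ∀ᶠ k in Filter.atTop, rz (hVW i) (rz hWT σ ^ k * c) = 0 := fun i => by
    have hb : X.basicOpen (a i) ≤ W ⊓ loc 𝒮 n T σ := by
      rw [← loc_inf_frame hL hLq hj hPL hn σ hσ (ht i) ((hVW i).trans hWT) (ha i)]
      exact le_inf (inf_le_right.trans (hVW i)) inf_le_left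
    have h0 : rz (X.basicOpen_le (a i)) (rz (hVW i) c) = 0 := by
      rw [rz_rz, show rz ((X.basicOpen_le (a i)).trans (hVW i)) c = rz hb (rz inf_le_left c) from
        (rz_rz _ _ c).symm, hc, rz, map_zero]
    obtain ⟨m, hm⟩ := exists_str_pow_mul_eq_zero (hV i) (a i) _ h0
    refine Filter.eventually_atTop.2 ⟨m, fun k hk => ?_⟩
    obtain ⟨l, rfl⟩ := Nat.exists_eq_add_of_le hk
    rw [show rz (hVW i) (rz hWT σ ^ (m + l) * c) = rz (hVW i) (rz hWT σ) ^ (m + l) * rz (hVW i) c by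
      simp only [rz, map_mul, map_pow], rz_rz, ha i]
    calc _ = ((𝒮.str.app (op (V i))).hom (a i) ^ m * rz (hVW i) c) *
          ((𝒮.str.app (op (V i))).hom (a i) ^ l * t i ^ (n * (m + l))) := by ring
      _ = 0 := by rw [hm, zero_mul]
  obtain ⟨k, hk⟩ := (Filter.eventually_all.2 h1).exists
  refine ⟨k, eq_of_cover V hVW hcov _ _ fun i => (hk i).trans ?_⟩
  exact (map_zero _).symm

include hL hLq hj hPL in
/-- A function on the locus of `σ`, times a power of `σ`, extends. -/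
theorem exists_extension {n : ℕ} (hn : 0 < n) {T : X.Opens} (hT : IsCompact (T : Set X))
    (hqs : ∀ V V' : X.Opens, IsAffineOpen V → IsAffineOpen V' → V ≤ T → V' ≤ T →
      IsCompact ((V ⊓ V' : X.Opens) : Set X))
    (σ : 𝒮.presheaf.obj (op T)) (hσ : IsHom 𝒮 n T σ) (c : Γ(X, loc 𝒮 n T σ)) :
    ∃ m : ℕ, 0 < m ∧ ∃ z : 𝒮.presheaf.obj (op T), IsLocHom 𝒮 (m * n) T z ∧
      rz (loc_le n T σ) z = (𝒮.str.app (op (loc 𝒮 n T σ))).hom c * rz (loc_le n T σ) σ ^ m := by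
  obtain ⟨N, V, hV, t, ht, hVT, hcov⟩ := exists_frames hL hLq hj hT
  choose a ha using fun i => (ht i).surj n _ (hσ (V i) (hV i) (hVT i))
  have hG : ∀ i, X.basicOpen (a i) ≤ loc 𝒮 n T σ := fun i => by
    rw [← loc_inf_frame hL hLq hj hPL hn σ hσ (ht i) (hVT i) (ha i)]; exact inf_le_left
  -- local fractions
  have h1 : ∀ i, ∀ᶠ m in Filter.atTop, ∃ b : Γ(X, V i),
      (X.presheaf.map (homOfLE (X.basicOpen_le (a i))).op).hom b =
        (X.presheaf.map (homOfLE (X.basicOpen_le (a i))).op).hom (a i) ^ m *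
          (X.presheaf.map (homOfLE (hG i)).op).hom c := fun i => by
    haveI := (hV i).isLocalization_basicOpen (a i)
    obtain ⟨⟨b, ⟨_, m, rfl⟩⟩, hb⟩ := IsLocalization.surj (Submonoid.powers (a i))
      ((X.presheaf.map (homOfLE (hG i)).op).hom c)
    refine Filter.eventually_atTop.2 ⟨m, fun k hk => ⟨a i ^ (k - m) * b, ?_⟩⟩
    simp only [RingHom.algebraMap_toAlgebra, map_pow] at hb
    rw [map_mul, map_pow, show (X.presheaf.map (homOfLE (X.basicOpen_le (a i))).op).hom b = _ from hb.symm,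
      ← mul_assoc, mul_comm _ ((X.presheaf.map (homOfLE (hG i)).op).hom c), mul_assoc, ← pow_add,
      Nat.sub_add_cancel hk, mul_comm]
  obtain ⟨m, hm⟩ := (Filter.eventually_all.2 h1).exists
  choose b hb using hm
  let d : ∀ i, 𝒮.presheaf.obj (op (V i)) := fun i => (𝒮.str.app (op (V i))).hom (b i) * t i ^ (n * m)
  -- on the locus the local sections are `c σ^m`
  have hd : ∀ i (W : X.Opens) (hWV : W ≤ V i) (hWG : W ≤ loc 𝒮 n T σ),
      rz hWV (d i) = rz hWG ((𝒮.str.app (op (loc 𝒮 n T σ))).hom c * rz (loc_le n T σ) σ ^ m) := by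
    intro i W hWV hWG
    have hWD : W ≤ X.basicOpen (a i) := by
      rw [← loc_inf_frame hL hLq hj hPL hn σ hσ (ht i) (hVT i) (ha i)]; exact le_inf hWG hWV
    have e : rz (X.basicOpen_le (a i)) (d i) =
        rz (hG i) ((𝒮.str.app (op (loc 𝒮 n T σ))).hom c * rz (loc_le n T σ) σ ^ m) := by
      have e1 : rz (hG i) (rz (loc_le n T σ) σ) = rz (X.basicOpen_le (a i)) (rz (hVT i) σ) := by
        rw [rz_rz, rz_rz]
      rw [rz, rz, map_mul, map_mul, map_pow, map_pow, show (𝒮.presheaf.map (homOfLE (hG i)).op).hom _ = _ from e1,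
        ha i, rz, map_mul, map_pow]
      rw [show (𝒮.presheaf.map (homOfLE (X.basicOpen_le (a i))).op).hom ((𝒮.str.app (op (V i))).hom (b i)) = _ from
          rz_str _ _, show (𝒮.presheaf.map (homOfLE (X.basicOpen_le (a i))).op).hom ((𝒮.str.app (op (V i))).hom (a i)) = _ from
          rz_str _ _, show (𝒮.presheaf.map (homOfLE (hG i)).op).hom ((𝒮.str.app (op (loc 𝒮 n T σ))).hom c) = _ from
          rz_str _ _, hb i, map_mul, map_pow, mul_pow, ← pow_mul]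
      ring
    rw [← rz_rz hWD (X.basicOpen_le (a i)), e, rz_rz]
  -- the overlaps agree after multiplying by a power of `σ`
  have h2 : ∀ p : Fin N × Fin N, ∀ᶠ e in Filter.atTop,
      rz (inf_le_left : V p.1 ⊓ V p.2 ≤ V p.1) (rz (hVT p.1) σ ^ e * d p.1) =
        rz inf_le_right (rz (hVT p.2) σ ^ e * d p.2) := fun p => by
    obtain ⟨k, hk⟩ := exists_pow_mul_eq_zero hL hLq hj hPL hn σ hσ
      (W := V p.1 ⊓ V p.2) (inf_le_left.trans (hVT p.1)) (hqs _ _ (hV p.1) (hV p.2) (hVT p.1) (hVT p.2))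
      (rz inf_le_left (d p.1) - rz inf_le_right (d p.2)) (by
        rw [rz, map_sub, sub_eq_zero]
        change rz inf_le_left (rz _ (d p.1)) = rz inf_le_left (rz _ (d p.2))
        rw [rz_rz, rz_rz, hd p.1 _ (inf_le_left.trans inf_le_left) inf_le_right,
          hd p.2 _ (inf_le_left.trans inf_le_right) inf_le_right])
    refine Filter.eventually_atTop.2 ⟨k, fun e he => ?_⟩
    obtain ⟨l, rfl⟩ := Nat.exists_eq_add_of_le he
    rw [← sub_eq_zero]
    simp only [rz, map_mul, map_pow]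
    change rz inf_le_left (rz (hVT p.1) σ) ^ (k + l) * _ - rz inf_le_right (rz (hVT p.2) σ) ^ (k + l) * _ = 0
    rw [rz_rz, rz_rz, ← mul_sub, pow_add, mul_comm (_ ^ k), mul_assoc]
    exact mul_eq_zero_of_right _ hk
  obtain ⟨e, he, he1⟩ := ((Filter.eventually_all.2 h2).and (Filter.eventually_ge_atTop 1)).exists
  obtain ⟨z, hz⟩ := exists_glue V hVT hcov (fun i => rz (hVT i) σ ^ e * d i) fun i k => he (i, k)
  refine ⟨e + m, Nat.add_pos_left he1 m, z, fun x hx => ?_, ?_⟩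
  · obtain ⟨i, hi⟩ := Opens.mem_iSup.1 (hcov hx)
    refine ⟨V i, hV i, hVT i, hi, ?_⟩
    rw [hz i, add_mul]
    refine SetLike.mul_mem_graded (SetLike.pow_mem_graded e (hσ _ (hV i) _)) ?_
    simpa [d, mul_comm n m] using SetLike.mul_mem_graded (𝒮.str_mem _ (hV i) (b i))
      (SetLike.pow_mem_graded (n * m) (ht i).mem)
  · refine eq_of_cover (fun i => V i ⊓ loc 𝒮 n T σ) (fun i => inf_le_right) (fun x hx => ?_) _ _ fun i => ?_
    · obtain ⟨i, hi⟩ := Opens.mem_iSup.1 (hcov (loc_le n T σ hx))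
      exact Opens.mem_iSup.2 ⟨i, hi, hx⟩
    · rw [rz_rz, ← rz_rz (inf_le_left : V i ⊓ loc 𝒮 n T σ ≤ V i) (hVT i) z, hz i,
        show rz (inf_le_left : V i ⊓ loc 𝒮 n T σ ≤ V i) (rz (hVT i) σ ^ e * d i) =
          rz inf_le_left (rz (hVT i) σ) ^ e * rz inf_le_left (d i) by simp only [rz, map_mul, map_pow],
        hd i _ inf_le_left inf_le_right]
      simp only [rz, map_mul, map_pow]
      change rz inf_le_left (rz (hVT i) σ) ^ e * (_ * rz inf_le_right (rz (loc_le n T σ) σ) ^ m) =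
        _ * rz inf_le_right (rz (loc_le n T σ) σ) ^ (e + m)
      rw [rz_rz, rz_rz]
      ring

section preimage

variable {Y : Scheme.{u}} {q : X ⟶ Y} {𝒜 : RelProj.QCGrAlg Y} (u : RelProj.QGrHom q 𝒜 𝒮)

theorem rz_app {U : Y.Opens} {V : X.Opens} (h : V ≤ q ⁻¹ᵁ U) (a : 𝒜.presheaf.obj (op U)) :
    rz h ((u.app U).hom a) = (u.appLE U V h).hom a := rfl

theorem isHom_app {U : Y.Opens} (hU : IsAffineOpen U) {d : ℕ} {a : 𝒜.presheaf.obj (op U)}
    (ha : a ∈ 𝒜.deg U hU d) : IsHom 𝒮 d (q ⁻¹ᵁ U) ((u.app U).hom a) :=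
  fun V hV h => u.map_mem U hU V hV h ha

/-- Along a bijection on sections, a homogeneous section comes from a homogeneous element. -/
theorem exists_deg_preimage {U : Y.Opens} (hU : IsAffineOpen U) (hu : Function.Bijective (u.app U).hom)
    {d : ℕ} {z : 𝒮.presheaf.obj (op (q ⁻¹ᵁ U))} (hz : IsLocHom 𝒮 d (q ⁻¹ᵁ U) z) :
    ∃ a ∈ 𝒜.deg U hU d, (u.app U).hom a = z := by
  classical
  obtain ⟨a, rfl⟩ := hu.2 z
  refine ⟨a, ?_, rfl⟩
  choose V hV h hxV hmem using fun x : (q ⁻¹ᵁ U : X.Opens) => hz x.1 x.2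
  suffices hzero : ∀ k, k ≠ d → GradedRing.proj (𝒜.deg U hU) k a = 0 by
    rw [← DirectSum.sum_support_decompose (𝒜.deg U hU) a]
    refine sum_mem fun k _ => ?_
    by_cases hk : k = d
    · exact hk ▸ SetLike.coe_mem _
    · rw [show ((DirectSum.decompose (𝒜.deg U hU) a) k : 𝒜.presheaf.obj (op U)) = 0 from hzero k hk]
      exact zero_mem _
  intro k hk
  refine hu.1 ?_
  rw [map_zero]
  refine eq_of_cover V h (fun x hx => Opens.mem_iSup.2 ⟨⟨x, hx⟩, hxV ⟨x, hx⟩⟩) _ _ fun x => ?_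
  rw [show rz (h x) (0 : 𝒮.presheaf.obj (op (q ⁻¹ᵁ U))) = 0 from map_zero _]
  let φ := u.gradedAt U hU (V x) (hV x) (h x)
  have e1 : GradedRing.proj (𝒮.deg (V x) (hV x)) k (φ a) = φ (GradedRing.proj (𝒜.deg U hU) k a) := by
    conv_lhs => rw [← DirectSum.sum_support_decompose (𝒜.deg U hU) a, map_sum, map_sum]
    rw [Finset.sum_eq_single k]
    · exact DirectSum.decompose_of_mem_same _ (φ.map_mem (SetLike.coe_mem _))
    · intro i _ hi
      exact DirectSum.decompose_of_mem_ne _ (φ.map_mem (SetLike.coe_mem _)) hi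
    · intro hk'
      rw [DFinsupp.notMem_support_iff.1 hk', ZeroMemClass.coe_zero, map_zero, map_zero]
  exact e1.symm.trans (DirectSum.decompose_of_mem_ne _ (hmem x) (Ne.symm hk))

end preimage

end Groth.Agent.Lib.ProjQ.SecAlg
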