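import Groth.Agent.Lib.ProjQ.SecAlg
import Groth.Agent.Lib.Ample.Pow
import Groth.Agent.Lib.Ample.Extend
import Groth.Agent.Lib.Ample.Restrict
import Groth.Agent.Lib.Ample.RelAmple

/-!
# Tensor powers inside the symmetric algebra; ampleness through sections of the algebra
-/

set_option autoImplicit false
universe u

open CategoryTheory CategoryTheory.Limits AlgebraicGeometry TopologicalSpace Opposite

noncomputable section

namespace Groth.Agent.Lib.ProjQ.SecAlg

open TensorMod TensorMod.Basic TensorMod.Free TensorMod.Dual TensorMod.Gen TensorMod.Pullback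
open Ample.GenLocus Ample.Extend

variable {X : Scheme.{u}} {L : X.Modules} {𝒮 : RelProj.QCGrAlg X}

/-- Degree is local on an affine open. -/
theorem mem_deg_of_isLocHom {d : ℕ} {V : X.Opens} (hV : IsAffineOpen V) {z : 𝒮.presheaf.obj (op V)}
    (hz : IsLocHom 𝒮 d V z) : z ∈ 𝒮.deg V hV d := by
  classical
  choose W hW h hxW hmem using fun x : V => hz x.1 x.2
  rw [← DirectSum.sum_support_decompose (𝒮.deg V hV) z]
  refine sum_mem fun k _ => ?_
  by_cases hk : k = d
  · exact hk ▸ SetLike.coe_mem _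
  suffices e : ((DirectSum.decompose (𝒮.deg V hV) z) k : 𝒮.presheaf.obj (op V)) = 0 by
    rw [e]; exact zero_mem _
  refine eq_of_cover W h (fun x hx => Opens.mem_iSup.2 ⟨⟨x, hx⟩, hxW ⟨x, hx⟩⟩) _ _ fun x => ?_
  rw [show rz (h x) (0 : 𝒮.presheaf.obj (op V)) = 0 from map_zero _]
  let φ := 𝒮.res hV (hW x) (h x)
  have e1 : GradedRing.proj (𝒮.deg (W x) (hW x)) k (φ z) =
      φ ((DirectSum.decompose (𝒮.deg V hV) z) k : 𝒮.presheaf.obj (op V)) := by
    conv_lhs => rw [← DirectSum.sum_support_decompose (𝒮.deg V hV) z, map_sum, map_sum]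
    rw [Finset.sum_eq_single k]
    · exact DirectSum.decompose_of_mem_same _ (φ.map_mem (SetLike.coe_mem _))
    · intro i _ hi
      exact DirectSum.decompose_of_mem_ne _ (φ.map_mem (SetLike.coe_mem _)) hi
    · intro hk'
      rw [DFinsupp.notMem_support_iff.1 hk', ZeroMemClass.coe_zero, map_zero, map_zero]
  exact e1.symm.trans (DirectSum.decompose_of_mem_ne _ (hmem x) (Ne.symm hk))

theorem isHom_of_isLocHom {d : ℕ} {W : X.Opens} {z : 𝒮.presheaf.obj (op W)} (hz : IsLocHom 𝒮 d W z) :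
    IsHom 𝒮 d W z := fun V hV h => mem_deg_of_isLocHom hV fun x hx => by
  obtain ⟨V', hV', h', hxV', hm⟩ := hz x (h hx)
  obtain ⟨V₂, hV₂, hxV₂, hsub⟩ := exists_isAffineOpen_mem_and_subset (X := X) (x := x) (U := V' ⊓ V) ⟨hxV', hx⟩
  have i1 : V₂ ≤ V' := fun y hy => (hsub hy).1
  have i2 : V₂ ≤ V := fun y hy => (hsub hy).2
  refine ⟨V₂, hV₂, i2, hxV₂, ?_⟩
  have e := 𝒮.map_mem hV' hV₂ i1 hm
  rwa [show (𝒮.presheaf.map (homOfLE i1).op).hom (rz h' z) = rz i2 (rz h z) from
    (rz_rz i1 h' z).trans (rz_rz i2 h z).symm] at e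

/-- A generator of `L` over an affine open gives a frame. -/
theorem isFrame_of_gen {j : L ⟶ 𝒮.toModule} (hLq : Coh.IsQCoh L) (hj : RelProj.IsGrSymAlg L 𝒮 j)
    {V : X.Opens} (hV : IsAffineOpen V) {e : Γ(L, V)} (he : IsGen L V e) :
    IsFrame 𝒮 V hV (j.app V e) := by
  haveI : L.IsQuasicoherent := hLq
  letI := SymAlg.Unique.algInst 𝒮.toQCAlg V
  have he' : Function.Bijective fun a : Γ(X, V) => a • e := by
    have h := he V le_rfl
    simpa only [rs_self] using h
  let E : Γ(X, V) ≃ₗ[Γ(X, V)] Γ(L, V) :=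
    LinearEquiv.ofBijective (LinearMap.toSpanSingleton _ _ e) he'
  let jl := SymAlg.Unique.jLin 𝒮.toQCAlg j V
  have hE : ∀ a, E a = a • e := fun a => rfl
  have hjl : LinearMap.range jl = Submodule.span Γ(X, V) {jl e} := by
    refine le_antisymm ?_ (Submodule.span_le.2 (Set.singleton_subset_iff.2 ⟨e, rfl⟩))
    rintro _ ⟨m, rfl⟩
    obtain ⟨a, rfl⟩ := E.surjective m
    rw [hE, map_smul]
    exact Submodule.smul_mem _ _ (Submodule.mem_span_singleton_self _)
  refine ⟨hj.2 V hV e, fun n b hb => ?_, fun n a ha => ?_⟩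
  · have h := (SymAlg.Unique.deg_eq hj hV n b).1 hb
    rw [hjl, Submodule.span_pow, Set.singleton_pow, Submodule.mem_span_singleton] at h
    obtain ⟨a, rfl⟩ := h
    exact ⟨a, rfl⟩
  · let φ : Γ(L, V) →ₗ[Γ(X, V)] Polynomial Γ(X, V) :=
      (LinearMap.toSpanSingleton Γ(X, V) (Polynomial Γ(X, V)) Polynomial.X).comp E.symm.toLinearMap
    let F := (SymAlg.Unique.isSymmetricAlgebra hj.1 hV).lift φ
    have hF : F (jl e) = Polynomial.X := by
      rw [IsSymmetricAlgebra.lift_eq]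
      show E.symm e • (Polynomial.X : Polynomial Γ(X, V)) = Polynomial.X
      rw [show E.symm e = 1 from (LinearEquiv.symm_apply_eq _).2 (by rw [hE, one_smul]), one_smul]
    have h := congrArg F ha
    rw [map_zero, map_mul, map_pow, show F (j.app V e) = Polynomial.X from hF,
      show F ((𝒮.str.app (op V)).hom a) = Polynomial.C a from F.commutes a] at h
    have h' := congrArg (fun q => Polynomial.coeff q n) h
    simpa [Polynomial.coeff_C_mul_X_pow] using h'

/-- The section of the algebra given by a value of a module map. -/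
abbrev el {M : X.Modules} (g : M ⟶ 𝒮.toModule) (U : X.Opens) (m : Γ(M, U)) : 𝒮.presheaf.obj (op U) :=
  g.app U m

theorem el_add {M : X.Modules} (g : M ⟶ 𝒮.toModule) (U : X.Opens) (m m' : Γ(M, U)) :
    el g U (m + m') = el g U m + el g U m' := map_add (g.app U).hom m m'

theorem el_sub {M : X.Modules} (g : M ⟶ 𝒮.toModule) (U : X.Opens) (m m' : Γ(M, U)) :
    el g U (m - m') = el g U m - el g U m' := map_sub (g.app U).hom m m'

theorem el_smul {M : X.Modules} (g : M ⟶ 𝒮.toModule) (U : X.Opens) (a : Γ(X, U)) (m : Γ(M, U)) :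
    el g U (a • m) = (𝒮.str.app (op U)).hom a * el g U m :=
  Scheme.Modules.Hom.app_smul g a m

theorem rz_el {M : X.Modules} (g : M ⟶ 𝒮.toModule) {U V : X.Opens} (h : V ≤ U) (m : Γ(M, U)) :
    rz h (el g U m) = el g V (rs M h m) :=
  (PresheafOfModules.naturality_apply g.val (homOfLE h).op m).symm

variable (j : L ⟶ 𝒮.toModule)

theorem exists_powMap : ∀ n : ℕ, ∃ ν : CohB1.tensorPow L n ⟶ 𝒮.toModule,
    ∀ (U : X.Opens) (e : Γ(L, U)), el ν U (powSec e n) = el j U e ^ n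
  | 0 => by
    obtain ⟨φ, hφ⟩ := exists_hom_of_family (M := 𝒮.toModule) (fun W => (1 : 𝒮.presheaf.obj (op W)))
      (fun V W h => map_one (𝒮.presheaf.map (homOfLE h).op).hom)
    exact ⟨φ, fun U e => (hφ U).trans (pow_zero (el j U e)).symm⟩
  | n + 1 => by
    obtain ⟨ν, hν⟩ := exists_powMap n
    obtain ⟨g, hg⟩ := exists_hom_of_pairing (M := CohB1.tensorPow L n) (N := L) (H := 𝒮.toModule)
      (fun U m l => show 𝒮.presheaf.obj (op U) from el ν U m * el j U l)
      (fun U m m' l => by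
        change el ν U (m + m') * el j U l = el ν U m * el j U l + el ν U m' * el j U l
        rw [el_add, add_mul])
      (fun U m l l' => by
        change el ν U m * el j U (l + l') = el ν U m * el j U l + el ν U m * el j U l'
        rw [el_add, mul_add])
      (fun U a m l => by
        change el ν U (a • m) * el j U l = (𝒮.str.app (op U)).hom a * (el ν U m * el j U l)
        rw [el_smul, mul_assoc])
      (fun U a m l => by
        change el ν U m * el j U (a • l) = (𝒮.str.app (op U)).hom a * (el ν U m * el j U l)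
        rw [el_smul, mul_left_comm])
      (fun U V i m l => by
        change rz i.le (el ν V m * el j V l) = el ν U (rs _ i.le m) * el j U (rs _ i.le l)
        rw [rz, map_mul]
        exact congr_arg₂ (· * ·) (rz_el ν i.le m) (rz_el j i.le l))
    refine ⟨g, fun U e => ?_⟩
    have h1 : g.app U (SecTwist.tmul (CohB1.tensorPow L n) L U (powSec e n) e) = pairM g (powSec e n) e := by
      rw [← pairM_id]
      exact ((congrArg (fun q => pairM q (powSec e n) e) (Category.id_comp g)).symm.trans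
        (pairM_comp _ _ _ _)).symm
    refine h1.trans ((hg U _ _).trans ?_)
    change el ν U (powSec e n) * el j U e = _
    rw [hν, pow_succ]

/-- The map `L^{⊗ n} ⟶ 𝒮`. -/
def powMap (n : ℕ) : CohB1.tensorPow L n ⟶ 𝒮.toModule := (exists_powMap j n).choose

theorem powMap_powSec (n : ℕ) (U : X.Opens) (e : Γ(L, U)) :
    el (powMap j n) U (powSec e n) = el j U e ^ n := (exists_powMap j n).choose_spec U e

variable {j} (hL : PicF.IsInvertible L) (hLq : Coh.IsQCoh L) (hj : RelProj.IsGrSymAlg L 𝒮 j)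

theorem exists_gen_nhd (hL : PicF.IsInvertible L) {x : X} {W : X.Opens} (hx : x ∈ W) :
    ∃ (V : X.Opens) (_ : IsAffineOpen V) (e : Γ(L, V)), x ∈ V ∧ V ≤ W ∧ IsGen L V e := by
  obtain ⟨U, e, hxU, he⟩ := isInvertible_iff.1 hL x
  obtain ⟨V, hV, hxV, hsub⟩ := exists_isAffineOpen_mem_and_subset (X := X) (x := x) (U := U ⊓ W) ⟨hxU, hx⟩
  exact ⟨V, hV, _, hxV, fun y hy => (hsub hy).2, he.res fun y hy => (hsub hy).1⟩

include hL hj in
theorem isLocHom_powMap (n : ℕ) (W : X.Opens) (m : Γ(CohB1.tensorPow L n, W)) :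
    IsLocHom 𝒮 n W (el (powMap j n) W m) := fun x hx => by
  obtain ⟨V, hV, e, hxV, hVW, he⟩ := exists_gen_nhd hL hx
  refine ⟨V, hV, hVW, hxV, ?_⟩
  obtain ⟨a, ha⟩ := exists_coord (isGen_powSec he n) (rs _ hVW m)
  rw [rz_el, ha, el_smul, powMap_powSec]
  simpa using SetLike.mul_mem_graded (𝒮.str_mem V hV a) (SetLike.pow_mem_graded n (hj.2 V hV e))

include hLq hj in
theorem eq_zero_of_el_eq_zero {n : ℕ} {V : X.Opens} (hV : IsAffineOpen V) {e : Γ(L, V)} (he : IsGen L V e)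
    {W : X.Opens} (hW : W ≤ V) (a : Γ(X, W))
    (h : (𝒮.str.app (op W)).hom a * rz hW (el j V e) ^ n = 0) : a = 0 := by
  refine TopCat.Sheaf.eq_of_locally_eq' X.sheaf
    (fun V' : {V' : X.affineOpens // V'.1 ≤ W} => V'.1.1) W (fun V' => homOfLE V'.2) (fun x hx => ?_) a 0
    fun V' => ?_
  · obtain ⟨V', hV', hxV', hsub⟩ := exists_isAffineOpen_mem_and_subset (X := X) (x := x) (U := W) hx
    exact Opens.mem_iSup.2 ⟨⟨⟨V', hV'⟩, hsub⟩, hxV'⟩
  · have h1 := congrArg (rz V'.2) h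
    simp only [rz, map_mul, map_pow, map_zero] at h1
    rw [show (𝒮.presheaf.map (homOfLE V'.2).op).hom ((𝒮.str.app (op W)).hom a) = _ from rz_str V'.2 a,
      show (𝒮.presheaf.map (homOfLE V'.2).op).hom (rz hW (el j V e)) = _ from
        (rz_rz V'.2 hW (el j V e)).trans (rz_el j _ e)] at h1
    exact ((isFrame_of_gen hLq hj V'.1.2 (he.res (V'.2.trans hW))).inj n _ h1).trans (map_zero _).symm

include hL hLq hj in
/-- A homogeneous section comes from the tensor power. -/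
theorem exists_powMap_eq {n : ℕ} {W : X.Opens} {z : 𝒮.presheaf.obj (op W)} (hz : IsHom 𝒮 n W z) :
    ∃ m : Γ(CohB1.tensorPow L n, W), el (powMap j n) W m = z := by
  choose V hV e hxV hVW he using fun x : W => exists_gen_nhd hL (x := x.1) (W := W) x.2
  choose a ha using fun x : W => (isFrame_of_gen hLq hj (hV x) (he x)).surj n _ (hz (V x) (hV x) (hVW x))
  let c : ∀ x : W, Γ(CohB1.tensorPow L n, V x) := fun x => a x • powSec (e x) n
  have hc : ∀ x, el (powMap j n) (V x) (c x) = rz (hVW x) z := fun x => by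
    rw [el_smul, powMap_powSec]
    exact (ha x).symm
  have hcompat : ∀ x y : W, rs _ (inf_le_left : V x ⊓ V y ≤ V x) (c x) = rs _ inf_le_right (c y) := by
    intro x y
    obtain ⟨b, hb⟩ := exists_coord ((isGen_powSec (he x) n).res (inf_le_left : V x ⊓ V y ≤ V x))
      (rs _ (inf_le_right : V x ⊓ V y ≤ V y) (c y) - rs _ inf_le_left (c x))
    have h0 : el (powMap j n) (V x ⊓ V y) (rs _ inf_le_right (c y) - rs _ inf_le_left (c x)) = 0 := by
      rw [el_sub, sub_eq_zero]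
      rw [← rz_el, ← rz_el, hc, hc, rz_rz, rz_rz]
    rw [hb, el_smul, rs_powSec, powMap_powSec, ← rz_el] at h0
    rw [eq_zero_of_el_eq_zero hLq hj (hV x) (he x) inf_le_left b h0, zero_smul, sub_eq_zero] at hb
    exact hb.symm
  obtain ⟨m, hm, -⟩ := TopCat.Sheaf.existsUnique_gluing'
    (⟨_, (CohB1.tensorPow L n).isSheaf⟩ : TopCat.Sheaf Ab.{u} X) V W (fun x => homOfLE (hVW x))
    (fun x hx => Opens.mem_iSup.2 ⟨⟨x, hx⟩, hxV ⟨x, hx⟩⟩) c hcompat
  refine ⟨m, eq_of_cover V hVW (fun x hx => Opens.mem_iSup.2 ⟨⟨x, hx⟩, hxV ⟨x, hx⟩⟩) _ _ fun x => ?_⟩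
  rw [rz_el, show rs _ (hVW x) m = c x from hm x, hc]

variable {PL : Scheme.{u}} {pL : PL ⟶ X}
  {chartL : ∀ (U : X.Opens) (hU : IsAffineOpen U), ((pL ⁻¹ᵁ U : PL.Opens) : Scheme.{u}) ≅ Proj (𝒮.deg U hU)}
  (hPL : RelProj.IsRelProj 𝒮 pL chartL)

include hL hLq hj hPL in
/-- The locus of a section of the algebra as the generating locus of a section of a tensor power. -/
theorem genLocus_eq {n : ℕ} (hn : 0 < n) {T : X.Opens} (m : Γ(CohB1.tensorPow L n, T))
    (s : Coh.structureModule (T : Scheme.{u}) ⟶ (CohB1.tensorPow L n).restrict T.ι)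
    (hs : sv s ⊤ = ((CohB1.tensorPow L n).restrictAppIso T.ι ⊤).inv
      (rs (CohB1.tensorPow L n) (T.ι_image_le ⊤) m)) :
    CohB1.genLocus _ s = T.ι ⁻¹ᵁ loc 𝒮 n T (el (powMap j n) T m) := by
  apply Opens.ext
  apply Set.ext
  intro y
  obtain ⟨V, hV, e, hyV, hVT, he⟩ := exists_gen_nhd hL (x := y.1) (W := T) y.2
  obtain ⟨a, ha⟩ := exists_coord (isGen_powSec he n) (rs _ hVT m)
  have h1 : loc 𝒮 n T (el (powMap j n) T m) ⊓ V = X.basicOpen a :=
    loc_inf_frame hL hLq hj hPL hn _ (isHom_of_isLocHom (isLocHom_powMap hL hj n T m))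
      (isFrame_of_gen hLq hj hV he) hVT (by rw [rz_el, ha, el_smul, powMap_powSec])
  let P := CohB1.tensorPow L n
  have h2 : CohB1.genLocus _ s ⊓ T.ι ⁻¹ᵁ V = (T : Scheme.{u}).basicOpen (T.ι.app V a) := by
    refine genLocus_inf_eq (Ample.Restrict.isGen_restrict (isGen_powSec he n) T) s ?_
    rw [← rs_sv s (le_top : T.ι ⁻¹ᵁ V ≤ ⊤), hs]
    have e1 : rs P (T.ι.image_preimage_le V) (a • powSec e n) =
        rs P ((T.ι.image_preimage_le V).trans hVT) m := by
      rw [← ha, rs_rs]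
    have e2 : (P.restrictAppIso T.ι (T.ι ⁻¹ᵁ V)).hom (rs (P.restrict T.ι) (le_top : T.ι ⁻¹ᵁ V ≤ ⊤)
        ((P.restrictAppIso T.ι ⊤).inv (rs P (T.ι_image_le ⊤) m))) =
        rs P ((T.ι.image_preimage_le V).trans hVT) m := by
      exact rs_rs P (T.ι_image_le ⊤) (Scheme.Hom.image_mono T.ι le_top) m
    apply (ConcreteCategory.bijective_of_isIso (P.restrictAppIso T.ι (T.ι ⁻¹ᵁ V)).hom).1
    refine e2.trans (e1.symm.trans ?_)
    rw [rs_smul, restrict_smul]
    refine congrArg₂ (· • ·) ?_ rfl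
    exact congr($((Scheme.Hom.app_appIso_inv T.ι V).symm) a)
  rw [← Scheme.preimage_basicOpen, ← h1] at h2
  have h3 := SetLike.ext_iff.1 h2 y
  exact ⟨fun h => (h3.1 ⟨h, hyV⟩).1, fun h => (h3.2 ⟨h, hyV⟩).1⟩

theorem isAffineOpen_preimage_ι {T G : X.Opens} (h : G ≤ T) :
    IsAffineOpen (T.ι ⁻¹ᵁ G) ↔ IsAffineOpen G := by
  rw [← T.ι.isAffineOpen_iff_of_isOpenImmersion, Scheme.Hom.image_preimage_eq_opensRange_inf,
    Scheme.Opens.opensRange_ι, inf_eq_right.2 h]

include hL hLq hj hPL in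
/-- From an affine locus of a section of a tensor power to one of the algebra. -/
theorem exists_section_of_affineAt {T : X.Opens} (x : T) (h : Ample.Pow.AffineAt (L.restrict T.ι) x) :
    ∃ (n : ℕ) (_ : 0 < n) (σ : 𝒮.presheaf.obj (op T)),
      IsHom 𝒮 n T σ ∧ x.1 ∈ loc 𝒮 n T σ ∧ IsAffineOpen (loc 𝒮 n T σ) := by
  obtain ⟨n, hn, s, hx, ha⟩ := h
  let P := CohB1.tensorPow L n
  let s' : Coh.structureModule (T : Scheme.{u}) ⟶ P.restrict T.ι := s ≫ (Ample.Pow.restrictPow T.ι L n).inv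
  have hg : CohB1.genLocus _ s' = CohB1.genLocus _ s := genLocus_comp_iso s (Ample.Pow.restrictPow T.ι L n).symm
  have htop : T ≤ T.ι ''ᵁ ⊤ := by rw [Scheme.Hom.image_top_eq_opensRange, Scheme.Opens.opensRange_ι]
  let m : Γ(P, T) := rs P htop ((P.restrictAppIso T.ι ⊤).hom (sv s' ⊤))
  have key := genLocus_eq hL hLq hj hPL hn m s' (by
    change _ = (P.restrictAppIso T.ι ⊤).inv (rs P (T.ι_image_le ⊤) (rs P htop _))
    rw [rs_rs, rs_self]
    exact congr($((P.restrictAppIso T.ι ⊤).hom_inv_id) (sv s' ⊤)).symm)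
  rw [hg] at key
  refine ⟨n, hn, el (powMap j n) T m, isHom_of_isLocHom (isLocHom_powMap hL hj n T m),
    show x ∈ T.ι ⁻¹ᵁ loc 𝒮 n T (el (powMap j n) T m) from key ▸ hx, ?_⟩
  rw [← isAffineOpen_preimage_ι (loc_le n T _), ← key]
  exact ha

include hL hLq hj hPL in
/-- From an affine locus of a section of the algebra to one of a tensor power. -/
theorem affineAt_of_section {T : X.Opens} (x : T) {n : ℕ} (hn : 0 < n) {σ : 𝒮.presheaf.obj (op T)}
    (hσ : IsHom 𝒮 n T σ) (hx : x.1 ∈ loc 𝒮 n T σ) (ha : IsAffineOpen (loc 𝒮 n T σ)) :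
    Ample.Pow.AffineAt (L.restrict T.ι) x := by
  obtain ⟨m, rfl⟩ := exists_powMap_eq hL hLq hj hσ
  obtain ⟨s, hs⟩ := exists_hom_of_sec (L := (CohB1.tensorPow L n).restrict T.ι)
    (((CohB1.tensorPow L n).restrictAppIso T.ι ⊤).inv (rs (CohB1.tensorPow L n) (T.ι_image_le ⊤) m))
  have key := genLocus_eq hL hLq hj hPL hn m s hs
  refine Ample.Pow.AffineAt.mk hn (Ample.Pow.restrictPow T.ι L n) s ?_ ?_
  · rw [key]; exact hx
  · rw [key]; exact (isAffineOpen_preimage_ι (loc_le n T _)).2 ha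

end Groth.Agent.Lib.ProjQ.SecAlg
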