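import Groth.Agent.Lib.ProjQ.Pair
import Mathlib.AlgebraicGeometry.Gluing

/-!
# `Proj(u) : G(u) ⟶ Proj(𝒮)`
-/

set_option autoImplicit false
universe u

open CategoryTheory CategoryTheory.Limits AlgebraicGeometry TopologicalSpace Opposite HomogeneousLocalization
open scoped HomogeneousIdeal
open Groth.Agent.Lib.RelProjBasics.Basic (chartStr)

noncomputable section

namespace Groth.Agent.Lib.ProjQ

theorem existsUnique_glue {I : Type*} {W Q : Scheme.{u}} {T : I → Scheme.{u}} (e : ∀ i, T i ⟶ W)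
    [∀ i, IsOpenImmersion (e i)] (c : ∀ i, T i ⟶ Q) (hcov : ∀ x : W, ∃ i, x ∈ (e i).opensRange)
    (hagree : ∀ i j (z : T i) (w : T j), e i z = e j w →
      ∃ (n : I) (ki : T n ⟶ T i) (kj : T n ⟶ T j), e i z ∈ (e n).opensRange ∧
        ki ≫ e i = e n ∧ kj ≫ e j = e n ∧ ki ≫ c i = c n ∧ kj ≫ c j = c n) :
    ∃! r : W ⟶ Q, ∀ i, e i ≫ r = c i := by
  choose idx hidx using hcov
  let 𝒰 : W.OpenCover := .mkOfCovers W (fun x => T (idx x)) (fun x => e (idx x))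
    (fun x => ⟨x, hidx x⟩) fun x => inferInstanceAs (IsOpenImmersion (e (idx x)))
  have hcompat : ∀ i j, pullback.fst (e i) (e j) ≫ c i = pullback.snd (e i) (e j) ≫ c j := by
    intro i j
    refine Scheme.hom_ext_of_forall _ _ fun w => ?_
    obtain ⟨n, ki, kj, hx, h1, h2, h3, h4⟩ := hagree i j (pullback.fst (e i) (e j) w) (pullback.snd (e i) (e j) w)
      congr($(pullback.condition (f := e i) (g := e j)) w)
    let O : (pullback (e i) (e j)).Opens := (pullback.fst (e i) (e j) ≫ e i) ⁻¹ᵁ (e n).opensRange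
    have hO : Set.range (O.ι ≫ pullback.fst (e i) (e j) ≫ e i) ⊆ Set.range (e n) := by
      rintro _ ⟨t, rfl⟩
      exact t.2
    let l := IsOpenImmersion.lift (e n) (O.ι ≫ pullback.fst (e i) (e j) ≫ e i) hO
    have hl : l ≫ e n = O.ι ≫ pullback.fst (e i) (e j) ≫ e i := IsOpenImmersion.lift_fac _ _ _
    have ei : O.ι ≫ pullback.fst (e i) (e j) = l ≫ ki := by
      rw [← cancel_mono (e i), Category.assoc, Category.assoc, h1, hl]
    have ej : O.ι ≫ pullback.snd (e i) (e j) = l ≫ kj := by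
      rw [← cancel_mono (e j), Category.assoc, Category.assoc, h2, hl, pullback.condition]
    refine ⟨O, hx, ?_⟩
    rw [← Category.assoc, ei, ← Category.assoc, ej, Category.assoc, Category.assoc, h3, h4]
  let r := Scheme.Cover.glueMorphisms 𝒰 (fun x => c (idx x)) fun x y => hcompat _ _
  have hr : ∀ x, e (idx x) ≫ r = c (idx x) := fun x =>
    Scheme.Cover.ι_glueMorphisms 𝒰 (fun x => c (idx x)) _ x
  refine ⟨r, fun i => ?_, fun r' hr' => 𝒰.hom_ext _ _ fun x => (hr' _).trans (hr x).symm⟩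
  refine Scheme.hom_ext_of_forall _ _ fun z => ?_
  obtain ⟨w, hw⟩ := hidx (e i z)
  let O : (T i).Opens := e i ⁻¹ᵁ (e (idx (e i z))).opensRange
  let l := IsOpenImmersion.lift (e (idx (e i z))) (O.ι ≫ e i) (by rintro _ ⟨t, rfl⟩; exact t.2)
  have hl : l ≫ e (idx (e i z)) = O.ι ≫ e i := IsOpenImmersion.lift_fac _ _ _
  refine ⟨O, ⟨w, hw⟩, ?_⟩
  let P := pullback.lift O.ι l hl.symm
  rw [← Category.assoc, ← hl, Category.assoc, hr, show l = P ≫ pullback.snd _ _ from (pullback.lift_snd _ _ _).symm,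
    Category.assoc, ← hcompat, pullback.lift_fst_assoc]

section

variable {S S' P P' : Scheme.{u}} {g : S' ⟶ S} {𝒮 : RelProj.QCGrAlg S} {𝒮' : RelProj.QCGrAlg S'}
  {u : RelProj.QGrHom g 𝒮 𝒮'} {p : P ⟶ S}
  {chart : ∀ (U : S.Opens) (hU : IsAffineOpen U), ((p ⁻¹ᵁ U : P.Opens) : Scheme.{u}) ≅ Proj (𝒮.deg U hU)}
  {p' : P' ⟶ S'}
  {chart' : ∀ (U' : S'.Opens) (hU' : IsAffineOpen U'),
    ((p' ⁻¹ᵁ U' : P'.Opens) : Scheme.{u}) ≅ Proj (𝒮'.deg U' hU')}

theorem domOpen_eq {A B σ τ : Type u} [CommRing A] [SetLike σ A] [AddSubgroupClass σ A]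
    [CommRing B] [SetLike τ B] [AddSubgroupClass τ B] {𝒜 : ℕ → σ} {ℬ : ℕ → τ} [GradedRing 𝒜] [GradedRing ℬ]
    (ψ : 𝒜 →+*ᵍ ℬ) (x : Proj ℬ) :
    x ∈ RelCone.domOpen ψ ↔ ∃ (d : ℕ) (f : A), 0 < d ∧ f ∈ 𝒜 d ∧ x ∈ Proj.basicOpen ℬ (ψ f) := by
  rw [RelCone.mem_domOpen]
  refine ⟨fun ⟨f, hf, hfx⟩ => ?_, fun ⟨d, f, hd, hf, hfx⟩ => ⟨f, HomogeneousIdeal.mem_irrelevant_of_mem _ hd hf, hfx⟩⟩
  by_contra! h
  have hle : (HomogeneousIdeal.irrelevant 𝒜).toIdeal ≤ Ideal.comap ψ x.asHomogeneousIdeal.toIdeal :=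
    (HomogeneousIdeal.toIdeal_irrelevant_le _).2 fun d hd a ha => by
      have := h d a hd ha
      rwa [Proj.mem_basicOpen, not_not] at this
  exact hfx (hle hf)

theorem mem_domQ {x : P'} :
    x ∈ RelProj.domQ u p' chart' ↔ ∃ i : Idx (g := g) (𝒮 := 𝒮), x ∈ (i.e p' chart' u).opensRange := by
  constructor
  · intro hx
    obtain ⟨⟨⟨⟨U, hU⟩, ⟨U', hU'⟩⟩, hle⟩, w, hw, rfl⟩ := Opens.mem_iSup.1 hx
    obtain ⟨d, f, hd, hf, hfw⟩ := (domOpen_eq _ w).1 hw
    exact ⟨⟨U, hU, U', hU', hle, d, hd, f, hf⟩, (Idx.opensRange_e p' chart' _).ge ⟨w, hfw, rfl⟩⟩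
  · rintro ⟨i, z, rfl⟩
    obtain ⟨t, ht⟩ := RelProj.range_awayEmb_subset_domQ u p' chart' i.U i.hU i.U' i.hU' i.hle i.hd i.f i.hf ⟨z, rfl⟩
    exact ht ▸ t.2

theorem e_le_domQ (i : Idx (g := g) (𝒮 := 𝒮)) :
    Set.range (i.e p' chart' u) ⊆ Set.range (RelProj.domQ u p' chart').ι :=
  RelProj.range_awayEmb_subset_domQ u p' chart' i.U i.hU i.U' i.hU' i.hle i.hd i.f i.hf

variable (p' chart') in
/-- The chart into `G(u)`. -/
def lift (i : Idx (g := g) (𝒮 := 𝒮)) : i.src u ⟶ (RelProj.domQ u p' chart' : Scheme.{u}) :=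
  IsOpenImmersion.lift (RelProj.domQ u p' chart').ι (i.e p' chart' u) (e_le_domQ i)

theorem lift_ι (i : Idx (g := g) (𝒮 := 𝒮)) :
    lift (u := u) p' chart' i ≫ (RelProj.domQ u p' chart').ι = i.e p' chart' u :=
  IsOpenImmersion.lift_fac _ _ _

instance (i : Idx (g := g) (𝒮 := 𝒮)) : IsOpenImmersion (lift (u := u) p' chart' i) := by
  have : IsOpenImmersion (lift (u := u) p' chart' i ≫ (RelProj.domQ u p' chart').ι) := by
    rw [lift_ι]; infer_instance
  exact IsOpenImmersion.of_comp _ (RelProj.domQ u p' chart').ι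

theorem exists_lift (x : (RelProj.domQ u p' chart' : Scheme.{u})) :
    ∃ i : Idx (g := g) (𝒮 := 𝒮), x ∈ (lift (u := u) p' chart' i).opensRange := by
  obtain ⟨i, z, hz⟩ := mem_domQ.1 x.2
  refine ⟨i, z, (RelProj.domQ u p' chart').ι.isOpenEmbedding.injective ?_⟩
  exact (congr($(lift_ι (u := u) (p' := p') (chart' := chart') i) z)).trans hz

theorem isProjQMapOn_iff (r : (RelProj.domQ u p' chart' : Scheme.{u}) ⟶ P) :
    RelProj.IsProjQMapOn u p chart p' chart' (RelProj.domQ u p' chart') r ↔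
      ∀ i : Idx (g := g) (𝒮 := 𝒮), lift p' chart' i ≫ r = i.c p chart u :=
  ⟨fun h i => h i.U i.hU i.U' i.hU' i.hle i.d i.hd i.f i.hf (e_le_domQ i),
    fun h U hU U' hU' hle d hd f hf _ => h ⟨U, hU, U', hU', hle, d, hd, f, hf⟩⟩

/-- Existence and uniqueness of `Proj(u)` on `G(u)`. -/
theorem existsUnique (hP : RelProj.IsRelProj 𝒮 p chart) (hP' : RelProj.IsRelProj 𝒮' p' chart') :
    ∃! r : (RelProj.domQ u p' chart' : Scheme.{u}) ⟶ P,
      RelProj.IsProjQMapOn u p chart p' chart' (RelProj.domQ u p' chart') r := by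
  simp only [isProjQMapOn_iff]
  refine existsUnique_glue (fun i => lift (u := u) p' chart' i) (fun i => i.c p chart u) exists_lift
    fun i j z w hzw => ?_
  have hzw' : i.e p' chart' u z = j.e p' chart' u w := by
    rw [← lift_ι (u := u) (p' := p') (chart' := chart') i, ← lift_ι (u := u) (p' := p') (chart' := chart') j]
    exact congrArg (RelProj.domQ u p' chart').ι hzw
  obtain ⟨n, ki, kj, hx, h1, h2, h3, h4⟩ := i.agree (u := u) p chart p' chart' j hP hP' z w hzw'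
  refine ⟨n, ki, kj, ?_, ?_, ?_, h3, h4⟩
  · obtain ⟨t, ht⟩ := hx
    refine ⟨t, (RelProj.domQ u p' chart').ι.isOpenEmbedding.injective ?_⟩
    exact ((congr($(lift_ι (u := u) (p' := p') (chart' := chart') n) t)).trans ht).trans
      (congr($(lift_ι (u := u) (p' := p') (chart' := chart') i) z)).symm
  · rw [← cancel_mono (RelProj.domQ u p' chart').ι, Category.assoc, lift_ι, lift_ι]; exact h1
  · rw [← cancel_mono (RelProj.domQ u p' chart').ι, Category.assoc, lift_ι, lift_ι]; exact h2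

theorem hom_ext {Q : Scheme.{u}} {r r' : (RelProj.domQ u p' chart' : Scheme.{u}) ⟶ Q}
    (h : ∀ i : Idx (g := g) (𝒮 := 𝒮), lift p' chart' i ≫ r = lift p' chart' i ≫ r') : r = r' := by
  refine Scheme.hom_ext_of_forall _ _ fun x => ?_
  obtain ⟨i, hi⟩ := exists_lift x
  refine ⟨_, hi, ?_⟩
  rw [← cancel_epi (lift (u := u) p' chart' i).isoOpensRange.hom]
  simp only [Scheme.Hom.isoOpensRange_hom_ι_assoc]
  exact h i

theorem std_over (hP : RelProj.IsRelProj 𝒮 p chart) (U : S.Opens) (hU : IsAffineOpen U) {d : ℕ} (hd : 0 < d)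
    (f : 𝒮.presheaf.obj (op U)) (hf : f ∈ 𝒮.deg U hU d) :
    std p chart U hU hd f hf ≫ p = Spec.map (CommRingCat.ofHom
      ((fromZeroRingHom (𝒮.deg U hU) (Submonoid.powers f)).comp (𝒮.strZero U hU).hom)) ≫ hU.fromSpec := by
  rw [std, Category.assoc, emb_over hP U hU, chartStr, Category.assoc, Proj.awayι_toSpecZero_assoc,
    ← Spec.map_comp_assoc]
  rfl

theorem c_over (hP : RelProj.IsRelProj 𝒮 p chart) (hP' : RelProj.IsRelProj 𝒮' p' chart')
    (i : Idx (g := g) (𝒮 := 𝒮)) : i.c p chart u ≫ p = i.e p' chart' u ≫ p' ≫ g := by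
  rw [Idx.c, Idx.e, Category.assoc, std_over hP, ← Category.assoc _ p', std_over hP',
    Category.assoc, ← IsAffineOpen.SpecMap_appLE_fromSpec g i.hU i.hU' i.hle, ← Spec.map_comp_assoc,
    ← Spec.map_comp_assoc]
  congr 2
  refine CommRingCat.hom_ext (RingHom.ext fun a => ?_)
  refine (H81.RelProj.Localize.map_fromZero (i.φ u) i.f ((𝒮.strZero i.U i.hU).hom a)).trans ?_
  exact congrArg _ (Subtype.ext (congr($(u.str_appLE i.U i.U' i.hle) a)))

theorem over (hP : RelProj.IsRelProj 𝒮 p chart) (hP' : RelProj.IsRelProj 𝒮' p' chart')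
    {r : (RelProj.domQ u p' chart' : Scheme.{u}) ⟶ P}
    (hr : RelProj.IsProjQMapOn u p chart p' chart' (RelProj.domQ u p' chart') r) :
    r ≫ p = (RelProj.domQ u p' chart').ι ≫ p' ≫ g := by
  refine hom_ext fun i => ?_
  rw [← Category.assoc, (isProjQMapOn_iff r).1 hr i, c_over hP hP' i, reassoc_of% lift_ι]

/-- A point of `G(u)` goes to `D₊(f)` exactly when it lies in `D₊(u f)`. -/
theorem mem_preimage_iff (hP : RelProj.IsRelProj 𝒮 p chart) (hP' : RelProj.IsRelProj 𝒮' p' chart')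
    {r : (RelProj.domQ u p' chart' : Scheme.{u}) ⟶ P}
    (hr : RelProj.IsProjQMapOn u p chart p' chart' (RelProj.domQ u p' chart') r)
    (U : S.Opens) (hU : IsAffineOpen U) (U' : S'.Opens) (hU' : IsAffineOpen U') (hle : U' ≤ g ⁻¹ᵁ U)
    {d : ℕ} (hd : 0 < d) (f : 𝒮.presheaf.obj (op U)) (hf : f ∈ 𝒮.deg U hU d)
    (x : (RelProj.domQ u p' chart' : Scheme.{u})) (hy : p' x.1 ∈ U') :
    r x ∈ (RelProj.emb p chart U hU) ''ᵁ Proj.basicOpen (𝒮.deg U hU) f ↔
      x.1 ∈ (RelProj.emb p' chart' U' hU') ''ᵁ Proj.basicOpen (𝒮'.deg U' hU') (u.gradedAt U hU U' hU' hle f) := by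
  let i : Idx (g := g) (𝒮 := 𝒮) := ⟨U, hU, U', hU', hle, d, hd, f, hf⟩
  constructor
  · intro hrx
    obtain ⟨j, z, hz⟩ := mem_domQ.1 x.2
    have hyj : p' x.1 ∈ j.U' := by
      rw [← hz]
      obtain ⟨v, -, hv⟩ := (j.opensRange_e (u := u) p' chart').le ⟨z, rfl⟩
      rw [← hv]
      exact (opensRange_emb (p := p') (chart := chart') j.U' j.hU').le ⟨v, rfl⟩
    obtain ⟨D, hD, hyD, hDsub⟩ := exists_isAffineOpen_mem_and_subset (X := S) (x := g (p' x.1))
      (U := U ⊓ j.U) ⟨hle hy, j.hle hyj⟩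
    obtain ⟨D', hD', hyD', hDsub'⟩ := exists_isAffineOpen_mem_and_subset (X := S') (x := p' x.1)
      (U := (U' ⊓ j.U') ⊓ g ⁻¹ᵁ D) ⟨⟨hy, hyj⟩, hyD⟩
    have hle' : D' ≤ g ⁻¹ᵁ D := fun t ht => (hDsub' ht).2
    have hiU : D ≤ U := fun t ht => (hDsub ht).1
    have hjU : D ≤ j.U := fun t ht => (hDsub ht).2
    have hiU' : D' ≤ U' := fun t ht => (hDsub' ht).1.1
    have hjU' : D' ≤ j.U' := fun t ht => (hDsub' ht).1.2
    let j1 := j.sub D hD D' hD' hle' hjU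
    have hx1 : x.1 ∈ (j1.e p' chart' u).opensRange :=
      (j.sub_opensRange (u := u) p' chart' D hD D' hD' hle' hjU hjU' hP').ge ⟨⟨z, hz⟩, hyD'⟩
    let f1 : 𝒮.presheaf.obj (op D) := 𝒮.res j.hU hD hjU j.f
    have hf1 : f1 ∈ 𝒮.deg D hD j.d := (𝒮.res j.hU hD hjU).map_mem j.hf
    let χ : 𝒮.deg D hD →+*ᵍ 𝒮'.deg D' hD' := u.gradedAt D hD D' hD' hle'
    obtain ⟨w, hw⟩ : ∃ w : Spec (CommRingCat.of (Away (𝒮'.deg D' hD') (χ f1))), j1.e p' chart' u w = x.1 := hx1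
    have hwx : lift (u := u) p' chart' j1 w = x := (RelProj.domQ u p' chart').ι.isOpenEmbedding.injective
      ((congr($(lift_ι (u := u) (p' := p') (chart' := chart') j1) w)).trans hw)
    have hrw : r x = j1.c p chart u w := by
      rw [← hwx]; exact congr($((isProjQMapOn_iff r).1 hr j1) w)
    have hpD : r x ∈ p ⁻¹ᵁ D := by
      show p (r x) ∈ D
      have h := congr($(over hP hP' hr) x)
      exact h.symm ▸ hyD
    have h1 := (image_res (p := p) (chart := chart) hP hU hD hiU f).ge ⟨hrx, hpD⟩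
    rw [hrw] at h1
    obtain ⟨v, hv, hv'⟩ := h1
    have hv2 : v = Proj.awayι (𝒮.deg D hD) f1 hf1 j.hd
        (Spec.map (CommRingCat.ofHom (Away.map χ f1)) w) :=
      (RelProj.emb p chart D hD).isOpenEmbedding.injective hv'
    subst hv2
    have h2 : Spec.map (CommRingCat.ofHom (Away.map χ f1)) w ∈
        Proj.awayι (𝒮.deg D hD) f1 hf1 j.hd ⁻¹ᵁ Proj.basicOpen (𝒮.deg D hD) (𝒮.res hU hD hiU f) := hv
    have h3 : w ∈ PrimeSpectrum.basicOpen (Away.map χ f1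
        (Away.isLocalizationElem hf1 ((𝒮.res hU hD hiU).map_mem hf))) :=
      (Proj.awayι_preimage_basicOpen (𝒮.deg D hD) hf1 j.hd ((𝒮.res hU hD hiU).map_mem hf) hd).le h2
    have e3 : Away.map χ f1 (Away.isLocalizationElem hf1 ((𝒮.res hU hD hiU).map_mem hf)) =
        Away.isLocalizationElem (χ.map_mem hf1) (χ.map_mem ((𝒮.res hU hD hiU).map_mem hf)) := by
      rw [Away.isLocalizationElem, Away.map_mk]
      apply val_injective
      simp [Away.val_mk]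
    replace h3 := (Proj.awayι_preimage_basicOpen (𝒮'.deg D' hD') (χ.map_mem hf1) j.hd
      (χ.map_mem ((𝒮.res hU hD hiU).map_mem hf)) hd).ge (e3 ▸ h3)
    have h4 : x.1 ∈ (RelProj.emb p' chart' D' hD') ''ᵁ
        Proj.basicOpen (𝒮'.deg D' hD') (u.gradedAt D hD D' hD' hle' (𝒮.res hU hD hiU f)) :=
      ⟨_, h3, hw⟩
    have e4 : u.gradedAt D hD D' hD' hle' (𝒮.res hU hD hiU f) = 𝒮'.res hU' hD' hiU' (u.gradedAt U hU U' hU' hle f) :=
      (congr($(gradedAt_comp_res u hU hD hD' hiU hle') f)).trans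
        (congr($(res_comp_gradedAt u hU hU' hD' hle hiU') f)).symm
    rw [e4, image_res (p := p') (chart := chart') hP' hU' hD' hiU'] at h4
    exact h4.1
  · intro hx
    obtain ⟨w, hw⟩ := (i.opensRange_e (u := u) p' chart').ge hx
    have hwx : lift (u := u) p' chart' i w = x := (RelProj.domQ u p' chart').ι.isOpenEmbedding.injective
      ((congr($(lift_ι (u := u) (p' := p') (chart' := chart') i) w)).trans hw)
    rw [← hwx, show r (lift (u := u) p' chart' i w) = i.c p chart u w from congr($((isProjQMapOn_iff r).1 hr i) w)]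
    exact (opensRange_std (p := p) (chart := chart) U hU hd f hf).le ⟨_, rfl⟩

/-- `G(u)` over an affine open is the domain on that chart. -/
theorem domQ_inf (hP' : RelProj.IsRelProj 𝒮' p' chart') (U : S.Opens) (hU : IsAffineOpen U) (U' : S'.Opens)
    (hU' : IsAffineOpen U') (hle : U' ≤ g ⁻¹ᵁ U) :
    RelProj.domQ u p' chart' ⊓ p' ⁻¹ᵁ U' =
      (RelProj.emb p' chart' U' hU') ''ᵁ RelCone.domOpen (u.gradedAt U hU U' hU' hle) := by
  refine le_antisymm ?_ ?_ <;> intro x hx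
  · obtain ⟨hx, hy⟩ := hx
    obtain ⟨j, z, hz⟩ := mem_domQ.1 hx
    have hyj : p' x ∈ j.U' := by
      rw [← hz]
      obtain ⟨v, -, hv⟩ := (j.opensRange_e (u := u) p' chart').le ⟨z, rfl⟩
      rw [← hv]
      exact (opensRange_emb (p := p') (chart := chart') j.U' j.hU').le ⟨v, rfl⟩
    obtain ⟨r₀, s, e, hmem⟩ := exists_basicOpen_le_affine_inter hU j.hU (g (p' x)) ⟨hle hy, j.hle hyj⟩
    obtain ⟨D', hD', hyD', hDsub'⟩ := exists_isAffineOpen_mem_and_subset (X := S') (x := p' x)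
      (U := (U' ⊓ j.U') ⊓ g ⁻¹ᵁ S.basicOpen r₀) ⟨⟨hy, hyj⟩, hmem⟩
    have hle' : D' ≤ g ⁻¹ᵁ S.basicOpen r₀ := fun t ht => (hDsub' ht).2
    have hjU : S.basicOpen r₀ ≤ j.U := e ▸ S.basicOpen_le s
    have hiU' : D' ≤ U' := fun t ht => (hDsub' ht).1.1
    have hjU' : D' ≤ j.U' := fun t ht => (hDsub' ht).1.2
    let hD := hU.basicOpen r₀
    let j1 := j.sub (S.basicOpen r₀) hD D' hD' hle' hjU
    have hx1 : x ∈ (j1.e p' chart' u).opensRange :=
      (j.sub_opensRange (u := u) p' chart' _ hD D' hD' hle' hjU hjU' hP').ge ⟨⟨z, hz⟩, hyD'⟩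
    obtain ⟨f, hf, c, hc, hfc⟩ := exists_res_mul hU r₀ j1.hf
    have e1 : Proj.basicOpen (𝒮'.deg D' hD') (𝒮'.res hU' hD' hiU' (u.gradedAt U hU U' hU' hle f)) =
        Proj.basicOpen (𝒮'.deg D' hD') (u.gradedAt (S.basicOpen r₀) hD D' hD' hle' j1.f) := by
      rw [show 𝒮'.res hU' hD' hiU' (u.gradedAt U hU U' hU' hle f) =
          u.gradedAt (S.basicOpen r₀) hD D' hD' hle' (𝒮.res hU hD (S.basicOpen_le r₀) f) from
          (congr($(res_comp_gradedAt u hU hU' hD' hle hiU') f)).trans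
            (congr($(gradedAt_comp_res u hU hD hD' (S.basicOpen_le r₀) hle') f)).symm, hfc, map_mul]
      exact basicOpen_mul_unit _ (hc.map (u.gradedAt (S.basicOpen r₀) hD D' hD' hle'))
    have h := (Idx.opensRange_e p' chart' j1).le hx1
    change x ∈ (RelProj.emb p' chart' D' hD') ''ᵁ
      Proj.basicOpen (𝒮'.deg D' hD') (u.gradedAt (S.basicOpen r₀) hD D' hD' hle' j1.f) at h
    rw [← e1, image_res (p := p') (chart := chart') hP' hU' hD' hiU'] at h
    obtain ⟨w, hw, hwx⟩ := h.1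
    exact ⟨w, (domOpen_eq _ w).2 ⟨j.d, f, j.hd, hf, hw⟩, hwx⟩
  · obtain ⟨w, hw, rfl⟩ := hx
    exact ⟨Opens.mem_iSup.2 ⟨⟨(⟨U, hU⟩, ⟨U', hU'⟩), hle⟩, w, hw, rfl⟩,
      (opensRange_emb (p := p') (chart := chart') U' hU').le ⟨w, rfl⟩⟩

end

end Groth.Agent.Lib.ProjQ
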