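import Groth.Agent.Lib.ProjQ.GenImm
import Groth.Agent.Lib.ProjQ.PowMap
import Groth.Agent.S12146

/-!
# Ampleness and the morphism to `Proj`
-/

set_option autoImplicit false
universe u

open CategoryTheory CategoryTheory.Limits AlgebraicGeometry TopologicalSpace Opposite HomogeneousLocalization
open scoped HomogeneousIdeal

noncomputable section

namespace Groth.Agent.Lib.ProjQ

open SecAlg

variable {Y X P PL : Scheme.{u}} {q : X ⟶ Y} {L : X.Modules}
  {𝒮 : RelProj.QCGrAlg Y} {𝒮L : RelProj.QCGrAlg X} {j : L ⟶ 𝒮L.toModule}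
  {u : RelProj.QGrHom q 𝒮 𝒮L} {p : P ⟶ Y}
  {chart : ∀ (U : Y.Opens) (hU : IsAffineOpen U), ((p ⁻¹ᵁ U : P.Opens) : Scheme.{u}) ≅ Proj (𝒮.deg U hU)}
  {pL : PL ⟶ X}
  {chartL : ∀ (U : X.Opens) (hU : IsAffineOpen U), ((pL ⁻¹ᵁ U : PL.Opens) : Scheme.{u}) ≅ Proj (𝒮L.deg U hU)}

variable (hL : PicF.IsInvertible L) (hLq : Coh.IsQCoh L) (hj : RelProj.IsGrSymAlg L 𝒮L j)
  (hP : RelProj.IsRelProj 𝒮 p chart) (hPL : RelProj.IsRelProj 𝒮L pL chartL)
  {r : (RelProj.domQ u pL chartL : Scheme.{u}) ⟶ P}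
  (hr : RelProj.IsProjQMapOn u p chart pL chartL (RelProj.domQ u pL chartL) r)

theorem isCompact_inf_of_quasiSeparated {T : X.Opens} [QuasiSeparatedSpace (T : Scheme.{u})]
    (V V' : X.Opens) (hV : IsAffineOpen V) (hV' : IsAffineOpen V') (h : V ≤ T) (h' : V' ≤ T) :
    IsCompact ((V ⊓ V' : X.Opens) : Set X) :=
  ((isQuasiSeparated_iff_quasiSeparatedSpace (T : Set X) T.isOpen).2
    (inferInstanceAs (QuasiSeparatedSpace (T : Scheme.{u})))) (V : Set X) (V' : Set X) h V.isOpen hV.isCompact h'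
      V'.isOpen hV'.isCompact

include hL hLq hj hPL in
/-- Sections with affine locus at every point, from ampleness over an affine open. -/
theorem exists_locOf_affine {U : Y.Opens} (hU : IsAffineOpen U) (hu : Function.Bijective (u.app U).hom)
    (hA : CohB1.IsAmple (L.restrict (q ⁻¹ᵁ U).ι)) {x : X} (hx : q x ∈ U) :
    ∃ (n : ℕ) (_ : 0 < n) (s : 𝒮.presheaf.obj (op U)) (_ : s ∈ 𝒮.deg U hU n),
      x ∈ locOf u U n s ∧ IsAffineOpen (locOf u U n s) := by
  obtain ⟨n, hn, σ, hσ, hxσ, ha⟩ := exists_section_of_affineAt hL hLq hj hPL (⟨x, hx⟩ : (q ⁻¹ᵁ U : X.Opens))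
    ((Ample.Pow.isAmple_iff.1 hA).2.2 _)
  obtain ⟨s, hs, rfl⟩ := exists_deg_preimage u hU hu (z := σ) fun y hy => by
    obtain ⟨V, hV, hyV, hle⟩ := exists_isAffineOpen_mem_and_subset (X := X) (U := q ⁻¹ᵁ U) hy
    exact ⟨V, hV, hle, hyV, hσ V hV hle⟩
  exact ⟨n, hn, s, hs, hxσ, ha⟩

include hL hLq hj hP hPL hr in
theorem isDominant_of_bijective [QuasiCompact q]
    (hu : ∀ U : Y.Opens, IsAffineOpen U → Function.Bijective (u.app U).hom) : IsDominant r := by
  refine (isDominant_iff hP hPL hr).2 fun U hU d _ f _ hnil => ?_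
  by_contra hall
  push Not at hall
  obtain ⟨N, V, hV, t, -, hVT, hcov⟩ :=
    exists_frames hL hLq hj (q.isCompact_preimage hU.isCompact : IsCompact ((q ⁻¹ᵁ U : X.Opens) : Set X))
  choose k hk using fun i => hall (V i) (hV i) (hVT i)
  refine hnil ⟨Finset.univ.sup k, (hu U hU).1 ?_⟩
  rw [map_zero, map_pow]
  refine eq_of_cover V hVT hcov _ _ fun i => ?_
  obtain ⟨l, hl⟩ := Nat.exists_eq_add_of_le (Finset.le_sup (f := k) (Finset.mem_univ i))
  rw [hl, show rz (hVT i) (0 : 𝒮L.presheaf.obj (op (q ⁻¹ᵁ U))) = 0 from map_zero _]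
  change rz (hVT i) ((u.app U).hom f ^ (k i + l)) = 0
  rw [rz, map_pow, pow_add]
  exact mul_eq_zero_of_left (hk i) _

include hL hLq hj hP hPL hr in
/-- The morphism to `Proj` of an algebra with all sections is an open immersion for a relatively ample module. -/
theorem isOpenImmersion_of_relAmple (h : RelAmple.IsRelAmple q L)
    (hu : ∀ U : Y.Opens, IsAffineOpen U → Function.Bijective (u.app U).hom) :
    RelProj.domQ u pL chartL = ⊤ ∧ IsOpenImmersion r := by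
  haveI := h.1
  choose U hU hxU _ using fun x : X => exists_isAffineOpen_mem_and_subset (X := Y) (U := ⊤) (x := q x) trivial
  choose n hn s hs hxs ha using fun x : X =>
    exists_locOf_affine hL hLq hj hPL (hU x) (hu _ (hU x)) (h.2 ⟨U x, hU x⟩) (hxU x)
  refine ⟨top_le_iff.1 fun y _ => mem_domQ_of_mem_locOf hL hLq hj hPL (hU (pL y)) (hn _) (hs _) (hxs (pL y)),
    of_restrict_cover @IsOpenImmersion (fun _ _ => inferInstance) r
      (fun x => (std p chart (U x) (hU x) (hn x) (s x) (hs x)).opensRange) (top_le_iff.1 fun y _ => ?_) fun x => ?_⟩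
  · exact Opens.mem_iSup.2 ⟨pL y.1, (mem_locOf_iff hL hLq hj hP hPL hr (hU _) (hn _) (hs _) y).2 (hxs _)⟩
  · haveI := Ample.Pullback.quasiSeparatedSpace_of_isAmple (h.2 ⟨U x, hU x⟩)
    haveI := isIso_restrict_of_bijective hL hLq hj hP hPL hr (hU x) (hn x) (hs x)
      (q.isCompact_preimage (hU x).isCompact) (fun V V' hV hV' => isCompact_inf_of_quasiSeparated V V' hV hV')
      (hu _ (hU x)) (ha x)
    infer_instance

include hL hLq hj hP hPL hr in
/-- If `r` is everywhere defined and a topological embedding, then the module is relatively ample. -/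
theorem isRelAmple_of_isEmbedding [QuasiCompact q] (htop : RelProj.domQ u pL chartL = ⊤)
    (hemb : Topology.IsEmbedding r.base) : RelAmple.IsRelAmple q L := by
  haveI := isIso_proj hL hLq hj hPL
  refine ⟨inferInstance, fun U => ?_⟩
  haveI : CompactSpace ((q ⁻¹ᵁ U.1 : X.Opens) : Scheme.{u}) :=
    isCompact_iff_compactSpace.1 (q.isCompact_preimage U.2.isCompact)
  refine Ample.Pow.isAmple_iff.2
    ⟨TensorMod.Gen.isInvertible_iff.2 fun z => ?_, inferInstance, fun x => ?_⟩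
  · obtain ⟨V, -, e, hzV, -, he⟩ := exists_gen_nhd hL (x := z.1) (W := q ⁻¹ᵁ U.1) z.2
    exact ⟨_, _, hzV, Ample.Restrict.isGen_restrict he _⟩
  obtain ⟨V, hV, e, hxV, hVT, he⟩ := exists_gen_nhd hL (x := x.1) (W := q ⁻¹ᵁ U.1) x.2
  obtain ⟨y, hy⟩ := pL.homeomorph.surjective x.1
  let y' : (RelProj.domQ u pL chartL : Scheme.{u}) := ⟨y, htop.ge (Set.mem_univ y)⟩
  obtain ⟨O, hO, hOV⟩ := hemb.isInducing.isOpen_iff.1
    ((RelProj.domQ u pL chartL).ι ⁻¹ᵁ (pL ⁻¹ᵁ V)).isOpen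
  have hyO : r y' ∈ O := hOV.ge (show pL y ∈ V from (show pL y = x.1 from hy) ▸ hxV)
  obtain ⟨w, hw⟩ := (opensRange_emb (p := p) (chart := chart) U.1 U.2).ge
    (show r y' ∈ p ⁻¹ᵁ U.1 by
      show p (r y') ∈ U.1
      rw [show p (r y') = q (pL y'.1) from (congrArg (fun φ : (RelProj.domQ u pL chartL : Scheme.{u}) ⟶ Y => φ y') (Groth.Agent.Lib.ProjQ.«over» hP hPL hr) :)]
      exact (show pL y = x.1 from hy) ▸ x.2)
  obtain ⟨n, s, hn, hs, hws, hle⟩ := exists_basicOpen_le (RelProj.emb p chart U.1 U.2 ⁻¹ᵁ ⟨O, hO⟩) (w := w)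
    (show RelProj.emb p chart U.1 U.2 w ∈ O from hw ▸ hyO)
  have hσ := isHom_app u U.2 hs
  have hxl : x.1 ∈ locOf u U.1 n s := by
    rw [← show pL y'.1 = x.1 from hy]
    exact (mem_locOf_iff hL hLq hj hP hPL hr U.2 hn hs y').1
      ((opensRange_std U.1 U.2 hn s hs).ge ⟨w, hws, hw⟩)
  have hlV : locOf u U.1 n s ≤ V := fun z hz => by
    obtain ⟨v, rfl⟩ := pL.homeomorph.surjective z
    obtain ⟨t, ht, htv⟩ := (opensRange_std (p := p) (chart := chart) U.1 U.2 hn s hs).le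
      ((mem_locOf_iff hL hLq hj hP hPL hr U.2 hn hs ⟨v, htop.ge (Set.mem_univ v)⟩).2 hz)
    exact hOV.le (show r ⟨v, htop.ge (Set.mem_univ v)⟩ ∈ O from htv ▸ hle ht)
  refine affineAt_of_section hL hLq hj hPL x hn hσ hxl ?_
  have hf := isFrame_of_gen hLq hj hV he
  obtain ⟨a, ha⟩ := hf.surj n _ (hσ V hV hVT)
  rw [show loc 𝒮L n (q ⁻¹ᵁ U.1) ((u.app U.1).hom s) = X.basicOpen a from
    (inf_eq_left.2 hlV).symm.trans (loc_inf_frame hL hLq hj hPL hn _ hσ hf hVT ha)]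
  exact hV.basicOpen a

end Groth.Agent.Lib.ProjQ
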