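import Groth.Agent.H58VA.GrTwistOne
import Groth.Agent.Lib.Ample.GenLocus

/-!
# Degree one sections read along a morphism from an open into a `Proj`
-/

set_option autoImplicit false
universe u

open CategoryTheory CategoryTheory.Limits AlgebraicGeometry TopologicalSpace Opposite HomogeneousLocalization

noncomputable section

namespace Groth.Agent.Lib.ProjQ.ChartSec

open Groth.Agent.H58VA TensorMod TensorMod.Basic TensorMod.Free TensorMod.Dual TensorMod.Gen TensorMod.Pullback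
open Ample.GenLocus

section fractions

variable {A σ : Type u} [CommRing A] [SetLike σ A] [AddSubgroupClass σ A] {𝒜 : ℕ → σ} [GradedRing 𝒜]

/-- `a / g ^ d` on `D₊(g)`. -/
def fr {g a : A} {d : ℕ} (hg : g ∈ 𝒜 1) (ha : a ∈ 𝒜 d) : Γ(Proj 𝒜, Proj.basicOpen 𝒜 g) :=
  Proj.awayToSection 𝒜 g (Away.mk 𝒜 hg d a (by simpa using ha))

/-- The value of a function at a point. -/
abbrev value {V : (Proj 𝒜).Opens} (c : Γ(Proj 𝒜, V)) (x : V) : GrTwist.Loc 𝒜 x.1 :=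
  ((show GrTwist.O (𝒜 := 𝒜) (op V) from c).1 x).val

theorem value_ext {V : (Proj 𝒜).Opens} {c c' : Γ(Proj 𝒜, V)} (h : ∀ x, value c x = value c' x) : c = c' :=
  Subtype.ext (funext fun x => HomogeneousLocalization.val_injective _ (h x))

theorem value_mul {V : (Proj 𝒜).Opens} (c c' : Γ(Proj 𝒜, V)) (x : V) :
    value (c * c') x = value c x * value c' x := HomogeneousLocalization.val_mul _ _

theorem value_add {V : (Proj 𝒜).Opens} (c c' : Γ(Proj 𝒜, V)) (x : V) :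
    value (c + c') x = value c x + value c' x := HomogeneousLocalization.val_add _ _

theorem value_pow {V : (Proj 𝒜).Opens} (c : Γ(Proj 𝒜, V)) (m : ℕ) (x : V) :
    value (c ^ m) x = value c x ^ m := by
  induction m with
  | zero => simp only [pow_zero]; exact HomogeneousLocalization.val_one
  | succ m ih => rw [pow_succ, value_mul, ih, pow_succ]

theorem value_fr {g a : A} {d : ℕ} (hg : g ∈ 𝒜 1) (ha : a ∈ 𝒜 d) (x : Proj.basicOpen 𝒜 g) :
    value (fr hg ha) x = Localization.mk a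
      (⟨g ^ d, fun h => x.2 (x.1.isPrime.mem_of_pow_mem d h)⟩ : x.1.asHomogeneousIdeal.toIdeal.primeCompl) := rfl

theorem fr_add {g a a' : A} {d : ℕ} (hg : g ∈ 𝒜 1) (ha : a ∈ 𝒜 d) (ha' : a' ∈ 𝒜 d) :
    fr hg (add_mem ha ha') = fr hg ha + fr hg ha' := value_ext fun x => by
  rw [value_add, value_fr, value_fr, value_fr, Localization.add_mk_self]

theorem fr_mul {g a a' : A} {d d' : ℕ} (hg : g ∈ 𝒜 1) (ha : a ∈ 𝒜 d) (ha' : a' ∈ 𝒜 d') :
    fr hg (SetLike.mul_mem_graded ha ha') = fr hg ha * fr hg ha' := value_ext fun x => by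
  rw [value_mul, value_fr, value_fr, value_fr, Localization.mk_mul, Localization.mk_eq_mk_iff,
    Localization.r_iff_exists]
  exact ⟨1, by simp [pow_add]⟩

theorem fr_congr {g a a' : A} {d d' : ℕ} (hg : g ∈ 𝒜 1) (ha : a ∈ 𝒜 d) (ha' : a' ∈ 𝒜 d') (e : a = a')
    (e' : d = d') : fr hg ha = fr hg ha' := by subst e e'; rfl

theorem oneSec_eq_fr_smul {g a : A} (hg : g ∈ 𝒜 1) (ha : a ∈ 𝒜 1) :
    rs (GrTwist.twist 𝒜 ((1 : ℕ) : ℤ)) le_top (GrTwistOne.oneSec ha) =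
      fr hg ha • rs (GrTwist.twist 𝒜 ((1 : ℕ) : ℤ)) (le_top : Proj.basicOpen 𝒜 g ≤ ⊤) (GrTwistOne.oneSec hg) := by
  refine Subtype.ext (funext fun x => Subtype.ext (Eq.symm ?_))
  refine (GrTwistOne.val_smul_oneSec hg (fr hg ha) x).trans ?_
  change value (fr hg ha) x * GrTwistOne.frac1 x.1 g = GrTwistOne.frac1 x.1 a
  rw [value_fr, Localization.mk_mul, Localization.mk_eq_mk_iff, Localization.r_iff_exists]
  exact ⟨1, by simp [mul_comm]⟩

theorem exists_pow_cover (hcov : ∀ x : ProjectiveSpectrum 𝒜, ∃ g ∈ 𝒜 1, g ∉ x.asHomogeneousIdeal) (d : ℕ)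
    (x : ProjectiveSpectrum 𝒜) : ∃ g ∈ 𝒜 d, g ∉ x.asHomogeneousIdeal := by
  obtain ⟨g, hg, hgx⟩ := hcov x
  exact ⟨g ^ d, by simpa using SetLike.pow_mem_graded d hg, fun h => hgx (x.isPrime.mem_of_pow_mem d h)⟩

theorem basicOpen_fr (hcov : ∀ x : ProjectiveSpectrum 𝒜, ∃ g ∈ 𝒜 1, g ∉ x.asHomogeneousIdeal)
    {g a : A} {d : ℕ} (hd : 0 < d) (hg : g ∈ 𝒜 1) (ha : a ∈ 𝒜 d) :
    (Proj 𝒜).basicOpen (fr hg ha) = Proj.basicOpen 𝒜 a ⊓ Proj.basicOpen 𝒜 g := by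
  have hgd : g ^ d ∈ 𝒜 d := by simpa using SetLike.pow_mem_graded d hg
  obtain ⟨s, hs⟩ := exists_hom_of_sec (L := GrTwist.twist 𝒜 (d : ℤ)) (GrTwistOne.oneSec ha)
  rw [← GrTwistOne.genLocus_oneSec ha s hs (exists_pow_cover hcov d)]
  have hD : Proj.basicOpen 𝒜 g ≤ Proj.basicOpen 𝒜 (g ^ d) := (Proj.basicOpen_pow 𝒜 g d hd).ge
  refine (genLocus_inf_eq ((GrTwistOne.isGen_oneSec hgd).res hD) s ?_).symm
  rw [← rs_sv s (le_top : Proj.basicOpen 𝒜 g ≤ ⊤), hs, rs_rs]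
  refine Subtype.ext (funext fun x => Subtype.ext (Eq.symm ?_))
  refine (GrTwistOne.val_smul_oneSec hgd (fr hg ha) x).trans ?_
  change value (fr hg ha) x * GrTwistOne.frac1 x.1 (g ^ d) = GrTwistOne.frac1 x.1 a
  rw [value_fr, Localization.mk_mul, Localization.mk_eq_mk_iff, Localization.r_iff_exists]
  exact ⟨1, by simp [mul_comm]⟩

theorem away_mul_fr_pow {g a b : A} {n m : ℕ} (hg : g ∈ 𝒜 1) (hb : b ∈ 𝒜 n) (ha : a ∈ 𝒜 (m * n))
    {W : (Proj 𝒜).Opens} (hWb : W ≤ Proj.basicOpen 𝒜 b) (hWg : W ≤ Proj.basicOpen 𝒜 g) :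
    ((Proj 𝒜).presheaf.map (homOfLE hWb).op).hom
        (Proj.awayToSection 𝒜 b (Away.mk 𝒜 hb m a (by simpa using ha))) *
      ((Proj 𝒜).presheaf.map (homOfLE hWg).op).hom (fr hg hb) ^ m =
      ((Proj 𝒜).presheaf.map (homOfLE hWg).op).hom (fr hg ha) := value_ext fun x => by
  rw [value_mul, value_pow]
  change (Localization.mk a ⟨b ^ m, _⟩ : GrTwist.Loc 𝒜 x.1) * (Localization.mk b ⟨g ^ n, _⟩) ^ m =
    Localization.mk a ⟨g ^ (m * n), _⟩
  rw [Localization.mk_pow, Localization.mk_mul, Localization.mk_eq_mk_iff, Localization.r_iff_exists]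
  exact ⟨1, by simp only [Submonoid.coe_mul, SubmonoidClass.coe_pow, OneMemClass.coe_one, one_mul]; ring⟩

end fractions

variable {X : Scheme.{u}} {L : X.Modules} {T : X.Opens}
  {A σ : Type u} [CommRing A] [SetLike σ A] [AddSubgroupClass σ A] {𝒜 : ℕ → σ} [GradedRing 𝒜]
  (k : (T : Scheme.{u}) ⟶ Proj 𝒜)

/-- A function on an open of `Proj` read on an open of `X`. -/
def pl {D : (Proj 𝒜).Opens} {V : X.Opens} (h : V ≤ T.ι ''ᵁ (k ⁻¹ᵁ D)) : Γ(Proj 𝒜, D) →+* Γ(X, V) :=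
  (k.app D ≫ (T.ι.appIso (k ⁻¹ᵁ D)).inv ≫ X.presheaf.map (homOfLE h).op).hom

theorem pl_res {D D' : (Proj 𝒜).Opens} (i : D' ≤ D) {V : X.Opens} (h : V ≤ T.ι ''ᵁ (k ⁻¹ᵁ D'))
    (c : Γ(Proj 𝒜, D)) :
    pl k h (((Proj 𝒜).presheaf.map (homOfLE i).op).hom c) =
      pl k (h.trans (T.ι.image_mono ((Opens.map k.base).monotone i))) c := by
  have e : (Proj 𝒜).presheaf.map (homOfLE i).op ≫ k.app D' ≫ (T.ι.appIso (k ⁻¹ᵁ D')).inv ≫
      X.presheaf.map (homOfLE h).op = k.app D ≫ (T.ι.appIso (k ⁻¹ᵁ D)).inv ≫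
      X.presheaf.map (homOfLE (h.trans (T.ι.image_mono ((Opens.map k.base).monotone i)))).op := by
    rw [Scheme.Hom.naturality_assoc, Scheme.Hom.appIso_inv_naturality_assoc, ← Functor.map_comp]
    rfl
  exact congr($e c)

theorem rs_pl {D : (Proj 𝒜).Opens} {V V' : X.Opens} (h : V ≤ T.ι ''ᵁ (k ⁻¹ᵁ D)) (i : V' ≤ V)
    (c : Γ(Proj 𝒜, D)) :
    (X.presheaf.map (homOfLE i).op).hom (pl k h c) = pl k (i.trans h) c :=
  congr($((X.presheaf.map_comp (homOfLE h).op (homOfLE i).op).symm)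
    ((T.ι.appIso (k ⁻¹ᵁ D)).inv (k.app D c)))

/-- A generator on an open of `T` generates on its image. -/
theorem isGen_image {W : (T : Scheme.{u}).Opens} {e : Γ(L.restrict T.ι, W)} (he : IsGen (L.restrict T.ι) W e) :
    IsGen L (T.ι ''ᵁ W) ((L.restrictAppIso T.ι W).hom e) := fun V hV => by
  obtain ⟨W', rfl⟩ : ∃ W' : (T : Scheme.{u}).Opens, T.ι ''ᵁ W' = V :=
    ⟨T.ι ⁻¹ᵁ V, by
      rw [Scheme.Hom.image_preimage_eq_opensRange_inf, Scheme.Opens.opensRange_ι]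
      exact inf_eq_right.2 (hV.trans (T.ι_image_le W))⟩
  have hW' : W' ≤ W := (T.ι.image_le_image_iff _ _).1 hV
  have h : (fun a : Γ(X, T.ι ''ᵁ W') => a • rs L hV ((L.restrictAppIso T.ι W).hom e)) ∘ (T.ι.appIso W').inv =
      (L.restrictAppIso T.ι W').hom ∘ fun a : Γ((T : Scheme.{u}), W') => a • rs (L.restrict T.ι) hW' e := by
    funext a
    rw [Function.comp_apply, Function.comp_apply, restrict_smul]
    rfl
  refine (Function.Bijective.of_comp_iff _ (ConcreteCategory.bijective_of_isIso (T.ι.appIso W').inv)).1 ?_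
  rw [h]
  exact (ConcreteCategory.bijective_of_isIso (L.restrictAppIso T.ι W').hom).comp (he W' hW')

variable (ε : (Scheme.Modules.pullback k).obj (GrTwist.twist 𝒜 ((1 : ℕ) : ℤ)) ≅ L.restrict T.ι)

/-- The section of `L` read from a degree one element. -/
def sec {g : A} (hg : g ∈ 𝒜 1) : Γ(L, T) :=
  rs L (show T ≤ T.ι ''ᵁ (k ⁻¹ᵁ ⊤) by simp)
    ((L.restrictAppIso T.ι _).hom (ε.hom.app _ (unitSec k _ (GrTwistOne.oneSec hg))))

theorem rs_sec {g : A} (hg : g ∈ 𝒜 1) {D : (Proj 𝒜).Opens} {V : X.Opens} (hVT : V ≤ T)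
    (h : V ≤ T.ι ''ᵁ (k ⁻¹ᵁ D)) :
    rs L hVT (sec k ε hg) = rs L h ((L.restrictAppIso T.ι _).hom (ε.hom.app _
      (unitSec k _ (rs (GrTwist.twist 𝒜 ((1 : ℕ) : ℤ)) (le_top : D ≤ ⊤) (GrTwistOne.oneSec hg))))) := by
  rw [sec, rs_rs, ← unitSec_rs, ← TensorMod.HomGlue.rs_app]
  exact (rs_rs L (T.ι.image_mono ((Opens.map k.base).monotone le_top)) h _).symm

theorem isGen_sec {g : A} (hg : g ∈ 𝒜 1) {V : X.Opens} (hVT : V ≤ T)
    (h : V ≤ T.ι ''ᵁ (k ⁻¹ᵁ Proj.basicOpen 𝒜 g)) : IsGen L V (rs L hVT (sec k ε hg)) := by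
  rw [rs_sec k ε hg hVT h]
  exact (isGen_image (isGen_of_isIso_over (isIso_over_of_iso ε _)
    (isGen_unitSec k (GrTwistOne.isGen_oneSec hg)))).res h

theorem sec_eq_smul {g a : A} (hg : g ∈ 𝒜 1) (ha : a ∈ 𝒜 1) {V : X.Opens} (hVT : V ≤ T)
    (h : V ≤ T.ι ''ᵁ (k ⁻¹ᵁ Proj.basicOpen 𝒜 g)) :
    rs L hVT (sec k ε ha) = pl k h (fr hg ha) • rs L hVT (sec k ε hg) := by
  rw [rs_sec k ε hg hVT h, rs_sec k ε ha hVT h, oneSec_eq_fr_smul hg ha, unitSec_smul,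
    Scheme.Modules.Hom.app_smul, restrict_smul, rs_smul]
  rfl

end Groth.Agent.Lib.ProjQ.ChartSec
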