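import Groth.Agent.Lib.ProjQ.GenImm
import Groth.Agent.Lib.ProjQ.PowMap
import Groth.Agent.Lib.ProjQ.ChartSec

/-!
# A local immersion into a `Proj` read through the morphism attached to an invertible module
-/

set_option autoImplicit false
universe u

open CategoryTheory CategoryTheory.Limits AlgebraicGeometry TopologicalSpace Opposite HomogeneousLocalization
open scoped HomogeneousIdeal

noncomputable section

namespace Groth.Agent.Lib.ProjQ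

open SecAlg ChartSec TensorMod TensorMod.Dual TensorMod.Gen

variable {Y X P PL : Scheme.{u}} {q : X ⟶ Y} {L : X.Modules}
  {𝒮 : RelProj.QCGrAlg Y} {𝒮L : RelProj.QCGrAlg X} {j : L ⟶ 𝒮L.toModule}
  {u : RelProj.QGrHom q 𝒮 𝒮L} {p : P ⟶ Y}
  {chart : ∀ (U : Y.Opens) (hU : IsAffineOpen U), ((p ⁻¹ᵁ U : P.Opens) : Scheme.{u}) ≅ Proj (𝒮.deg U hU)}
  {pL : PL ⟶ X}
  {chartL : ∀ (U : X.Opens) (hU : IsAffineOpen U), ((pL ⁻¹ᵁ U : PL.Opens) : Scheme.{u}) ≅ Proj (𝒮L.deg U hU)}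
  (hL : PicF.IsInvertible L) (hLq : Coh.IsQCoh L) (hj : RelProj.IsGrSymAlg L 𝒮L j)
  (hP : RelProj.IsRelProj 𝒮 p chart) (hPL : RelProj.IsRelProj 𝒮L pL chartL)
  {r : (RelProj.domQ u pL chartL : Scheme.{u}) ⟶ P}
  (hr : RelProj.IsProjQMapOn u p chart pL chartL (RelProj.domQ u pL chartL) r)
  {U : Y.Opens} (hU : IsAffineOpen U)
  {A σ : Type u} [CommRing A] [SetLike σ A] [AddSubgroupClass σ A] {ℬ : ℕ → σ} [GradedRing ℬ]
  (k : ((q ⁻¹ᵁ U : X.Opens) : Scheme.{u}) ⟶ Proj ℬ)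
  (ε : (Scheme.Modules.pullback k).obj (GrTwist.twist ℬ ((1 : ℕ) : ℤ)) ≅ L.restrict (q ⁻¹ᵁ U).ι)

/-- `a` of degree `d` has a counterpart in `𝒮(U)`. -/
def HasLift (u : RelProj.QGrHom q 𝒮 𝒮L) (j : L ⟶ 𝒮L.toModule) {d : ℕ} {a : A} (ha : a ∈ ℬ d) : Prop :=
  ∃ s ∈ 𝒮.deg U hU d, ∀ (g : A) (hg : g ∈ ℬ 1) (V : X.Opens) (hVT : V ≤ q ⁻¹ᵁ U)
    (h : V ≤ (q ⁻¹ᵁ U).ι ''ᵁ (k ⁻¹ᵁ Proj.basicOpen ℬ g)),
    rz hVT ((u.app U).hom s) =
      (𝒮L.str.app (op V)).hom (pl k h (fr hg ha)) * el j V (rs L hVT (sec k ε hg)) ^ d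

variable (hmul : ∀ d : ℕ, 0 < d → ∀ a ∈ ℬ (d + 1),
    a ∈ AddSubmonoid.closure {c : A | ∃ g ∈ ℬ 1, ∃ a' ∈ ℬ d, c = g * a'})
  (hlift : ∀ (g : A) (hg : g ∈ ℬ 1), ∃ s ∈ 𝒮.deg U hU 1, (u.app U).hom s = el j (q ⁻¹ᵁ U) (sec k ε hg))

theorem hasLift_congr {d d' : ℕ} {a a' : A} {ha : a ∈ ℬ d} {ha' : a' ∈ ℬ d'} (e : a = a') (e' : d = d')
    (h : HasLift hU k ε u j ha) : HasLift hU k ε u j ha' := by
  subst e e'; exact h

include hlift hmul in
theorem hasLift : ∀ {d : ℕ}, 0 < d → ∀ {a : A} (ha : a ∈ ℬ d), HasLift hU k ε u j ha := by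
  have h1 : ∀ {a : A} (ha : a ∈ ℬ 1), HasLift hU k ε u j ha := fun {a} ha => by
    obtain ⟨s, hs, hsu⟩ := hlift a ha
    refine ⟨s, hs, fun g hg V hVT h => ?_⟩
    rw [hsu, rz_el, sec_eq_smul k ε hg ha hVT h, el_smul, pow_one]
  intro d hd
  induction d, hd using Nat.le_induction with
  | base => exact fun ha => h1 ha
  | succ d hd ih =>
    intro a ha
    suffices h : ∃ ha' : a ∈ ℬ (d + 1), HasLift hU k ε u j ha' from h.choose_spec
    have hmem := hmul d hd a ha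
    clear ha
    induction hmem using AddSubmonoid.closure_induction with
    | mem c hc =>
      obtain ⟨g₁, hg₁, a', ha', rfl⟩ := hc
      obtain ⟨s, hs, hsu⟩ := h1 hg₁
      obtain ⟨s', hs', hsu'⟩ := ih ha'
      have hm : g₁ * a' ∈ ℬ (d + 1) := by
        rw [add_comm]; exact SetLike.mul_mem_graded hg₁ ha'
      refine ⟨hm, s * s', by rw [add_comm]; exact SetLike.mul_mem_graded hs hs', fun g hg V hVT h => ?_⟩
      rw [fr_congr hg hm (SetLike.mul_mem_graded hg₁ ha') rfl (add_comm d 1), fr_mul hg hg₁ ha']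
      simp only [map_mul, rz]
      change rz hVT _ * rz hVT _ = _
      rw [hsu g hg V hVT h, hsu' g hg V hVT h]
      ring
    | zero =>
      refine ⟨zero_mem _, 0, zero_mem _, fun g hg V hVT h => ?_⟩
      have e : fr hg (zero_mem (ℬ (d + 1))) = 0 := by
        have := fr_add hg (zero_mem (ℬ (d + 1))) (zero_mem (ℬ (d + 1)))
        rw [fr_congr hg (add_mem (zero_mem _) (zero_mem _)) (zero_mem _) (add_zero 0) rfl] at this
        exact left_eq_add.1 this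
      simp only [e, map_zero, rz, zero_mul]
    | add a b _ _ ha hb =>
      obtain ⟨ha', s, hs, hsu⟩ := ha
      obtain ⟨hb', s', hs', hsu'⟩ := hb
      refine ⟨add_mem ha' hb', s + s', add_mem hs hs', fun g hg V hVT h => ?_⟩
      rw [fr_add hg ha' hb']
      simp only [map_add, rz]
      change rz hVT _ + rz hVT _ = _
      rw [hsu g hg V hVT h, hsu' g hg V hVT h]
      ring

include hL hLq hj hP hPL hr hmul hlift in
/-- An immersion into a `Proj` by sections coming from `𝒮` makes `r` locally a closed immersion. -/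
theorem exists_isClosedImmersion_restrict [IsImmersion k]
    (hcov : ∀ x : ProjectiveSpectrum ℬ, ∃ g ∈ ℬ 1, g ∉ x.asHomogeneousIdeal) {x : X} (hx : x ∈ q ⁻¹ᵁ U) :
    ∃ (n : ℕ) (hn : 0 < n) (s : 𝒮.presheaf.obj (op U)) (hs : s ∈ 𝒮.deg U hU n),
      x ∈ locOf u U n s ∧ IsClosedImmersion (r ∣_ (std p chart U hU hn s hs).opensRange) := by
  let T := q ⁻¹ᵁ U
  let x' : T := ⟨x, hx⟩
  obtain ⟨n, b, hn, hb, hxb, hble⟩ := exists_basicOpen_le k.coborderRange (w := k x')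
    (subset_coborder ⟨x', rfl⟩)
  obtain ⟨s, hs, hsu⟩ := hasLift hU k ε hmul hlift hn hb
  haveI hcl : IsClosedImmersion (k ∣_ Proj.basicOpen ℬ b) := isClosedImmersion_restrict_of_le k hble
  have hDb : IsAffineOpen (Proj.basicOpen ℬ b) := Proj.isAffineOpen_basicOpen ℬ b hb hn
  have hGT : T.ι ''ᵁ (k ⁻¹ᵁ Proj.basicOpen ℬ b) ≤ T := T.ι_image_le _
  let G : X.Opens := T.ι ''ᵁ (k ⁻¹ᵁ Proj.basicOpen ℬ b)
  have hGa : IsAffineOpen G :=
    (isAffine_of_isClosedImmersion_restrict k hDb :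
      IsAffineOpen (k ⁻¹ᵁ Proj.basicOpen ℬ b)).image_of_isOpenImmersion T.ι
  have hσ := isHom_app u hU hs
  -- frames
  have hframe : ∀ y ∈ T, ∃ (g : A) (hg : g ∈ ℬ 1) (V : X.Opens) (_ : IsAffineOpen V) (hVT : V ≤ T),
      y ∈ V ∧ V ≤ T.ι ''ᵁ (k ⁻¹ᵁ Proj.basicOpen ℬ g) := fun y hy => by
    obtain ⟨g, hg, hgy⟩ := hcov (k ⟨y, hy⟩)
    obtain ⟨V, hV, hyV, hVle⟩ := exists_isAffineOpen_mem_and_subset (X := X) (x := y)
      (U := T.ι ''ᵁ (k ⁻¹ᵁ Proj.basicOpen ℬ g)) ⟨⟨y, hy⟩, hgy, rfl⟩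
    exact ⟨g, hg, V, hV, fun z hz => T.ι_image_le _ (hVle hz), hyV, hVle⟩
  -- the locus
  have hloc : ∀ (g : A) (hg : g ∈ ℬ 1) (V : X.Opens) (hV : IsAffineOpen V) (hVT : V ≤ T)
      (h : V ≤ T.ι ''ᵁ (k ⁻¹ᵁ Proj.basicOpen ℬ g)), ∀ y ∈ V, y ∈ locOf u U n s ↔ y ∈ G := by
    intro g hg V hV hVT h y hy
    have e1 := SetLike.ext_iff.1 (loc_inf_frame hL hLq hj hPL hn _ hσ
      (isFrame_of_gen hLq hj hV (isGen_sec k ε hg hVT h)) hVT (hsu g hg V hVT h)) y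
    have e2 : X.basicOpen (pl k h (fr hg hb)) =
        V ⊓ T.ι ''ᵁ (k ⁻¹ᵁ (Proj.basicOpen ℬ b ⊓ Proj.basicOpen ℬ g)) := by
      rw [← basicOpen_fr hcov hn hg hb, Scheme.preimage_basicOpen, Scheme.image_basicOpen T.ι]
      exact X.basicOpen_res _ _
    rw [e2] at e1
    constructor
    · intro hyl
      exact T.ι.image_mono ((Opens.map k.base).monotone inf_le_left) (e1.1 ⟨hyl, hy⟩).2
    · intro hyG
      refine (e1.2 ⟨hy, ?_⟩).1
      obtain ⟨z, hz, hzy⟩ := hyG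
      obtain ⟨z', hz', hzy'⟩ := h hy
      obtain rfl : z = z' := T.ι.isOpenEmbedding.injective (hzy.trans hzy'.symm)
      exact ⟨z, ⟨hz, hz'⟩, hzy⟩
  have hG : G = locOf u U n s := by
    apply Opens.ext
    ext y
    by_cases hy : y ∈ T
    · obtain ⟨g, hg, V, hV, hVT, hyV, h⟩ := hframe y hy
      exact (hloc g hg V hV hVT h y hyV).symm
    · exact ⟨fun h => (hy (hGT h)).elim, fun h => (hy (loc_le _ _ _ h)).elim⟩
  have hxG : x ∈ G := ⟨x', hxb, rfl⟩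
  refine ⟨n, hn, s, hs, hG ▸ hxG, ?_⟩
  refine (restrict_locOf_iff hL hLq hj hP hPL hr hU hn hs G hGa hGT hG @IsClosedImmersion).2
    (IsClosedImmersion.spec_of_surjective _ ?_)
  let ψ := u.gradedAt U hU G hGa hGT
  refine (awayMap_surjective_iff ψ hs (𝒮L.strZero G hGa).hom
    (fromZero_locOf_bijective hL hLq hj hPL hU hn hs G hGa hGT hG).2).2 fun t => ?_
  -- `t` comes from a fraction
  haveI : IsAffine (Proj.basicOpen ℬ b : Scheme.{u}) := hDb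
  obtain ⟨c, hc⟩ : ∃ c : Γ(Proj ℬ, Proj.basicOpen ℬ b), pl k (le_refl G) c = t := by
    have hsurj : Function.Surjective (k.app (Proj.basicOpen ℬ b)) := by
      have h := (k ∣_ Proj.basicOpen ℬ b).app_surjective ⊤ (isAffineOpen_top _)
      have e : (Proj.basicOpen ℬ b).ι ''ᵁ ⊤ = Proj.basicOpen ℬ b := by simp
      rw [morphismRestrict_app] at h
      have hiso := ConcreteCategory.bijective_of_isIso ((T : Scheme.{u}).presheaf.map
        (eqToHom (image_morphismRestrict_preimage k (Proj.basicOpen ℬ b) ⊤)).op)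
      have h' : Function.Surjective (k.app ((Proj.basicOpen ℬ b).ι ''ᵁ ⊤)) := fun y => by
        obtain ⟨c, hc⟩ := h ((T : Scheme.{u}).presheaf.map
          (eqToHom (image_morphismRestrict_preimage k (Proj.basicOpen ℬ b) ⊤)).op y)
        exact ⟨c, hiso.1 hc⟩
      rwa [e] at h'
    obtain ⟨c, hc⟩ := hsurj ((T.ι.appIso (k ⁻¹ᵁ Proj.basicOpen ℬ b)).hom t)
    refine ⟨c, ?_⟩
    change (X.presheaf.map (𝟙 _)).hom ((T.ι.appIso _).inv (k.app _ c)) = t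
    rw [hc, X.presheaf.map_id]
    exact congr($((T.ι.appIso (k ⁻¹ᵁ Proj.basicOpen ℬ b)).hom_inv_id) t)
  obtain ⟨z, rfl⟩ : ∃ z, Proj.awayToSection ℬ b z = c :=
    ⟨(Proj.basicOpenIsoAway ℬ b hb hn).inv c, congr($((Proj.basicOpenIsoAway ℬ b hb hn).inv_hom_id) c)⟩
  obtain ⟨m, a, ha, rfl⟩ := Away.mk_surjective ℬ hb z
  obtain ⟨m', a', ha', hm', hz⟩ : ∃ (m' : ℕ) (a' : A) (ha' : a' ∈ ℬ (m' • n)) (_ : 0 < m'),
      Away.mk ℬ hb m' a' ha' = Away.mk ℬ hb m a ha := by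
    refine ⟨m + 1, b * a, by rw [add_comm, add_smul, one_smul]; exact SetLike.mul_mem_graded hb ha, m.succ_pos, ?_⟩
    apply val_injective
    rw [Away.val_mk, Away.val_mk, Localization.mk_eq_mk_iff, Localization.r_iff_exists]
    exact ⟨1, by simp [pow_succ]; ring⟩
  rw [← hz] at hc
  rw [smul_eq_mul] at ha'
  obtain ⟨sa, hsa, hsau⟩ := hasLift hU k ε hmul hlift (d := m' * n) (Nat.mul_pos hm' hn) ha'
  refine ⟨m', hm', sa, hsa, ?_⟩
  choose g hg V hV hVT hyV h using fun y : G => hframe y.1 (hGT y.2)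
  refine eq_of_cover (fun y => G ⊓ V y) (fun _ => inf_le_left)
    (fun y hy => Opens.mem_iSup.2 ⟨⟨y, hy⟩, hy, hyV ⟨y, hy⟩⟩) _ _ fun y => ?_
  change rz inf_le_left ((𝒮L.str.app (op G)).hom t * rz hGT ((u.app U).hom s) ^ m') =
    rz inf_le_left (rz hGT ((u.app U).hom sa))
  rw [rz_rz, rz, map_mul, map_pow,
    show (𝒮L.presheaf.map (homOfLE inf_le_left).op).hom (rz hGT ((u.app U).hom s)) =
      rz inf_le_right (rz (hVT y) ((u.app U).hom s)) from (rz_rz _ _ _).trans (rz_rz _ _ _).symm,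
    hsu (g y) (hg y) (V y) (hVT y) (h y),
    show rz (inf_le_left.trans hGT) ((u.app U).hom sa) = rz inf_le_right (rz (hVT y) ((u.app U).hom sa)) from
      (rz_rz _ _ _).symm, hsau (g y) (hg y) (V y) (hVT y) (h y)]
  simp only [rz, map_mul, map_pow, mul_pow]
  rw [show (𝒮L.presheaf.map (homOfLE inf_le_left).op).hom ((𝒮L.str.app (op G)).hom t) = _ from rz_str _ t,
    show (𝒮L.presheaf.map (homOfLE inf_le_right).op).hom ((𝒮L.str.app (op (V y))).hom (pl k (h y) (fr (hg y) hb))) = _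
      from rz_str _ _,
    show (𝒮L.presheaf.map (homOfLE inf_le_right).op).hom ((𝒮L.str.app (op (V y))).hom (pl k (h y) (fr (hg y) ha'))) = _
      from rz_str _ _, ← mul_assoc, ← map_pow, ← map_mul, ← pow_mul, mul_comm n m']
  congr 2
  rw [← hc, rs_pl, rs_pl, rs_pl, ← map_pow]
  have hW : G ⊓ V y ≤ T.ι ''ᵁ (k ⁻¹ᵁ (Proj.basicOpen ℬ b ⊓ Proj.basicOpen ℬ (g y))) := fun z hz => by
    obtain ⟨w, hw, hwz⟩ := hz.1
    obtain ⟨w', hw', hwz'⟩ := h y hz.2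
    obtain rfl : w = w' := T.ι.isOpenEmbedding.injective (hwz.trans hwz'.symm)
    exact ⟨w, ⟨hw, hw'⟩, hwz⟩
  rw [← pl_res k (inf_le_left : Proj.basicOpen ℬ b ⊓ Proj.basicOpen ℬ (g y) ≤ _) hW,
    ← pl_res k (inf_le_right : Proj.basicOpen ℬ b ⊓ Proj.basicOpen ℬ (g y) ≤ _) hW (fr (hg y) hb ^ m'),
    ← pl_res k (inf_le_right : Proj.basicOpen ℬ b ⊓ Proj.basicOpen ℬ (g y) ≤ _) hW (fr (hg y) ha'),
    ← map_mul, map_pow]
  exact congrArg (pl k hW) (away_mul_fr_pow (hg y) hb ha' inf_le_left inf_le_right)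

end Groth.Agent.Lib.ProjQ
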