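import Groth.Agent.Lib.ProjQ.Props

/-!
# Filtered systems of graded algebras mapping to a given one
-/

set_option autoImplicit false
universe u

open CategoryTheory CategoryTheory.Limits AlgebraicGeometry TopologicalSpace Opposite
open scoped HomogeneousIdeal

noncomputable section

namespace Groth.Agent.Lib.ProjQ

theorem compactSpace_of_iso {A B C : Scheme.{u}} (e : A ⟶ B) [IsIso e] (q : B ⟶ C) [QuasiCompact q]
    [CompactSpace C] : CompactSpace A := by
  haveI : CompactSpace B := QuasiCompact.compactSpace_of_compactSpace q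
  exact QuasiCompact.compactSpace_of_compactSpace e

variable {Y : Scheme.{u}} {𝒮 : RelProj.QCGrAlg Y}

section

variable {𝒯 : RelProj.QCGrAlg Y} (φ : 𝒯.toQCAlg ⟶ 𝒮.toQCAlg) (hφ : RelProj.IsGradedHom φ)

include hφ in
/-- A preimage of a homogeneous element can be taken homogeneous of the same degree. -/
theorem exists_homogeneous_preimage {U : Y.Opens} (hU : IsAffineOpen U) {d : ℕ}
    {f : 𝒮.presheaf.obj (op U)} (hf : f ∈ 𝒮.deg U hU d) {y : 𝒯.presheaf.obj (op U)}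
    (hy : (φ.hom.app (op U)).hom y = f) :
    ∃ y' ∈ 𝒯.deg U hU d, (φ.hom.app (op U)).hom y' = f := by
  classical
  refine ⟨DirectSum.decompose (𝒯.deg U hU) y d, SetLike.coe_mem _, ?_⟩
  change RelProj.gradedHomAt φ hφ U hU _ = f
  rw [GradedRingHom.map_directSumDecompose, show RelProj.gradedHomAt φ hφ U hU y = f from hy,
    DirectSum.decompose_of_mem_same _ hf]

end

variable {Λ : Type u} [Preorder Λ] [IsDirected Λ (· ≤ ·)] [Nonempty Λ] {𝒮i : Λ → RelProj.QCGrAlg Y}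
  {φ : ∀ i, (𝒮i i).toQCAlg ⟶ 𝒮.toQCAlg}

/-- A homogeneous element of the limit comes from a homogeneous one, at every later stage. -/
theorem exists_stage (hφ : ∀ i, RelProj.IsGradedHom (φ i))
    (t : ∀ i j, i ≤ j → ((𝒮i i).toQCAlg ⟶ (𝒮i j).toQCAlg)) (ht : ∀ i j (h : i ≤ j), RelProj.IsGradedHom (t i j h))
    (hφt : ∀ i j (h : i ≤ j), t i j h ≫ φ j = φ i)
    (hsurj : ∀ (U : Y.Opens), IsAffineOpen U → ∀ x : 𝒮.presheaf.obj (op U),
      ∃ (i : Λ) (y : (𝒮i i).presheaf.obj (op U)), ((φ i).hom.app (op U)).hom y = x)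
    {U : Y.Opens} (hU : IsAffineOpen U) {d : ℕ} {f : 𝒮.presheaf.obj (op U)} (hf : f ∈ 𝒮.deg U hU d) :
    ∃ i : Λ, ∀ j, i ≤ j → ∃ y ∈ (𝒮i j).deg U hU d, ((φ j).hom.app (op U)).hom y = f := by
  obtain ⟨i, y₀, hy₀⟩ := hsurj U hU f
  obtain ⟨y, hy, hyf⟩ := exists_homogeneous_preimage (φ i) (hφ i) hU hf hy₀
  refine ⟨i, fun j h => ⟨((t i j h).hom.app (op U)).hom y, ht i j h U hU d y hy, ?_⟩⟩
  rw [← hyf, ← hφt i j h]
  rfl

end Groth.Agent.Lib.ProjQ
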