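import Groth.Agent.Lib.ProjQ.Ampleness

/-!
# Extension of homogeneous sections from the locus of a section
-/

set_option autoImplicit false
universe u

open CategoryTheory CategoryTheory.Limits AlgebraicGeometry TopologicalSpace Opposite
open scoped HomogeneousIdeal

noncomputable section

namespace Groth.Agent.Lib.ProjQ.SecAlg

variable {X : Scheme.{u}} {L : X.Modules} {𝒮 : RelProj.QCGrAlg X} {j : L ⟶ 𝒮.toModule}
  {PL : Scheme.{u}} {pL : PL ⟶ X}
  {chartL : ∀ (U : X.Opens) (hU : IsAffineOpen U), ((pL ⁻¹ᵁ U : PL.Opens) : Scheme.{u}) ≅ Proj (𝒮.deg U hU)}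
  (hL : PicF.IsInvertible L) (hLq : Coh.IsQCoh L) (hj : RelProj.IsGrSymAlg L 𝒮 j)
  (hPL : RelProj.IsRelProj 𝒮 pL chartL)

open TensorMod TensorMod.Gen in
theorem exists_gens (hL : PicF.IsInvertible L) {W : X.Opens} (hW : IsCompact (W : Set X)) :
    ∃ (N : ℕ) (V : Fin N → X.Opens) (_ : ∀ i, IsAffineOpen (V i))
      (e : ∀ i, Γ(L, V i)), (∀ i, IsGen L (V i) (e i)) ∧ (∀ i, V i ≤ W) ∧ W ≤ iSup V := by
  choose V hV e hxV hVW he using fun x : W => exists_gen_nhd hL (x := x.1) x.2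
  obtain ⟨s, hs⟩ := hW.elim_finite_subcover (fun x => (V x : Set X)) (fun x => (V x).isOpen)
    fun y hy => Set.mem_iUnion.2 ⟨⟨y, hy⟩, hxV ⟨y, hy⟩⟩
  refine ⟨s.card, fun i => V (s.equivFin.symm i), fun i => hV _, fun i => e _, fun i => he _, fun i => hVW _,
    fun y hy => ?_⟩
  obtain ⟨x, hx, hyx⟩ := Set.mem_iUnion₂.1 (hs hy)
  exact Opens.mem_iSup.2 ⟨s.equivFin ⟨x, hx⟩, by simpa using hyx⟩

include hL hLq hj hPL in
theorem exists_extension_deg {e₀ : ℕ} {n : ℕ} (hn : 0 < n) {T : X.Opens} (hT : IsCompact (T : Set X))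
    (hqs : ∀ V V' : X.Opens, IsAffineOpen V → IsAffineOpen V' → V ≤ T → V' ≤ T →
      IsCompact ((V ⊓ V' : X.Opens) : Set X))
    (σ : 𝒮.presheaf.obj (op T)) (hσ : IsHom 𝒮 n T σ) (w : 𝒮.presheaf.obj (op (loc 𝒮 n T σ)))
    (hw : IsHom 𝒮 e₀ (loc 𝒮 n T σ) w) :
    ∃ m : ℕ, 0 < m ∧ ∃ z : 𝒮.presheaf.obj (op T), IsLocHom 𝒮 (m * n + e₀) T z ∧
      rz (loc_le n T σ) z = w * rz (loc_le n T σ) σ ^ m := by
  obtain ⟨N, V, hV, e, he, hVT, hcov⟩ := exists_gens hL hT
  let t : ∀ i, 𝒮.presheaf.obj (op (V i)) := fun i => el j (V i) (e i)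
  have ht : ∀ i, IsFrame 𝒮 (V i) (hV i) (t i) := fun i => isFrame_of_gen hLq hj (hV i) (he i)
  choose a ha using fun i => (ht i).surj n _ (hσ (V i) (hV i) (hVT i))
  have hG : ∀ i, X.basicOpen (a i) ≤ loc 𝒮 n T σ := fun i => by
    rw [← loc_inf_frame hL hLq hj hPL hn σ hσ (ht i) (hVT i) (ha i)]; exact inf_le_left
  have hfr : ∀ i, ∃ c : Γ(X, X.basicOpen (a i)),
      rz (hG i) w = (𝒮.str.app (op (X.basicOpen (a i)))).hom c * rz (X.basicOpen_le (a i)) (t i) ^ e₀ := fun i => by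
    obtain ⟨c, hc⟩ := (isFrame_of_gen hLq hj ((hV i).basicOpen (a i)) ((he i).res (X.basicOpen_le (a i)))).surj e₀ _
      (hw _ ((hV i).basicOpen (a i)) (hG i))
    exact ⟨c, hc.trans (by rw [rz_el])⟩
  choose c hc using hfr
  -- local fractions
  have h1 : ∀ i, ∀ᶠ m in Filter.atTop, ∃ b : Γ(X, V i),
      (X.presheaf.map (homOfLE (X.basicOpen_le (a i))).op).hom b =
        (X.presheaf.map (homOfLE (X.basicOpen_le (a i))).op).hom (a i) ^ m *
          c i := fun i => by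
    haveI := (hV i).isLocalization_basicOpen (a i)
    obtain ⟨⟨b, ⟨_, m, rfl⟩⟩, hb⟩ := IsLocalization.surj (Submonoid.powers (a i))
      (c i)
    refine Filter.eventually_atTop.2 ⟨m, fun k hk => ⟨a i ^ (k - m) * b, ?_⟩⟩
    simp only [RingHom.algebraMap_toAlgebra, map_pow] at hb
    rw [map_mul, map_pow, show (X.presheaf.map (homOfLE (X.basicOpen_le (a i))).op).hom b = _ from hb.symm,
      ← mul_assoc, mul_comm _ (c i), mul_assoc, ← pow_add,
      Nat.sub_add_cancel hk, mul_comm]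
  obtain ⟨m, hm⟩ := (Filter.eventually_all.2 h1).exists
  choose b hb using hm
  let d : ∀ i, 𝒮.presheaf.obj (op (V i)) := fun i => (𝒮.str.app (op (V i))).hom (b i) * t i ^ (n * m + e₀)
  -- on the locus the local sections are `c σ^m`
  have hd : ∀ i (W : X.Opens) (hWV : W ≤ V i) (hWG : W ≤ loc 𝒮 n T σ),
      rz hWV (d i) = rz hWG (w * rz (loc_le n T σ) σ ^ m) := by
    intro i W hWV hWG
    have hWD : W ≤ X.basicOpen (a i) := by
      rw [← loc_inf_frame hL hLq hj hPL hn σ hσ (ht i) (hVT i) (ha i)]; exact le_inf hWG hWV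
    have e : rz (X.basicOpen_le (a i)) (d i) =
        rz (hG i) (w * rz (loc_le n T σ) σ ^ m) := by
      have e1 : rz (hG i) (rz (loc_le n T σ) σ) = rz (X.basicOpen_le (a i)) (rz (hVT i) σ) := by
        rw [rz_rz, rz_rz]
      rw [rz, rz, map_mul, map_mul, map_pow, map_pow, show (𝒮.presheaf.map (homOfLE (hG i)).op).hom (rz _ σ) = _ from e1,
        show (𝒮.presheaf.map (homOfLE (hG i)).op).hom w = _ from hc i, ha i]
      simp only [rz, map_mul, map_pow]
      rw [show (𝒮.presheaf.map (homOfLE (X.basicOpen_le (a i))).op).hom ((𝒮.str.app (op (V i))).hom (b i)) = _ from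
          rz_str _ _, show (𝒮.presheaf.map (homOfLE (X.basicOpen_le (a i))).op).hom ((𝒮.str.app (op (V i))).hom (a i)) = _ from
          rz_str _ _, hb i, map_mul, map_pow]
      ring
    rw [← rz_rz hWD (X.basicOpen_le (a i)), e, rz_rz]
  -- the overlaps agree after multiplying by a power of `σ`
  have h2 : ∀ p : Fin N × Fin N, ∀ᶠ e in Filter.atTop,
      rz (inf_le_left : V p.1 ⊓ V p.2 ≤ V p.1) (rz (hVT p.1) σ ^ e * d p.1) =
        rz inf_le_right (rz (hVT p.2) σ ^ e * d p.2) := fun p => by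
    obtain ⟨k, hk⟩ := exists_pow_mul_eq_zero hL hLq hj hPL hn σ hσ
      (W := V p.1 ⊓ V p.2) (inf_le_left.trans (hVT p.1)) (hqs _ _ (hV p.1) (hV p.2) (hVT p.1) (hVT p.2))
      (rz inf_le_left (d p.1) - rz inf_le_right (d p.2)) (by
        rw [rz, map_sub, sub_eq_zero]
        change rz inf_le_left (rz _ (d p.1)) = rz inf_le_left (rz _ (d p.2))
        rw [rz_rz, rz_rz, hd p.1 _ (inf_le_left.trans inf_le_left) inf_le_right,
          hd p.2 _ (inf_le_left.trans inf_le_right) inf_le_right])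
    refine Filter.eventually_atTop.2 ⟨k, fun e he => ?_⟩
    obtain ⟨l, rfl⟩ := Nat.exists_eq_add_of_le he
    rw [← sub_eq_zero]
    simp only [rz, map_mul, map_pow]
    change rz inf_le_left (rz (hVT p.1) σ) ^ (k + l) * _ - rz inf_le_right (rz (hVT p.2) σ) ^ (k + l) * _ = 0
    rw [rz_rz, rz_rz, ← mul_sub, pow_add, mul_comm (_ ^ k), mul_assoc]
    exact mul_eq_zero_of_right _ hk
  obtain ⟨e, hee, he1⟩ := ((Filter.eventually_all.2 h2).and (Filter.eventually_ge_atTop 1)).exists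
  obtain ⟨z, hz⟩ := exists_glue V hVT hcov (fun i => rz (hVT i) σ ^ e * d i) fun i k => hee (i, k)
  refine ⟨e + m, Nat.add_pos_left he1 m, z, fun x hx => ?_, ?_⟩
  · obtain ⟨i, hi⟩ := Opens.mem_iSup.1 (hcov hx)
    refine ⟨V i, hV i, hVT i, hi, ?_⟩
    rw [hz i, add_mul, add_assoc]
    refine SetLike.mul_mem_graded (SetLike.pow_mem_graded e (hσ _ (hV i) _)) ?_
    simpa [d, mul_comm n m] using SetLike.mul_mem_graded (𝒮.str_mem _ (hV i) (b i))
      (SetLike.pow_mem_graded (n * m + e₀) (ht i).mem)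
  · refine eq_of_cover (fun i => V i ⊓ loc 𝒮 n T σ) (fun i => inf_le_right) (fun x hx => ?_) _ _ fun i => ?_
    · obtain ⟨i, hi⟩ := Opens.mem_iSup.1 (hcov (loc_le n T σ hx))
      exact Opens.mem_iSup.2 ⟨i, hi, hx⟩
    · rw [rz_rz, ← rz_rz (inf_le_left : V i ⊓ loc 𝒮 n T σ ≤ V i) (hVT i) z, hz i,
        show rz (inf_le_left : V i ⊓ loc 𝒮 n T σ ≤ V i) (rz (hVT i) σ ^ e * d i) =
          rz inf_le_left (rz (hVT i) σ) ^ e * rz inf_le_left (d i) by simp only [rz, map_mul, map_pow],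
        hd i _ inf_le_left inf_le_right]
      simp only [rz, map_mul, map_pow]
      change rz inf_le_left (rz (hVT i) σ) ^ e * (_ * rz inf_le_right (rz (loc_le n T σ) σ) ^ m) =
        _ * rz inf_le_right (rz (loc_le n T σ) σ) ^ (e + m)
      rw [rz_rz, rz_rz]
      ring

end Groth.Agent.Lib.ProjQ.SecAlg
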