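import Groth.Agent.Lib.ProjQ.ExtDeg
import Groth.Agent.Lib.SymAlg.PE.Basic

/-!
# Fractions on a standard open and their inverse images
-/

set_option autoImplicit false
universe u

open CategoryTheory CategoryTheory.Limits AlgebraicGeometry TopologicalSpace Opposite HomogeneousLocalization
open scoped HomogeneousIdeal
open Groth.Agent.Lib.RelProjBasics.Basic (chartStr)

noncomputable section

namespace Groth.Agent.Lib.ProjQ

variable {Y P : Scheme.{u}} {𝒮 : RelProj.QCGrAlg Y} {p : P ⟶ Y}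
  {chart : ∀ (U : Y.Opens) (hU : IsAffineOpen U), ((p ⁻¹ᵁ U : P.Opens) : Scheme.{u}) ≅ Proj (𝒮.deg U hU)}
  {U : Y.Opens} {hU : IsAffineOpen U} {d : ℕ} {f : 𝒮.presheaf.obj (op U)}

variable (p chart hU) in
/-- `D₊(f)`. -/
def dOpen (f : 𝒮.presheaf.obj (op U)) : P.Opens :=
  (RelProj.emb p chart U hU) ''ᵁ Proj.basicOpen (𝒮.deg U hU) f

theorem preimage_dOpen : RelProj.emb p chart U hU ⁻¹ᵁ dOpen p chart hU f = Proj.basicOpen (𝒮.deg U hU) f :=
  (RelProj.emb p chart U hU).preimage_image_eq _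

theorem dOpen_le : dOpen p chart hU f ≤ p ⁻¹ᵁ U :=
  (Scheme.Hom.image_le_opensRange _ _).trans (opensRange_emb (p := p) (chart := chart) U hU).le

theorem std_le (hd : 0 < d) (hf : f ∈ 𝒮.deg U hU d) :
    (⊤ : (Spec (CommRingCat.of (Away (𝒮.deg U hU) f))).Opens) ≤
      std p chart U hU hd f hf ⁻¹ᵁ dOpen p chart hU f := by
  rw [std, Scheme.Hom.comp_preimage, preimage_dOpen, ← Proj.opensRange_awayι (𝒮.deg U hU) f hf hd,
    Scheme.Hom.preimage_opensRange]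

/-- A fraction of degree zero as a function on `D₊(f)`, read on the standard chart. -/
theorem exists_fun (hd : 0 < d) (hf : f ∈ 𝒮.deg U hU d) (z : Away (𝒮.deg U hU) f) :
    ∃ γ : Γ(P, dOpen p chart hU f),
      (std p chart U hU hd f hf).appLE _ ⊤ (std_le hd hf) γ = (Scheme.ΓSpecIso _).inv z ∧
      ∀ y : ↥(RelProj.emb p chart U hU ⁻¹ᵁ dOpen p chart hU f),
        ((((RelProj.emb p chart U hU).app (dOpen p chart hU f) γ) :
          GrTwist.O (𝒜 := 𝒮.deg U hU) (op (RelProj.emb p chart U hU ⁻¹ᵁ dOpen p chart hU f))).1 y) =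
        ((Proj.awayToSection (𝒮.deg U hU) f z :
          GrTwist.O (𝒜 := 𝒮.deg U hU) (op (Proj.basicOpen (𝒮.deg U hU) f))).1 ⟨y.1, preimage_dOpen.le y.2⟩) := by
  let eU := RelProj.emb p chart U hU
  let a := Proj.awayι (𝒮.deg U hU) f hf hd
  let toB := eU.appLE (dOpen p chart hU f) (Proj.basicOpen (𝒮.deg U hU) f) preimage_dOpen.ge
  haveI : IsIso toB := by
    have h1 : IsIso (eU.app (dOpen p chart hU f)) := eU.isIso_app _ (Scheme.Hom.image_le_opensRange _ _)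
    change IsIso (eU.appLE _ _ _)
    rw [Scheme.Hom.appLE]
    have h2 : IsIso ((Proj (𝒮.deg U hU)).presheaf.map
        (homOfLE (preimage_dOpen (p := p) (chart := chart) (hU := hU) (f := f)).ge).op) := by
      have : IsIso (homOfLE (preimage_dOpen (p := p) (chart := chart) (hU := hU) (f := f)).ge) :=
        ⟨homOfLE preimage_dOpen.le, rfl, rfl⟩
      infer_instance
    infer_instance
  have hab : (⊤ : (Spec (CommRingCat.of (Away (𝒮.deg U hU) f))).Opens) ≤ a ⁻¹ᵁ Proj.basicOpen (𝒮.deg U hU) f := by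
    rw [← Proj.opensRange_awayι (𝒮.deg U hU) f hf hd, Scheme.Hom.preimage_opensRange]
  have hsec : Proj.awayToSection (𝒮.deg U hU) f ≫ a.appLE _ ⊤ hab ≫ (Scheme.ΓSpecIso _).hom = 𝟙 _ := by
    let iso := Proj.basicOpenIsoSpec (𝒮.deg U hU) f hf hd
    have h1 : iso.hom.appTop = (Scheme.ΓSpecIso _).hom ≫ Proj.awayToSection (𝒮.deg U hU) f ≫
        (Proj.basicOpen (𝒮.deg U hU) f).topIso.inv := Proj.basicOpenToSpec_app_top (𝒮.deg U hU) f
    have h2 : a.appLE _ ⊤ hab = (Proj.basicOpen (𝒮.deg U hU) f).topIso.inv ≫ iso.inv.appTop := by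
      have e' : (⊤ : ((Proj.basicOpen (𝒮.deg U hU) f : (Proj (𝒮.deg U hU)).Opens) : Scheme.{u}).Opens) ≤
          (Proj.basicOpen (𝒮.deg U hU) f).ι ⁻¹ᵁ Proj.basicOpen (𝒮.deg U hU) f := by
        rw [Scheme.Opens.ι_preimage_self]
      change (iso.inv ≫ (Proj.basicOpen (𝒮.deg U hU) f).ι).appLE _ ⊤ _ = _
      rw [← Scheme.Hom.appLE_comp_appLE iso.inv (Proj.basicOpen (𝒮.deg U hU) f).ι _ ⊤ ⊤ e' le_top,
        SymAlg.PE.appLE_top_top]
      congr 1
    rw [← Iso.inv_comp_eq] at h1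
    rw [h2]
    simp only [Category.assoc]
    rw [← reassoc_of% h1, ← Scheme.Hom.comp_appTop_assoc, iso.inv_hom_id]
    simp
  refine ⟨inv toB (Proj.awayToSection (𝒮.deg U hU) f z), ?_, fun y => ?_⟩
  · have e1 : (std p chart U hU hd f hf).appLE _ ⊤ (std_le hd hf) = toB ≫ a.appLE _ ⊤ hab :=
      (Scheme.Hom.appLE_comp_appLE a eU (dOpen p chart hU f) (Proj.basicOpen (𝒮.deg U hU) f) ⊤ preimage_dOpen.ge hab).symm
    rw [e1, CommRingCat.comp_apply, ← CommRingCat.comp_apply (inv toB) toB, IsIso.inv_hom_id, CommRingCat.id_apply]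
    have h3 := congrArg (Scheme.ΓSpecIso (CommRingCat.of (Away (𝒮.deg U hU) f))).inv
      (DFunLike.congr_fun (congrArg CommRingCat.Hom.hom hsec) z)
    refine Eq.trans ?_ h3
    exact ((Scheme.ΓSpecIso (CommRingCat.of (Away (𝒮.deg U hU) f))).hom_inv_id_apply _).symm
  · have e : toB (inv toB (Proj.awayToSection (𝒮.deg U hU) f z)) = Proj.awayToSection (𝒮.deg U hU) f z := by
      rw [← CommRingCat.comp_apply, IsIso.inv_hom_id]
      rfl
    exact congrArg (fun t : Γ(Proj (𝒮.deg U hU), Proj.basicOpen (𝒮.deg U hU) f) =>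
      (t : GrTwist.O (𝒜 := 𝒮.deg U hU) (op (Proj.basicOpen (𝒮.deg U hU) f))).1 ⟨y.1, preimage_dOpen.le y.2⟩) e

section pull

open SecAlg

variable {X PL : Scheme.{u}} {q : X ⟶ Y} {L : X.Modules} {𝒮L : RelProj.QCGrAlg X} {j : L ⟶ 𝒮L.toModule}
  {u : RelProj.QGrHom q 𝒮 𝒮L} {pL : PL ⟶ X}
  {chartL : ∀ (U : X.Opens) (hU : IsAffineOpen U), ((pL ⁻¹ᵁ U : PL.Opens) : Scheme.{u}) ≅ Proj (𝒮L.deg U hU)}
  (hL : PicF.IsInvertible L) (hLq : Coh.IsQCoh L) (hj : RelProj.IsGrSymAlg L 𝒮L j)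
  (hP : RelProj.IsRelProj 𝒮 p chart) (hPL : RelProj.IsRelProj 𝒮L pL chartL)
  {r : (RelProj.domQ u pL chartL : Scheme.{u}) ⟶ P}
  (hr : RelProj.IsProjQMapOn u p chart pL chartL (RelProj.domQ u pL chartL) r)
  {R : X ⟶ P} (hR : ((RelProj.domQ u pL chartL).ι ≫ pL) ≫ R = r)
  (htop : RelProj.domQ u pL chartL = ⊤)
  {V : X.Opens} (hV : IsAffineOpen V) (hVU : V ≤ q ⁻¹ᵁ U) {t : 𝒮L.presheaf.obj (op V)} (ht : IsFrame 𝒮L V hV t)

include hL hLq hj hP hPL hr hR htop ht in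
/-- An open where the image of `f` is a unit times a power of the frame goes into `D₊(f)`. -/
theorem le_preimage_dOpen (hd : 0 < d) (hf : f ∈ 𝒮.deg U hU d) {β : Γ(X, V)} (hβ : IsUnit β)
    (hfV : rz hVU ((u.app U).hom f) = (𝒮L.str.app (op V)).hom β * t ^ d) : V ≤ R ⁻¹ᵁ dOpen p chart hU f := by
  haveI := isIso_proj hL hLq hj hPL
  intro x hx
  obtain ⟨y, rfl⟩ := pL.homeomorph.surjective x
  let y' : (RelProj.domQ u pL chartL : Scheme.{u}) := ⟨y, htop.ge (Set.mem_univ y)⟩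
  have h1 : pL y ∈ locOf u U d f := by
    have h2 := loc_inf_frame hL hLq hj hPL hd _ (isHom_app u hU hf) ht hVU hfV
    rw [Scheme.basicOpen_of_isUnit _ hβ] at h2
    exact (h2.ge hx).1
  have h3 := (mem_locOf_iff hL hLq hj hP hPL hr hU hd hf y').2 h1
  rw [opensRange_std] at h3
  have h4 : r y' = R (pL y) := by rw [← hR]; rfl
  exact Eq.mp (congrArg (· ∈ dOpen p chart hU f) h4) h3

include hL hLq hj hP hPL hr hR htop ht in
/-- The inverse image of `a / f` is the quotient of the images. -/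
theorem appLE_fun (hd : 0 < d) (hf : f ∈ 𝒮.deg U hU d) {a : 𝒮.presheaf.obj (op U)} (ha : a ∈ 𝒮.deg U hU (1 • d))
    {α β : Γ(X, V)} (hβ : IsUnit β)
    (haV : rz hVU ((u.app U).hom a) = (𝒮L.str.app (op V)).hom α * t ^ d)
    (hfV : rz hVU ((u.app U).hom f) = (𝒮L.str.app (op V)).hom β * t ^ d)
    {γ : Γ(P, dOpen p chart hU f)}
    (hγ : (std p chart U hU hd f hf).appLE _ ⊤ (std_le hd hf) γ =
      (Scheme.ΓSpecIso _).inv (Away.mk (𝒮.deg U hU) hf 1 a ha))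
    (hle : V ≤ R ⁻¹ᵁ dOpen p chart hU f) :
    R.appLE _ V hle γ * β = α := by
  let i : Idx (g := q) (𝒮 := 𝒮) := ⟨U, hU, V, hV, hVU, d, hd, f, hf⟩
  let g := u.gradedAt U hU V hV hVU f
  let ρ : Γ(X, V) ⟶ CommRingCat.of (Away (𝒮L.deg V hV) g) :=
    CommRingCat.ofHom ((fromZeroRingHom (𝒮L.deg V hV) (Submonoid.powers g)).comp (𝒮L.strZero V hV).hom)
  have hc : i.e pL chartL u ≫ pL ≫ R = i.c p chart u := by
    rw [← (isProjQMapOn_iff r).1 hr i, ← hR, ← lift_ι (u := u) (p' := pL) (chart' := chartL) i]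
    simp only [Category.assoc]
  have he : i.e pL chartL u ≫ pL = Spec.map ρ ≫ hV.fromSpec := std_over hPL V hV hd _ _
  set m := CommRingCat.ofHom (Away.map (u.gradedAt U hU V hV hVU) f) with hm
  have heq : (Spec.map ρ ≫ hV.fromSpec) ≫ R = Spec.map m ≫ std p chart U hU hd f hf := by
    rw [← he, Category.assoc, hc]
    rfl
  have e0 : (⊤ : (Spec Γ(X, V)).Opens) ≤ hV.fromSpec ⁻¹ᵁ V := by rw [hV.fromSpec_preimage_self]
  have e1 : (⊤ : (Spec (CommRingCat.of (Away (𝒮L.deg V hV) g))).Opens) ≤ (Spec.map ρ ≫ hV.fromSpec) ⁻¹ᵁ V := by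
    rw [Scheme.Hom.comp_preimage, hV.fromSpec_preimage_self]
    exact le_top
  have e2 : (⊤ : (Spec (CommRingCat.of (Away (𝒮L.deg V hV) g))).Opens) ≤
      ((Spec.map ρ ≫ hV.fromSpec) ≫ R) ⁻¹ᵁ dOpen p chart hU f := by
    rw [Scheme.Hom.comp_preimage]
    exact e1.trans (Scheme.Hom.preimage_mono _ hle)
  have e3 : (⊤ : (Spec (CommRingCat.of (Away (𝒮L.deg V hV) g))).Opens) ≤
      (Spec.map m ≫ std p chart U hU hd f hf) ⁻¹ᵁ dOpen p chart hU f := by
    rw [← heq]; exact e2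
  have e4 : (⊤ : (Spec (CommRingCat.of (Away (𝒮L.deg V hV) g))).Opens) ≤ Spec.map m ⁻¹ᵁ ⊤ :=
    le_top.trans (Scheme.Hom.preimage_top _).ge
  have hcongr : ∀ {A B : Scheme.{u}} {φ φ' : A ⟶ B} (_ : φ = φ') (O : B.Opens) (W : A.Opens)
      (h : W ≤ φ ⁻¹ᵁ O) (h' : W ≤ φ' ⁻¹ᵁ O), φ.appLE O W h = φ'.appLE O W h' := by
    rintro A B φ φ' rfl O W h h'
    rfl
  have h1 := (((Scheme.Hom.appLE_comp_appLE (Spec.map ρ ≫ hV.fromSpec) R _ V ⊤ hle e1).trans
    (hcongr heq _ ⊤ e2 e3)).trans (Scheme.Hom.appLE_comp_appLE (Spec.map m) (std p chart U hU hd f hf) _ ⊤ ⊤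
      (std_le hd hf) e4).symm)
  rw [← Scheme.Hom.appLE_comp_appLE (Spec.map ρ) hV.fromSpec V ⊤ ⊤ e0 le_top, SymAlg.PE.appLE_top_top,
    SymAlg.PE.appLE_top_top] at h1
  have h4 : hV.fromSpec.appLE V ⊤ e0 = (Scheme.ΓSpecIso Γ(X, V)).inv := by
    rw [Scheme.Hom.appLE, hV.fromSpec_app_self, Category.assoc, ← Functor.map_comp]
    convert Category.comp_id _
    exact (Spec Γ(X, V)).presheaf.map_id _
  rw [h4, ← Scheme.ΓSpecIso_inv_naturality] at h1
  have h5 := DFunLike.congr_fun (congrArg CommRingCat.Hom.hom h1) γ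
  set c := R.appLE _ V hle γ
  replace h5 : (Scheme.ΓSpecIso _).inv (ρ c) =
      (Spec.map m).appTop ((std p chart U hU hd f hf).appLE _ ⊤ (std_le hd hf) γ) := h5
  rw [hγ, ← CommRingCat.comp_apply (Scheme.ΓSpecIso (CommRingCat.of (Away (𝒮.deg U hU) f))).inv,
    ← Scheme.ΓSpecIso_inv_naturality, CommRingCat.comp_apply] at h5
  have h6 := (ConcreteCategory.bijective_of_isIso (Scheme.ΓSpecIso (CommRingCat.of (Away (𝒮L.deg V hV) g))).inv).1 h5
  have h7 : Localization.mk ((𝒮L.str.app (op V)).hom c) (1 : Submonoid.powers g) =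
      Localization.mk (u.gradedAt U hU V hV hVU a) (⟨g ^ 1, 1, rfl⟩ : Submonoid.powers g) := by
    have h8 := congrArg HomogeneousLocalization.val h6
    refine Eq.trans ?_ (h8.trans ?_)
    · rfl
    · rw [hm]
      change (Away.map (u.gradedAt U hU V hV hVU) f (Away.mk (𝒮.deg U hU) hf 1 a ha)).val = _
      rw [HomogeneousLocalization.Away.map_mk, Away.val_mk]
  obtain ⟨⟨_, N, rfl⟩, hN⟩ := Localization.r_iff_exists.1 (Localization.mk_eq_mk_iff.1 h7)
  have hg : g = (𝒮L.str.app (op V)).hom β * t ^ d := hfV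
  have hga : u.gradedAt U hU V hV hVU a = (𝒮L.str.app (op V)).hom α * t ^ d := haV
  simp only [OneMemClass.coe_one, one_mul, pow_one] at hN
  rw [hga, hg] at hN
  have h9 := ht.inj (d * (N + 1)) (β ^ N * (c * β - α)) (by
    simp only [map_mul, map_sub, map_pow]
    linear_combination hN)
  exact sub_eq_zero.1 ((hβ.pow N).mul_right_eq_zero.1 h9)

end pull

end Groth.Agent.Lib.ProjQ
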