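import Groth.Agent.Lib.ProjQ.Immersion
import Groth.Agent.Lib.ProjQ.Crit
import Groth.Agent.Lib.ProjQ.SecAlg

/-!
# The morphism attached to an invertible module over one standard open
-/

set_option autoImplicit false
universe u

open CategoryTheory CategoryTheory.Limits AlgebraicGeometry TopologicalSpace Opposite HomogeneousLocalization
open scoped HomogeneousIdeal
open Groth.Agent.Lib.RelProjBasics.Basic (chartStr)

noncomputable section

namespace Groth.Agent.Lib.ProjQ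

open SecAlg

variable {Y X P PL : Scheme.{u}} {q : X ⟶ Y} {L : X.Modules}
  {𝒮 : RelProj.QCGrAlg Y} {𝒮L : RelProj.QCGrAlg X} {j : L ⟶ 𝒮L.toModule}
  {u : RelProj.QGrHom q 𝒮 𝒮L} {p : P ⟶ Y}
  {chart : ∀ (U : Y.Opens) (hU : IsAffineOpen U), ((p ⁻¹ᵁ U : P.Opens) : Scheme.{u}) ≅ Proj (𝒮.deg U hU)}
  {pL : PL ⟶ X}
  {chartL : ∀ (U : X.Opens) (hU : IsAffineOpen U), ((pL ⁻¹ᵁ U : PL.Opens) : Scheme.{u}) ≅ Proj (𝒮L.deg U hU)}

variable (hL : PicF.IsInvertible L) (hLq : Coh.IsQCoh L) (hj : RelProj.IsGrSymAlg L 𝒮L j)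
  (hP : RelProj.IsRelProj 𝒮 p chart) (hPL : RelProj.IsRelProj 𝒮L pL chartL)
  {r : (RelProj.domQ u pL chartL : Scheme.{u}) ⟶ P}
  (hr : RelProj.IsProjQMapOn u p chart pL chartL (RelProj.domQ u pL chartL) r)
  {U : Y.Opens} (hU : IsAffineOpen U) {n : ℕ} (hn : 0 < n) {s : 𝒮.presheaf.obj (op U)} (hs : s ∈ 𝒮.deg U hU n)

/-- The locus of the image of `s`. -/
abbrev locOf (u : RelProj.QGrHom q 𝒮 𝒮L) (U : Y.Opens) (n : ℕ) (s : 𝒮.presheaf.obj (op U)) : X.Opens :=
  loc 𝒮L n (q ⁻¹ᵁ U) ((u.app U).hom s)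

include hL hLq hj hP hPL hr hn hs in
theorem mem_locOf_iff (x : (RelProj.domQ u pL chartL : Scheme.{u})) :
    r x ∈ (std p chart U hU hn s hs).opensRange ↔ pL x.1 ∈ locOf u U n s := by
  rw [opensRange_std]
  constructor
  · intro h
    have h1 : q (pL x.1) ∈ U := by
      rw [show q (pL x.1) = p (r x) from (congr($(over hP hPL hr) x)).symm]
      obtain ⟨w, -, hw⟩ := h
      exact hw ▸ (opensRange_emb (p := p) (chart := chart) U hU).le ⟨w, rfl⟩
    obtain ⟨V, hV, hxV, hVU⟩ := exists_isAffineOpen_mem_and_subset (X := X) (U := q ⁻¹ᵁ U) h1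
    exact (mem_emb_iff_mem_loc hL hLq hj hPL hn _ (isHom_app u hU hs) x.1 V hV hVU hxV).1
      ((mem_preimage_iff hP hPL hr U hU V hV hVU hn s hs x hxV).1 h)
  · intro h
    obtain ⟨V, hV, hxV, hVU⟩ := exists_isAffineOpen_mem_and_subset (X := X) (U := q ⁻¹ᵁ U) (loc_le _ _ _ h)
    exact (mem_preimage_iff hP hPL hr U hU V hV hVU hn s hs x hxV).2
      ((mem_emb_iff_mem_loc hL hLq hj hPL hn _ (isHom_app u hU hs) x.1 V hV hVU hxV).2 h)

include hL hLq hj hPL hU hn hs in
theorem mem_domQ_of_mem_locOf {y : PL} (h : pL y ∈ locOf u U n s) : y ∈ RelProj.domQ u pL chartL := by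
  obtain ⟨V, hV, hxV, hVU⟩ := exists_isAffineOpen_mem_and_subset (X := X) (U := q ⁻¹ᵁ U) (loc_le _ _ _ h)
  exact mem_domQ.2 ⟨⟨U, hU, V, hV, hVU, n, hn, s, hs⟩, (Idx.opensRange_e pL chartL _).ge
    ((mem_emb_iff_mem_loc hL hLq hj hPL hn _ (isHom_app u hU hs) y V hV hVU hxV).2 h)⟩

variable (G : X.Opens) (hGa : IsAffineOpen G) (hle : G ≤ q ⁻¹ᵁ U) (hG : G = locOf u U n s)

/-- The standard chart over the locus. -/
abbrev locIdx : Idx (g := q) (𝒮 := 𝒮) := ⟨U, hU, G, hGa, hle, n, hn, s, hs⟩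

include hL hLq hj hPL hU hn hs hG in
theorem basicOpen_locOf_eq_top :
    Proj.basicOpen (𝒮L.deg G hGa) (u.gradedAt U hU G hGa hle s) = ⊤ := by
  refine top_le_iff.1 fun w _ => ?_
  have hy : pL (RelProj.emb pL chartL G hGa w) ∈ G :=
    (opensRange_emb (p := pL) (chart := chartL) G hGa).le ⟨w, rfl⟩
  obtain ⟨w', hw', hww⟩ :=
    (mem_emb_iff_mem_loc hL hLq hj hPL hn _ (isHom_app u hU hs) (RelProj.emb pL chartL G hGa w) G hGa hle hy).2
      (hG ▸ hy)
  rwa [← (RelProj.emb pL chartL G hGa).isOpenEmbedding.injective hww]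

include hL hLq hj hP hPL hr hU hn hs hG in
theorem isPullback_locIdx :
    IsPullback (Spec.map (CommRingCat.ofHom (Away.map ((locIdx hU hn hs G hGa hle).φ u) s)))
      (lift (u := u) pL chartL (locIdx hU hn hs G hGa hle)) (std p chart U hU hn s hs) r := by
  refine IsOpenImmersion.isPullback _ _ _ _ ((isProjQMapOn_iff r).1 hr (locIdx hU hn hs G hGa hle)) ?_
  apply Opens.ext
  ext x
  change r x ∈ (std p chart U hU hn s hs).opensRange ↔
    x ∈ (lift (u := u) pL chartL (locIdx hU hn hs G hGa hle)).opensRange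
  rw [mem_locOf_iff hL hLq hj hP hPL hr hU hn hs x, ← hG]
  constructor
  · intro hx
    obtain ⟨w, hw⟩ := (opensRange_emb (p := pL) (chart := chartL) G hGa).ge hx
    obtain ⟨z, hz⟩ := ((locIdx hU hn hs G hGa hle).opensRange_e (u := u) pL chartL).ge
      ⟨w, (basicOpen_locOf_eq_top hL hLq hj hPL hU hn hs G hGa hle hG).ge (Set.mem_univ w), hw⟩
    exact ⟨z, (RelProj.domQ u pL chartL).ι.isOpenEmbedding.injective
      ((congr($(lift_ι (u := u) (p' := pL) (chart' := chartL) (locIdx hU hn hs G hGa hle)) z)).trans hz)⟩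
  · rintro ⟨z, rfl⟩
    have e1 : ((lift (u := u) pL chartL (locIdx hU hn hs G hGa hle)) z).1 =
        (locIdx hU hn hs G hGa hle).e pL chartL u z :=
      congr($(lift_ι (u := u) (p' := pL) (chart' := chartL) (locIdx hU hn hs G hGa hle)) z)
    rw [e1]
    obtain ⟨w, -, hw⟩ := ((locIdx hU hn hs G hGa hle).opensRange_e (u := u) pL chartL).le ⟨z, rfl⟩
    exact hw ▸ (opensRange_emb (p := pL) (chart := chartL) G hGa).le ⟨w, rfl⟩

include hL hLq hj hP hPL hr hU hn hs hG in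
theorem restrict_locOf_iff (Q : MorphismProperty Scheme.{u}) [Q.RespectsIso] :
    Q (r ∣_ (std p chart U hU hn s hs).opensRange) ↔
      Q (Spec.map (CommRingCat.ofHom (Away.map (u.gradedAt U hU G hGa hle) s))) := by
  have hpb := (isPullback_locIdx hL hLq hj hP hPL hr hU hn hs G hGa hle hG).flip
  rw [Q.arrow_mk_iso_iff (morphismRestrictOpensRange r (std p chart U hU hn s hs))]
  refine Iff.trans ?_ (MorphismProperty.cancel_left_of_respectsIso Q hpb.isoPullback.inv _)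
  exact Iff.of_eq (congrArg (fun f => Q f) hpb.isoPullback_inv_snd.symm)

include hL hLq hj hPL hU hn hs hG in
theorem fromZero_locOf_bijective :
    Function.Bijective ((fromZeroRingHom (𝒮L.deg G hGa)
      (Submonoid.powers (u.gradedAt U hU G hGa hle s))).comp (𝒮L.strZero G hGa).hom) := by
  haveI := isIso_proj hL hLq hj hPL
  haveI : IsIso (pL ∣_ G) := inferInstance
  haveI : IsIso (chartStr 𝒮L G hGa) := by
    have e := RelProjBasics.Basic.morphismRestrict_eq hPL G hGa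
    haveI : IsIso ((chartL G hGa).hom ≫ chartStr 𝒮L G hGa ≫ hGa.isoSpec.inv) := e ▸ inferInstance
    haveI := IsIso.of_isIso_comp_left (chartL G hGa).hom (chartStr 𝒮L G hGa ≫ hGa.isoSpec.inv)
    exact IsIso.of_isIso_comp_right (chartStr 𝒮L G hGa) hGa.isoSpec.inv
  let a := Proj.awayι (𝒮L.deg G hGa) (u.gradedAt U hU G hGa hle s)
    ((u.gradedAt U hU G hGa hle).map_mem hs) hn
  haveI : Epi a.base :=
    (TopCat.epi_iff_surjective _).2 fun w => (Proj.opensRange_awayι _ _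
      ((u.gradedAt U hU G hGa hle).map_mem hs) hn).ge
        ((basicOpen_locOf_eq_top hL hLq hj hPL hU hn hs G hGa hle hG).ge (Set.mem_univ w))
  haveI : IsIso a := IsOpenImmersion.isIso _
  have e : a ≫ chartStr 𝒮L G hGa = Spec.map (CommRingCat.ofHom ((fromZeroRingHom (𝒮L.deg G hGa)
      (Submonoid.powers (u.gradedAt U hU G hGa hle s))).comp (𝒮L.strZero G hGa).hom)) := by
    rw [chartStr, Proj.awayι_toSpecZero_assoc, ← Spec.map_comp]
    rfl
  let φ := CommRingCat.ofHom ((fromZeroRingHom (𝒮L.deg G hGa)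
    (Submonoid.powers (u.gradedAt U hU G hGa hle s))).comp (𝒮L.strZero G hGa).hom)
  haveI : IsIso (Spec.map φ) := e ▸ (inferInstance : IsIso (a ≫ chartStr 𝒮L G hGa))
  exact bijective_of_isIso_SpecMap φ

include hL hLq hj hP hPL hr hU hn hs in
/-- Over a standard open with affine locus, a bijection on sections makes `r` an isomorphism. -/
theorem isIso_restrict_of_bijective (hT : IsCompact ((q ⁻¹ᵁ U : X.Opens) : Set X))
    (hqs : ∀ V V' : X.Opens, IsAffineOpen V → IsAffineOpen V' → V ≤ q ⁻¹ᵁ U → V' ≤ q ⁻¹ᵁ U →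
      IsCompact ((V ⊓ V' : X.Opens) : Set X))
    (hu : Function.Bijective (u.app U).hom) (hGa : IsAffineOpen (locOf u U n s)) :
    IsIso (r ∣_ (std p chart U hU hn s hs).opensRange) := by
  let T := q ⁻¹ᵁ U
  let σ : 𝒮L.presheaf.obj (op T) := (u.app U).hom s
  let hle : locOf u U n s ≤ T := loc_le _ _ _
  refine (restrict_locOf_iff hL hLq hj hP hPL hr hU hn hs _ hGa hle rfl
    (MorphismProperty.isomorphisms Scheme.{u})).2 ?_
  let ψ := u.gradedAt U hU _ hGa hle
  suffices h : Function.Injective (Away.map ψ s) ∧ Function.Surjective (Away.map ψ s) from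
    (inferInstance : IsIso (Spec.map (RingEquiv.ofBijective _ h).toCommRingCatIso.hom))
  constructor
  · refine (awayMap_injective_iff ψ hs).2 fun m hm s' hs' h0 => ?_
    obtain ⟨k, hk⟩ := exists_pow_mul_eq_zero hL hLq hj hPL hn σ (isHom_app u hU hs) (W := T) le_rfl hT
      ((u.app U).hom s') (by
        rw [show rz (inf_le_left : T ⊓ loc 𝒮L n T σ ≤ T) ((u.app U).hom s') =
          rz (inf_le_right : T ⊓ loc 𝒮L n T σ ≤ loc 𝒮L n T σ) (rz hle ((u.app U).hom s')) from (rz_rz _ _ _).symm,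
          show rz hle ((u.app U).hom s') = 0 from h0]
        exact map_zero _)
    refine ⟨k + 1, k.succ_pos, hu.1 ?_⟩
    rw [rz_self] at hk
    rw [map_zero, map_mul, map_pow, pow_succ', mul_assoc]
    exact mul_eq_zero_of_right _ hk
  · refine (awayMap_surjective_iff ψ hs (𝒮L.strZero _ hGa).hom
      (fromZero_locOf_bijective hL hLq hj hPL hU hn hs _ hGa hle rfl).2).2 fun t => ?_
    obtain ⟨m, hm, z, hz, hzG⟩ := exists_extension hL hLq hj hPL hn hT hqs σ (isHom_app u hU hs) t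
    obtain ⟨a, ha, rfl⟩ := exists_deg_preimage u hU hu hz
    exact ⟨m, hm, a, ha, hzG.symm⟩

end Groth.Agent.Lib.ProjQ
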