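import Groth.Agent.S12144

/-!
# Immersion criteria for the morphism attached to an invertible module
-/

set_option autoImplicit false
universe u

open CategoryTheory CategoryTheory.Limits AlgebraicGeometry TopologicalSpace Opposite HomogeneousLocalization
open scoped HomogeneousIdeal
open Groth.Agent.Lib.RelProjBasics.Basic (chartStr)

noncomputable section

namespace Groth.Agent.Lib.ProjQ

section generic

theorem surjective_of_isClosedImmersion_SpecMap {R T : CommRingCat.{u}} (φ : R ⟶ T)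
    [IsClosedImmersion (Spec.map φ)] : Function.Surjective φ.hom := by
  have h := (IsClosedImmersion.isAffine_surjective_of_isAffine (Spec.map φ)).2
  intro b
  obtain ⟨a, ha⟩ := h ((Scheme.ΓSpecIso T).inv b)
  refine ⟨(Scheme.ΓSpecIso R).hom a, ?_⟩
  have e := congr($(Scheme.ΓSpecIso_naturality φ) a)
  refine e.symm.trans ((congrArg (Scheme.ΓSpecIso T).hom ha).trans ?_)
  exact congr($((Scheme.ΓSpecIso T).inv_hom_id) b)

theorem bijective_of_isIso_SpecMap {R T : CommRingCat.{u}} (φ : R ⟶ T) [IsIso (Spec.map φ)] :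
    Function.Bijective φ.hom := by
  exact isIso_SpecMap_iff.1 inferInstance

variable {A B σ τ : Type u} [CommRing A] [SetLike σ A] [AddSubgroupClass σ A]
  [CommRing B] [SetLike τ B] [AddSubgroupClass τ B] {𝒜 : ℕ → σ} {ℬ : ℕ → τ} [GradedRing 𝒜] [GradedRing ℬ]
  (φ : 𝒜 →+*ᵍ ℬ)

theorem awayMap_injective_iff {n : ℕ} {s : A} (hs : s ∈ 𝒜 n) :
    Function.Injective (Away.map φ s) ↔
      ∀ m, 0 < m → ∀ s' ∈ 𝒜 (m * n), φ s' = 0 → ∃ k, 0 < k ∧ s ^ k * s' = 0 := by
  constructor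
  · intro h m hm s' hs' h0
    have hz : Away.map φ s (Away.mk 𝒜 hs m s' hs') = 0 := by
      apply val_injective
      rw [Away.map_mk, Away.val_mk, val_zero, h0, Localization.mk_zero]
    have := congrArg HomogeneousLocalization.val (h (hz.trans (map_zero _).symm))
    rw [Away.val_mk, val_zero, Localization.mk_eq_mk', IsLocalization.mk'_eq_zero_iff] at this
    obtain ⟨⟨_, k, rfl⟩, hk⟩ := this
    exact ⟨k + 1, k.succ_pos, by rw [pow_succ', mul_assoc, hk, mul_zero]⟩
  · intro h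
    rw [injective_iff_map_eq_zero]
    intro z hz
    obtain ⟨m, a, ha, rfl⟩ := Away.mk_surjective 𝒜 hs z
    have h0 := congrArg HomogeneousLocalization.val hz
    rw [Away.map_mk, Away.val_mk, val_zero, Localization.mk_eq_mk', IsLocalization.mk'_eq_zero_iff] at h0
    obtain ⟨⟨_, k, rfl⟩, hk⟩ := h0
    change φ s ^ k * φ a = 0 at hk
    have hmem : s ^ (k + 1) * a ∈ 𝒜 ((k + 1 + m) * n) := by
      rw [add_mul]
      exact SetLike.mul_mem_graded (SetLike.pow_mem_graded _ hs) ha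
    obtain ⟨k', -, hk'⟩ := h (k + 1 + m) (Nat.add_pos_left k.succ_pos _) _ hmem
      (by rw [map_mul, map_pow, pow_succ', mul_assoc, hk, mul_zero])
    apply val_injective
    rw [Away.val_mk, val_zero, Localization.mk_eq_mk', IsLocalization.mk'_eq_zero_iff]
    exact ⟨⟨_, k' + (k + 1), rfl⟩, show s ^ (k' + (k + 1)) * a = 0 by rw [pow_add, mul_assoc]; exact hk'⟩

theorem awayMap_surjective_iff {n : ℕ} {s : A} (hs : s ∈ 𝒜 n) {R : Type u} [CommRing R]
    (ψ : R →+* ℬ 0) (hψ : Function.Surjective ((fromZeroRingHom ℬ (Submonoid.powers (φ s))).comp ψ)) :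
    Function.Surjective (Away.map φ s) ↔
      ∀ t : R, ∃ (m : ℕ) (_ : 0 < m) (s' : A) (_ : s' ∈ 𝒜 (m * n)), (ψ t : B) * φ s ^ m = φ s' := by
  constructor
  · intro h t
    obtain ⟨z, hz⟩ := h (fromZeroRingHom ℬ (Submonoid.powers (φ s)) (ψ t))
    obtain ⟨m, a, ha, rfl⟩ := Away.mk_surjective 𝒜 hs z
    have h0 := congrArg HomogeneousLocalization.val hz
    rw [Away.map_mk, Away.val_mk, H81.RelProj.Localize.val_fromZero, Localization.mk_eq_mk_iff,
      Localization.r_iff_exists] at h0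
    obtain ⟨⟨_, k, rfl⟩, hk⟩ := h0
    simp only [OneMemClass.coe_one, one_mul] at hk
    change φ s ^ k * φ a = φ s ^ k * (φ s ^ m * (ψ t : B)) at hk
    refine ⟨k + 1 + m, by omega, s ^ (k + 1) * a, ?_, ?_⟩
    · rw [add_mul]; exact SetLike.mul_mem_graded (SetLike.pow_mem_graded _ hs) ha
    · rw [map_mul, map_pow, pow_succ', mul_assoc, hk]; ring
  · intro h w
    obtain ⟨t, rfl⟩ := hψ w
    obtain ⟨m, -, s', hs', e⟩ := h t
    refine ⟨Away.mk 𝒜 hs m s' hs', ?_⟩
    apply val_injective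
    rw [Away.map_mk, Away.val_mk, RingHom.comp_apply, H81.RelProj.Localize.val_fromZero,
      Localization.mk_eq_mk_iff, Localization.r_iff_exists]
    refine ⟨1, ?_⟩
    simp [← e, mul_comm]

end generic

/-- A closed immersion after composing with a monomorphism, on an affine target. -/
theorem isAffine_of_isClosedImmersion_restrict {X' Y' : Scheme.{u}} (f : X' ⟶ Y') {D : Y'.Opens}
    (hD : IsAffineOpen D) [IsClosedImmersion (f ∣_ D)] : IsAffineOpen (f ⁻¹ᵁ D) :=
  haveI : IsAffine (D : Scheme.{u}) := hD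
  isAffine_of_isAffineHom (f ∣_ D)

variable {Y X P PL : Scheme.{u}} {q : X ⟶ Y} {L : X.Modules}
  {𝒮 : RelProj.QCGrAlg Y} {𝒮L : RelProj.QCGrAlg X} {j : L ⟶ 𝒮L.toModule}
  {u : RelProj.QGrHom q 𝒮 𝒮L} {p : P ⟶ Y}
  {chart : ∀ (U : Y.Opens) (hU : IsAffineOpen U), ((p ⁻¹ᵁ U : P.Opens) : Scheme.{u}) ≅ Proj (𝒮.deg U hU)}
  {pL : PL ⟶ X}
  {chartL : ∀ (U : X.Opens) (hU : IsAffineOpen U), ((pL ⁻¹ᵁ U : PL.Opens) : Scheme.{u}) ≅ Proj (𝒮L.deg U hU)}

variable (hL : PicF.IsInvertible L) (hLq : Coh.IsQCoh L) (hj : RelProj.IsGrSymAlg L 𝒮L j)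
  (hP : RelProj.IsRelProj 𝒮 p chart) (hPL : RelProj.IsRelProj 𝒮L pL chartL)
  {r : (RelProj.domQ u pL chartL : Scheme.{u}) ⟶ P}
  (hr : RelProj.IsProjQMapOn u p chart pL chartL (RelProj.domQ u pL chartL) r)
  (hY : IsAffineOpen (⊤ : Y.Opens)) {n : ℕ} (hn : 0 < n) {s : 𝒮.presheaf.obj (op ⊤)} (hs : s ∈ 𝒮.deg ⊤ hY n)
  (T : X.Opens) (hTa : IsAffineOpen T)

theorem le_top_preimage (q : X ⟶ Y) (T : X.Opens) : T ≤ q ⁻¹ᵁ ⊤ := le_top.trans (Scheme.Hom.preimage_top q).ge

/-- The standard chart over the locus of `s`. -/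
abbrev topIdx : Idx (g := q) (𝒮 := 𝒮) := ⟨⊤, hY, T, hTa, le_top_preimage q T, n, hn, s, hs⟩

/-- The locus of a section. -/
def locus (u : RelProj.QGrHom q 𝒮 𝒮L) (n : ℕ) (s : 𝒮.presheaf.obj (op ⊤)) : X.Opens :=
  ⨆ V : {V : X.affineOpens //
    ((𝒮L.deg V.1 V.2 n : AddSubgroup (𝒮L.presheaf.obj (op (V.1 : X.Opens)))) : Set (𝒮L.presheaf.obj (op (V.1 : X.Opens)))) ⊆
      (Ideal.span {(u.appLE ⊤ (V.1 : X.Opens) (le_top.trans (Scheme.Hom.preimage_top q).ge)).hom s} : Set (𝒮L.presheaf.obj (op (V.1 : X.Opens))))},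
    (V.1.1 : X.Opens)

include hL hLq hj hP hPL hr hn hs in
theorem preimage_locus :
    (RelProj.domQ u pL chartL).ι ''ᵁ (r ⁻¹ᵁ (std p chart ⊤ hY hn s hs).opensRange) = pL ⁻¹ᵁ locus u n s := by
  rw [opensRange_std]
  exact S12144.result q L hL hLq 𝒮 𝒮L j hj u p chart hP pL chartL hPL r hr hY n hn s hs

include hL hLq hj hP hPL hr hn hs in
theorem isAffineOpen_locus (h : IsAffineOpen (r ⁻¹ᵁ (std p chart ⊤ hY hn s hs).opensRange)) :
    IsAffineOpen (locus u n s) := by
  haveI := isIso_proj hL hLq hj hPL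
  have h1 := (h.image_of_isOpenImmersion (RelProj.domQ u pL chartL).ι)
  rw [preimage_locus hL hLq hj hP hPL hr hY hn hs] at h1
  have h2 := h1.image_of_isOpenImmersion pL
  rwa [pL.image_preimage_eq_opensRange_inf, Scheme.Hom.opensRange_of_isIso, top_inf_eq] at h2

variable (hT : T = locus u n s)

include hL hLq hj hP hPL hr hT in
theorem mem_locus_iff (x : (RelProj.domQ u pL chartL : Scheme.{u})) :
    r x ∈ (std p chart ⊤ hY hn s hs).opensRange ↔ pL x.1 ∈ T := by
  subst hT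
  have e := congrArg (fun O : PL.Opens => x.1 ∈ O) (preimage_locus hL hLq hj hP hPL hr hY hn hs)
  refine Iff.trans ⟨fun h => ⟨x, h, rfl⟩, fun ⟨y, hy, hyx⟩ => ?_⟩ (Iff.of_eq e)
  obtain rfl : y = x := (RelProj.domQ u pL chartL).ι.isOpenEmbedding.injective hyx
  exact hy

include hL hLq hj hP hPL hr hY hn hs hTa hT in
theorem basicOpen_eq_top :
    Proj.basicOpen (𝒮L.deg T hTa) (u.gradedAt ⊤ hY T hTa (le_top_preimage q T) s) = ⊤ := by
  refine top_le_iff.1 fun w _ => ?_
  have hy : pL (RelProj.emb pL chartL T hTa w) ∈ T :=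
    (opensRange_emb (p := pL) (chart := chartL) T hTa).le ⟨w, rfl⟩
  subst hT
  obtain ⟨y, hy', hyx⟩ := (preimage_locus hL hLq hj hP hPL hr hY hn hs).ge hy
  rw [opensRange_std] at hy'
  have h := (mem_preimage_iff hP hPL hr ⊤ hY (locus u n s) hTa (le_top_preimage q _) hn s hs y
    (by rw [show y.1 = _ from hyx]; exact hy)).1 hy'
  obtain ⟨w', hw', hww⟩ := h
  rwa [← (RelProj.emb pL chartL (locus u n s) hTa).isOpenEmbedding.injective (hww.trans hyx)]

include hL hLq hj hP hPL hr hY hn hs hTa hT in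
theorem isPullback_topIdx :
    IsPullback (Spec.map (CommRingCat.ofHom (Away.map ((topIdx hY hn hs T hTa).φ u) s)))
      (lift (u := u) pL chartL (topIdx hY hn hs T hTa)) (std p chart ⊤ hY hn s hs) r := by
  refine IsOpenImmersion.isPullback _ _ _ _ ((isProjQMapOn_iff r).1 hr (topIdx hY hn hs T hTa)) ?_
  apply Opens.ext
  ext x
  change r x ∈ (std p chart ⊤ hY hn s hs).opensRange ↔
    x ∈ (lift (u := u) pL chartL (topIdx hY hn hs T hTa)).opensRange
  rw [mem_locus_iff hL hLq hj hP hPL hr hY hn hs T hT x]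
  constructor
  · intro hx
    obtain ⟨w, hw⟩ := (opensRange_emb (p := pL) (chart := chartL) T hTa).ge hx
    obtain ⟨z, hz⟩ := ((topIdx hY hn hs T hTa).opensRange_e (u := u) pL chartL).ge
      ⟨w, (basicOpen_eq_top hL hLq hj hP hPL hr hY hn hs T hTa hT).ge (Set.mem_univ w), hw⟩
    exact ⟨z, (RelProj.domQ u pL chartL).ι.isOpenEmbedding.injective
      ((congr($(lift_ι (u := u) (p' := pL) (chart' := chartL) (topIdx hY hn hs T hTa)) z)).trans hz)⟩
  · rintro ⟨z, rfl⟩
    have e1 : ((lift (u := u) pL chartL (topIdx hY hn hs T hTa)) z).1 =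
        (topIdx hY hn hs T hTa).e pL chartL u z :=
      congr($(lift_ι (u := u) (p' := pL) (chart' := chartL) (topIdx hY hn hs T hTa)) z)
    rw [e1]
    obtain ⟨w, -, hw⟩ := ((topIdx hY hn hs T hTa).opensRange_e (u := u) pL chartL).le ⟨z, rfl⟩
    exact hw ▸ (opensRange_emb (p := pL) (chart := chartL) T hTa).le ⟨w, rfl⟩

include hL hLq hj hP hPL hr hY hn hs hTa hT in
/-- A property of `r` over `D₊(s)` is that property of the ring map. -/
theorem restrict_iff (Q : MorphismProperty Scheme.{u}) [Q.RespectsIso] :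
    Q (r ∣_ (std p chart ⊤ hY hn s hs).opensRange) ↔
      Q (Spec.map (CommRingCat.ofHom (Away.map (u.gradedAt ⊤ hY T hTa (le_top_preimage q T)) s))) := by
  have hpb := (isPullback_topIdx hL hLq hj hP hPL hr hY hn hs T hTa hT).flip
  rw [Q.arrow_mk_iso_iff (morphismRestrictOpensRange r (std p chart ⊤ hY hn s hs))]
  refine Iff.trans ?_ (MorphismProperty.cancel_left_of_respectsIso Q hpb.isoPullback.inv _)
  exact Iff.of_eq (congrArg (fun f => Q f) hpb.isoPullback_inv_snd.symm)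

include hL hLq hj hP hPL hr hY hn hs hTa hT in
/-- Functions on the locus are the degree zero fractions. -/
theorem fromZero_bijective :
    Function.Bijective ((fromZeroRingHom (𝒮L.deg T hTa)
      (Submonoid.powers (u.gradedAt ⊤ hY T hTa (le_top_preimage q T) s))).comp (𝒮L.strZero T hTa).hom) := by
  haveI := isIso_proj hL hLq hj hPL
  haveI : IsIso (pL ∣_ T) := inferInstance
  haveI : IsIso (chartStr 𝒮L T hTa) := by
    have e := RelProjBasics.Basic.morphismRestrict_eq hPL T hTa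
    haveI : IsIso ((chartL T hTa).hom ≫ chartStr 𝒮L T hTa ≫ hTa.isoSpec.inv) := e ▸ inferInstance
    haveI := IsIso.of_isIso_comp_left (chartL T hTa).hom (chartStr 𝒮L T hTa ≫ hTa.isoSpec.inv)
    exact IsIso.of_isIso_comp_right (chartStr 𝒮L T hTa) hTa.isoSpec.inv
  let a := Proj.awayι (𝒮L.deg T hTa) (u.gradedAt ⊤ hY T hTa (le_top_preimage q T) s)
    ((u.gradedAt ⊤ hY T hTa (le_top_preimage q T)).map_mem hs) hn
  haveI : Epi a.base :=
    (TopCat.epi_iff_surjective _).2 fun w => (Proj.opensRange_awayι _ _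
      ((u.gradedAt ⊤ hY T hTa (le_top_preimage q T)).map_mem hs) hn).ge
        ((basicOpen_eq_top hL hLq hj hP hPL hr hY hn hs T hTa hT).ge (Set.mem_univ w))
  haveI : IsIso a := IsOpenImmersion.isIso _
  have e : a ≫ chartStr 𝒮L T hTa = Spec.map (CommRingCat.ofHom ((fromZeroRingHom (𝒮L.deg T hTa)
      (Submonoid.powers (u.gradedAt ⊤ hY T hTa (le_top_preimage q T) s))).comp (𝒮L.strZero T hTa).hom)) := by
    rw [chartStr, Proj.awayι_toSpecZero_assoc, ← Spec.map_comp]
    rfl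
  let φ := CommRingCat.ofHom ((fromZeroRingHom (𝒮L.deg T hTa)
    (Submonoid.powers (u.gradedAt ⊤ hY T hTa (le_top_preimage q T) s))).comp (𝒮L.strZero T hTa).hom)
  haveI : IsIso (Spec.map φ) := e ▸ (inferInstance : IsIso (a ≫ chartStr 𝒮L T hTa))
  exact bijective_of_isIso_SpecMap φ

include hL hLq hj hP hPL hr hY hn hs hTa hT in
theorem isClosedImmersion_restrict_iff :
    IsClosedImmersion (r ∣_ (std p chart ⊤ hY hn s hs).opensRange) ↔
      ∀ t : X.presheaf.obj (op T), ∃ (m : ℕ) (_ : 0 < m) (s' : 𝒮.presheaf.obj (op ⊤))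
        (_ : s' ∈ 𝒮.deg ⊤ hY (m * n)),
        (𝒮L.str.app (op T)).hom t * ((u.appLE ⊤ T (le_top_preimage q T)).hom s) ^ m =
          (u.appLE ⊤ T (le_top_preimage q T)).hom s' := by
  refine (restrict_iff hL hLq hj hP hPL hr hY hn hs T hTa hT @IsClosedImmersion).trans ?_
  refine Iff.trans ⟨fun h => ?_, fun h => IsClosedImmersion.spec_of_surjective _ h⟩
    (awayMap_surjective_iff (u.gradedAt ⊤ hY T hTa (le_top_preimage q T)) hs (𝒮L.strZero T hTa).hom
      (fromZero_bijective hL hLq hj hP hPL hr hY hn hs T hTa hT).2)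
  exact surjective_of_isClosedImmersion_SpecMap _

include hL hLq hj hP hPL hr hY hn hs hTa hT in
theorem isIso_restrict_iff :
    IsIso (r ∣_ (std p chart ⊤ hY hn s hs).opensRange) ↔
      (∀ t : X.presheaf.obj (op T), ∃ (m : ℕ) (_ : 0 < m) (s' : 𝒮.presheaf.obj (op ⊤))
        (_ : s' ∈ 𝒮.deg ⊤ hY (m * n)),
        (𝒮L.str.app (op T)).hom t * ((u.appLE ⊤ T (le_top_preimage q T)).hom s) ^ m =
          (u.appLE ⊤ T (le_top_preimage q T)).hom s') ∧
      (∀ m : ℕ, 0 < m → ∀ s' ∈ 𝒮.deg ⊤ hY (m * n),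
        (u.appLE ⊤ T (le_top_preimage q T)).hom s' = 0 → ∃ k : ℕ, 0 < k ∧ s ^ k * s' = 0) := by
  refine (restrict_iff hL hLq hj hP hPL hr hY hn hs T hTa hT (MorphismProperty.isomorphisms Scheme.{u})).trans ?_
  let ψ := u.gradedAt ⊤ hY T hTa (le_top_preimage q T)
  refine Iff.trans (b := Function.Surjective (Away.map ψ s) ∧ Function.Injective (Away.map ψ s))
    ⟨fun h => ?_, fun h => ?_⟩ (and_congr
      (awayMap_surjective_iff ψ hs (𝒮L.strZero T hTa).hom
        (fromZero_bijective hL hLq hj hP hPL hr hY hn hs T hTa hT).2) (awayMap_injective_iff ψ hs))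
  · haveI : IsIso (Spec.map (CommRingCat.ofHom (Away.map ψ s))) := h
    exact And.symm (bijective_of_isIso_SpecMap (CommRingCat.ofHom (Away.map ψ s)))
  · exact (inferInstance : IsIso (Spec.map (RingEquiv.ofBijective _ ⟨h.2, h.1⟩).toCommRingCatIso.hom))

end Groth.Agent.Lib.ProjQ
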