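import Groth.Agent.Lib.ProjQ.Charts

/-!
# The standard charts of a graded morphism over a morphism of bases
-/

set_option autoImplicit false
universe u

open CategoryTheory CategoryTheory.Limits AlgebraicGeometry TopologicalSpace Opposite HomogeneousLocalization
open scoped HomogeneousIdeal
open Groth.Agent.Lib.RelProjBasics.Basic (chartStr)

noncomputable section

namespace Groth.Agent.Lib.ProjQ

variable {S S' P P' : Scheme.{u}} {g : S' ⟶ S} {𝒮 : RelProj.QCGrAlg S} {𝒮' : RelProj.QCGrAlg S'}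
  (u : RelProj.QGrHom g 𝒮 𝒮') (p : P ⟶ S)
  (chart : ∀ (U : S.Opens) (hU : IsAffineOpen U), ((p ⁻¹ᵁ U : P.Opens) : Scheme.{u}) ≅ Proj (𝒮.deg U hU))
  (p' : P' ⟶ S')
  (chart' : ∀ (U' : S'.Opens) (hU' : IsAffineOpen U'),
    ((p' ⁻¹ᵁ U' : P'.Opens) : Scheme.{u}) ≅ Proj (𝒮'.deg U' hU'))

theorem res_comp_gradedAt {U : S.Opens} (hU : IsAffineOpen U) {U' D' : S'.Opens} (hU' : IsAffineOpen U')
    (hD' : IsAffineOpen D') (hle : U' ≤ g ⁻¹ᵁ U) (i : D' ≤ U') :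
    (𝒮'.res hU' hD' i).comp (u.gradedAt U hU U' hU' hle) = u.gradedAt U hU D' hD' (i.trans hle) :=
  GradedRingHom.ext fun x => congr($(u.appLE_map hle i) x)

theorem gradedAt_comp_res {U D : S.Opens} (hU : IsAffineOpen U) (hD : IsAffineOpen D) {D' : S'.Opens}
    (hD' : IsAffineOpen D') (i : D ≤ U) (hle : D' ≤ g ⁻¹ᵁ D) :
    (u.gradedAt D hD D' hD' hle).comp (𝒮.res hU hD i) =
      u.gradedAt U hU D' hD' (hle.trans (g.preimage_mono i)) :=
  GradedRingHom.ext fun x => congr($(u.map_appLE i hle) x)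

/-- An index of a standard chart of `Proj(u)`. -/
structure Idx where
  U : S.Opens
  hU : IsAffineOpen U
  U' : S'.Opens
  hU' : IsAffineOpen U'
  hle : U' ≤ g ⁻¹ᵁ U
  d : ℕ
  hd : 0 < d
  f : 𝒮.presheaf.obj (op U)
  hf : f ∈ 𝒮.deg U hU d

variable {u}

namespace Idx

variable (i : Idx (g := g) (𝒮 := 𝒮))

/-- The graded homomorphism of the index. -/
abbrev φ (u : RelProj.QGrHom g 𝒮 𝒮') : 𝒮.deg i.U i.hU →+*ᵍ 𝒮'.deg i.U' i.hU' :=
  u.gradedAt i.U i.hU i.U' i.hU' i.hle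

/-- The source of the chart. -/
abbrev src (u : RelProj.QGrHom g 𝒮 𝒮') : Scheme.{u} :=
  Spec (CommRingCat.of (Away (𝒮'.deg i.U' i.hU') (i.φ u i.f)))

/-- The chart into `P'`. -/
def e (u : RelProj.QGrHom g 𝒮 𝒮') : i.src u ⟶ P' :=
  std p' chart' i.U' i.hU' i.hd (i.φ u i.f) ((i.φ u).map_mem i.hf)

/-- The value of `Proj(u)` on the chart. -/
def c (u : RelProj.QGrHom g 𝒮 𝒮') : i.src u ⟶ P :=
  Spec.map (CommRingCat.ofHom (Away.map (i.φ u) i.f)) ≫ std p chart i.U i.hU i.hd i.f i.hf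

instance : IsOpenImmersion (i.e p' chart' u) := by unfold e; infer_instance

theorem e_eq_awayEmb :
    i.e p' chart' u = RelProj.awayEmb u p' chart' i.U i.hU i.U' i.hU' i.hle i.hd i.f i.hf := rfl

theorem opensRange_e :
    (i.e p' chart' u).opensRange =
      (RelProj.emb p' chart' i.U' i.hU') ''ᵁ Proj.basicOpen (𝒮'.deg i.U' i.hU') (i.φ u i.f) :=
  opensRange_std _ _ _ _ _

/-- Restriction of an index to smaller affine opens. -/
def sub (D : S.Opens) (hD : IsAffineOpen D) (D' : S'.Opens) (hD' : IsAffineOpen D') (hle : D' ≤ g ⁻¹ᵁ D)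
    (hDU : D ≤ i.U) : Idx (g := g) (𝒮 := 𝒮) :=
  ⟨D, hD, D', hD', hle, i.d, i.hd, 𝒮.res i.hU hD hDU i.f, (𝒮.res i.hU hD hDU).map_mem i.hf⟩

variable (D : S.Opens) (hD : IsAffineOpen D) (D' : S'.Opens) (hD' : IsAffineOpen D') (hle : D' ≤ g ⁻¹ᵁ D)
  (hDU : D ≤ i.U) (hDU' : D' ≤ i.U')

include hDU' in
theorem sub_opensRange (hP' : RelProj.IsRelProj 𝒮' p' chart') :
    ((i.sub D hD D' hD' hle hDU).e p' chart' u).opensRange = (i.e p' chart' u).opensRange ⊓ p' ⁻¹ᵁ D' := by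
  rw [opensRange_e, opensRange_e, ← image_res (p := p') (chart := chart') hP' i.hU' hD' hDU' (i.φ u i.f)]
  congr 2
  exact (congr($(gradedAt_comp_res u i.hU hD hD' hDU hle) i.f)).trans
    (congr($(res_comp_gradedAt u i.hU i.hU' hD' i.hle hDU') i.f)).symm

include hDU' in
theorem sub_spec (hP : RelProj.IsRelProj 𝒮 p chart) (hP' : RelProj.IsRelProj 𝒮' p' chart') :
    ∃ k : (i.sub D hD D' hD' hle hDU).src u ⟶ i.src u,
      k ≫ i.e p' chart' u = (i.sub D hD D' hD' hle hDU).e p' chart' u ∧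
      k ≫ i.c p chart u = (i.sub D hD D' hD' hle hDU).c p chart u := by
  have key : ∀ ψ : 𝒮.deg i.U i.hU →+*ᵍ 𝒮'.deg D' hD', ψ = (𝒮'.res i.hU' hD' hDU').comp (i.φ u) →
      ∃ k : Spec (CommRingCat.of (Away (𝒮'.deg D' hD') (ψ i.f))) ⟶ i.src u,
        k ≫ i.e p' chart' u = std p' chart' D' hD' i.hd (ψ i.f) (ψ.map_mem i.hf) ∧
        k ≫ i.c p chart u =
          Spec.map (CommRingCat.ofHom (Away.map ψ i.f)) ≫ std p chart i.U i.hU i.hd i.f i.hf := by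
    rintro ψ rfl
    refine ⟨Spec.map (CommRingCat.ofHom (Away.map (𝒮'.res i.hU' hD' hDU') (i.φ u i.f))), ?_, ?_⟩
    · exact (std_res (p := p') (chart := chart') hP' i.hU' hD' hDU' i.hd (i.φ u i.f) ((i.φ u).map_mem i.hf)).symm
    · rw [Away.map_comp, c, ← Spec.map_comp_assoc]
      rfl
  obtain ⟨k, h1, h2⟩ := key ((u.gradedAt D hD D' hD' hle).comp (𝒮.res i.hU hD hDU))
    ((gradedAt_comp_res u i.hU hD hD' hDU hle).trans (res_comp_gradedAt u i.hU i.hU' hD' i.hle hDU').symm)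
  refine ⟨k, h1, h2.trans ?_⟩
  rw [Away.map_comp]
  change _ = Spec.map (CommRingCat.ofHom (Away.map (u.gradedAt D hD D' hD' hle) (𝒮.res i.hU hD hDU i.f))) ≫
    std p chart D hD i.hd (𝒮.res i.hU hD hDU i.f) ((𝒮.res i.hU hD hDU).map_mem i.hf)
  rw [std_res (p := p) (chart := chart) hP i.hU hD hDU i.hd i.f i.hf, ← Spec.map_comp_assoc]
  rfl

end Idx

theorem awayMap_comp_map {A B σ τ : Type u} [CommRing A] [SetLike σ A] [AddSubgroupClass σ A]
    [CommRing B] [SetLike τ B] [AddSubgroupClass τ B] {𝒜 : ℕ → σ} {ℬ : ℕ → τ} [GradedRing 𝒜] [GradedRing ℬ]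
    (φ : 𝒜 →+*ᵍ ℬ) {a b x : A} {d e : ℕ} (ha : a ∈ 𝒜 d) (hb : b ∈ 𝒜 e) (hx : x = a * b)
    (hx' : φ x = φ a * φ b) :
    (awayMap ℬ (φ.map_mem hb) hx').comp (Away.map φ a) = (Away.map φ x).comp (awayMap 𝒜 hb hx) := by
  refine RingHom.ext fun z => ?_
  obtain ⟨n, y, hy, rfl⟩ := Away.mk_surjective 𝒜 ha z
  simp only [RingHom.comp_apply, Away.map_mk, awayMap_mk]
  apply val_injective
  simp [Away.val_mk]

namespace Idx

variable (i j : Idx (g := g) (𝒮 := 𝒮))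

theorem prod_spec (h : 𝒮.presheaf.obj (op i.U)) {m : ℕ} (hh : h ∈ 𝒮.deg i.U i.hU m)
    (x : 𝒮.presheaf.obj (op i.U)) (hx : x = i.f * h) {n : ℕ} (hn : 0 < n) (hxn : x ∈ 𝒮.deg i.U i.hU n) :
    ∃ k : ({ i with d := n, hd := hn, f := x, hf := hxn } : Idx (g := g) (𝒮 := 𝒮)).src u ⟶ i.src u,
      k ≫ i.e p' chart' u = ({ i with d := n, hd := hn, f := x, hf := hxn } : Idx (g := g) (𝒮 := 𝒮)).e p' chart' u ∧
      k ≫ i.c p chart u = ({ i with d := n, hd := hn, f := x, hf := hxn } : Idx (g := g) (𝒮 := 𝒮)).c p chart u := by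
  have hx' : i.φ u x = i.φ u i.f * i.φ u h := by rw [hx, map_mul]
  refine ⟨Spec.map (CommRingCat.ofHom (awayMap (𝒮'.deg i.U' i.hU') ((i.φ u).map_mem hh) hx')), ?_, ?_⟩
  · rw [e, std]
    exact (Proj.SpecMap_awayMap_awayι_assoc _ ((i.φ u).map_mem i.hf) i.hd ((i.φ u).map_mem hh) hx' _).trans rfl
  · rw [c, ← Spec.map_comp_assoc, ← CommRingCat.ofHom_comp, awayMap_comp_map (i.φ u) i.hf hh hx hx',
      CommRingCat.ofHom_comp, Spec.map_comp, Category.assoc, std]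
    congr 1
    exact (Proj.SpecMap_awayMap_awayι_assoc _ i.hf i.hd hh hx _).trans rfl

/-- Two charts agree near every common point. -/
theorem agree (hP : RelProj.IsRelProj 𝒮 p chart) (hP' : RelProj.IsRelProj 𝒮' p' chart') (z : i.src u) (w : j.src u)
    (hzw : i.e p' chart' u z = j.e p' chart' u w) :
    ∃ (n : Idx (g := g) (𝒮 := 𝒮)) (ki : n.src u ⟶ i.src u) (kj : n.src u ⟶ j.src u),
      i.e p' chart' u z ∈ (n.e p' chart' u).opensRange ∧
      ki ≫ i.e p' chart' u = n.e p' chart' u ∧ kj ≫ j.e p' chart' u = n.e p' chart' u ∧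
      ki ≫ i.c p chart u = n.c p chart u ∧ kj ≫ j.c p chart u = n.c p chart u := by
  set x := i.e p' chart' u z with hxdef
  have hxi : x ∈ (i.e p' chart' u).opensRange := ⟨z, rfl⟩
  have hxj : x ∈ (j.e p' chart' u).opensRange := ⟨w, hzw.symm⟩
  have hyi : p' x ∈ i.U' := by
    have h := i.opensRange_e (u := u) p' chart' ▸ hxi
    obtain ⟨v, -, hv⟩ := h
    rw [← hv]
    exact (opensRange_emb (p := p') (chart := chart') i.U' i.hU').le ⟨v, rfl⟩
  have hyj : p' x ∈ j.U' := by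
    have h := j.opensRange_e (u := u) p' chart' ▸ hxj
    obtain ⟨v, -, hv⟩ := h
    rw [← hv]
    exact (opensRange_emb (p := p') (chart := chart') j.U' j.hU').le ⟨v, rfl⟩
  obtain ⟨D, hD, hyD, hDsub⟩ := exists_isAffineOpen_mem_and_subset (X := S) (x := g (p' x))
    (U := i.U ⊓ j.U) ⟨i.hle hyi, j.hle hyj⟩
  obtain ⟨D', hD', hyD', hDsub'⟩ := exists_isAffineOpen_mem_and_subset (X := S') (x := p' x)
    (U := (i.U' ⊓ j.U') ⊓ g ⁻¹ᵁ D) ⟨⟨hyi, hyj⟩, hyD⟩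
  have hle : D' ≤ g ⁻¹ᵁ D := fun t ht => (hDsub' ht).2
  have hiU : D ≤ i.U := fun t ht => (hDsub ht).1
  have hjU : D ≤ j.U := fun t ht => (hDsub ht).2
  have hiU' : D' ≤ i.U' := fun t ht => (hDsub' ht).1.1
  have hjU' : D' ≤ j.U' := fun t ht => (hDsub' ht).1.2
  obtain ⟨ki, hi1, hi2⟩ := i.sub_spec (u := u) p chart p' chart' D hD D' hD' hle hiU hiU' hP hP'
  obtain ⟨kj, hj1, hj2⟩ := j.sub_spec (u := u) p chart p' chart' D hD D' hD' hle hjU hjU' hP hP'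
  let a := i.sub D hD D' hD' hle hiU
  let b := j.sub D hD D' hD' hle hjU
  let fa : 𝒮.presheaf.obj (op D) := a.f
  let fb : 𝒮.presheaf.obj (op D) := b.f
  have hab : fa * fb ∈ 𝒮.deg D hD (i.d + j.d) := SetLike.mul_mem_graded a.hf b.hf
  have hpos : 0 < i.d + j.d := Nat.add_pos_left i.hd _
  obtain ⟨la, la1, la2⟩ := a.prod_spec (u := u) p chart p' chart' fb b.hf (fa * fb) rfl hpos hab
  obtain ⟨lb, lb1, lb2⟩ := b.prod_spec (u := u) p chart p' chart' fa a.hf (fa * fb) (mul_comm _ _) hpos hab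
  refine ⟨{ a with d := i.d + j.d, hd := hpos, f := (fa * fb : 𝒮.presheaf.obj (op D)), hf := hab }, la ≫ ki, lb ≫ kj, ?_, ?_, ?_, ?_, ?_⟩
  · have ha : x ∈ (a.e p' chart' u).opensRange := (i.sub_opensRange (u := u) p' chart' D hD D' hD' hle hiU hiU' hP').ge ⟨hxi, hyD'⟩
    have hb : x ∈ (b.e p' chart' u).opensRange := (j.sub_opensRange (u := u) p' chart' D hD D' hD' hle hjU hjU' hP').ge ⟨hxj, hyD'⟩
    rw [opensRange_e] at ha hb ⊢
    obtain ⟨v, hv, hvx⟩ := ha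
    obtain ⟨v', hv', hvx'⟩ := hb
    obtain rfl : v = v' := (RelProj.emb p' chart' D' hD').isOpenEmbedding.injective (hvx.trans hvx'.symm)
    refine ⟨v, ?_, hvx⟩
    have h2 : Proj.basicOpen (𝒮'.deg D' hD') (u.gradedAt D hD D' hD' hle (fa * fb)) =
        Proj.basicOpen (𝒮'.deg D' hD') (u.gradedAt D hD D' hD' hle fa) ⊓
          Proj.basicOpen (𝒮'.deg D' hD') (u.gradedAt D hD D' hD' hle fb) :=
      (congrArg (Proj.basicOpen (𝒮'.deg D' hD')) (map_mul (u.gradedAt D hD D' hD' hle) fa fb)).trans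
        (Proj.basicOpen_mul (𝒮'.deg D' hD') _ _)
    exact h2.ge ⟨hv, hv'⟩
  · rw [Category.assoc, hi1, la1]
  · rw [Category.assoc, hj1]; exact lb1
  · rw [Category.assoc, hi2, la2]
  · rw [Category.assoc, hj2]; exact lb2

end Idx

end Groth.Agent.Lib.ProjQ
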