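import Groth.Agent.Lib.ProjQ.FracPull
import Groth.Agent.H81.RelProj.TwistTrivXf
import Groth.Agent.Lib.SymAlg.PE.Exist
import Groth.Agent.Lib.TensorMod.QCohInv

/-!
# Twisting sheaves pull back to tensor powers of a relatively ample module
-/

set_option autoImplicit false
universe u

open CategoryTheory CategoryTheory.Limits AlgebraicGeometry TopologicalSpace Opposite HomogeneousLocalization
open scoped HomogeneousIdeal

noncomputable section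

namespace Groth.Agent.Lib.ProjQ

open SecAlg TensorMod TensorMod.Dual TensorMod.Gen TensorMod.HomGlue TensorMod.Pullback Ample.Extend Ample.GenLocus
open Groth.Agent.H81.RelProj.GrTilde.Frac
open Groth.Agent.H81.RelProj (RelTilde.Rel)
open Groth.Agent.H81.RelProj.TwistTrivXf (fracSec smul_fracSec_bijective)

section sections

variable {Y P : Scheme.{u}} {𝒮 : RelProj.QCGrAlg Y} {p : P ⟶ Y}
  {chart : ∀ (U : Y.Opens) (hU : IsAffineOpen U), ((p ⁻¹ᵁ U : P.Opens) : Scheme.{u}) ≅ Proj (𝒮.deg U hU)}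
  {n : ℤ} {On : P.Modules}
  {lam : ∀ (U : Y.Opens) (hU : IsAffineOpen U),
    On ⟶ (Scheme.Modules.pushforward (RelProj.emb p chart U hU)).obj (GrTwist.twist (𝒮.deg U hU) n)}
  (hOn : RelProj.IsRelTwist 𝒮 p chart n On lam)

variable (p chart n) in
/-- Data of a fraction `t / s ^ k` of degree `n`. -/
structure Frc where
  U : Y.Opens
  hU : IsAffineOpen U
  d : ℕ
  hd : 0 < d
  s : 𝒮.presheaf.obj (op U)
  hs : s ∈ 𝒮.deg U hU d
  k : ℕ
  hk : 0 < k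
  e : ℕ
  t : 𝒮.presheaf.obj (op U)
  ht : t ∈ 𝒮.deg U hU e
  hn : (e : ℤ) = ((k • d : ℕ) : ℤ) + n

variable (i j : Frc (𝒮 := 𝒮) n)

variable (p chart) in
abbrev Frc.D : P.Opens := dOpen p chart i.hU (i.t * i.s)

theorem Frc.pre_le {W : P.Opens} (h : W ≤ i.D p chart) :
    RelProj.emb p chart i.U i.hU ⁻¹ᵁ W ≤ Proj.basicOpen (𝒮.deg i.U i.hU) (i.t * i.s ^ i.k) := by
  refine (Scheme.Hom.preimage_mono _ h).trans ((preimage_dOpen).trans_le ?_)
  intro x hx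
  rw [Proj.mem_basicOpen] at hx ⊢
  intro hm
  rcases x.isPrime.mem_or_mem hm with h' | h'
  · exact hx (Ideal.mul_mem_right _ _ h')
  · exact hx (Ideal.mul_mem_left _ _ (x.isPrime.mem_of_pow_mem _ h'))

include hOn in
theorem Frc.exists_sec : ∃ σ : Γ(On, i.D p chart),
    (lam i.U i.hU).app _ σ = fracSec i.ht (SetLike.pow_mem_graded i.k i.hs) i.hn _ (i.pre_le le_rfl) :=
  (hOn.bijective i.U i.hU _ dOpen_le).2 _

/-- The section of the fraction. -/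
def Frc.sec : Γ(On, i.D p chart) := (i.exists_sec hOn).choose

theorem Frc.lam_sec {W : P.Opens} (h : W ≤ i.D p chart) :
    (lam i.U i.hU).app W (rs On h (i.sec hOn)) =
      fracSec i.ht (SetLike.pow_mem_graded i.k i.hs) i.hn _ (i.pre_le h) := by
  refine (HomGlue.rs_app (lam i.U i.hU) h (i.sec hOn)).symm.trans ?_
  rw [Frc.sec, (i.exists_sec hOn).choose_spec]
  rfl

theorem Frc.isGen_sec : IsGen On (i.D p chart) (i.sec hOn) := fun W hW => by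
  refine (Function.Bijective.of_comp_iff' (hOn.bijective i.U i.hU W (hW.trans dOpen_le)) _).1 ?_
  have e2 : (⇑((lam i.U i.hU).app W) ∘ fun r : Γ(P, W) => r • rs On hW (i.sec hOn)) =
      (fun r : Γ(Proj (𝒮.deg i.U i.hU), RelProj.emb p chart i.U i.hU ⁻¹ᵁ W) =>
        r • fracSec i.ht (SetLike.pow_mem_graded i.k i.hs) i.hn _ (i.pre_le hW)) ∘
        ⇑((RelProj.emb p chart i.U i.hU).app W) := by
    funext r
    change (lam i.U i.hU).app W (r • rs On hW (i.sec hOn)) = (fun r : Γ(Proj (𝒮.deg i.U i.hU), RelProj.emb p chart i.U i.hU ⁻¹ᵁ W) =>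
        r • fracSec i.ht (SetLike.pow_mem_graded i.k i.hs) i.hn _ (i.pre_le hW)) ((RelProj.emb p chart i.U i.hU).app W r)
    rw [Scheme.Modules.Hom.app_smul, i.lam_sec hOn hW]
    rfl
  rw [e2]
  have := (RelProj.emb p chart i.U i.hU).isIso_app W ((hW.trans dOpen_le).trans (opensRange_emb i.U i.hU).ge)
  exact (smul_fracSec_bijective _ _ i.hn _ (i.pre_le hW)).comp
    ((ConcreteCategory.isIso_iff_bijective _).1 inferInstance)

/-- The same fraction over a smaller affine open. -/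
def Frc.res (D : Y.Opens) (hD : IsAffineOpen D) (h : D ≤ i.U) : Frc (𝒮 := 𝒮) n :=
  { U := D, hU := hD, d := i.d, hd := i.hd, s := 𝒮.res i.hU hD h i.s, hs := (𝒮.res i.hU hD h).map_mem i.hs
    k := i.k, hk := i.hk, e := i.e, t := 𝒮.res i.hU hD h i.t, ht := (𝒮.res i.hU hD h).map_mem i.ht, hn := i.hn }

variable (hP : RelProj.IsRelProj 𝒮 p chart)

include hP in
theorem Frc.res_D (r : Γ(Y, i.U)) :
    (i.res _ (i.hU.basicOpen r) (Y.basicOpen_le r)).D p chart = i.D p chart ⊓ p ⁻¹ᵁ Y.basicOpen r := by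
  refine Eq.trans ?_ (image_step hP i.hU r (i.t * i.s))
  change _ = (RelProj.emb p chart _ _) ''ᵁ Proj.basicOpen _ _
  rw [map_mul]
  rfl

include hP in
theorem Frc.rs_sec_res (r : Γ(Y, i.U)) {W : P.Opens} (h : W ≤ i.D p chart)
    (h' : W ≤ (i.res _ (i.hU.basicOpen r) (Y.basicOpen_le r)).D p chart) :
    rs On h (i.sec hOn) = rs On h' ((i.res _ (i.hU.basicOpen r) (Y.basicOpen_le r)).sec hOn) := by
  let i' := i.res _ (i.hU.basicOpen r) (Y.basicOpen_le r)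
  refine (hOn.bijective (Y.basicOpen r) (i.hU.basicOpen r) W (h'.trans dOpen_le)).1 ?_
  refine Eq.trans ?_ (i'.lam_sec hOn h').symm
  refine Subtype.ext (funext fun y => Subtype.ext ?_)
  have hy' := H81.RelProj.RelTilde.hsub hP (D := ⟨_, i.hU.basicOpen r⟩) (U := ⟨i.U, i.hU⟩) ⟨r, rfl⟩ W y.2
  refine (hOn.compat i.U i.hU r W _ y.1 y.2 hy').trans ?_
  rw [i.lam_sec hOn h]
  refine (GrTwist.locMap_mk (𝒮.res i.hU (i.hU.basicOpen r) (Y.basicOpen_le r)) _ _ _ _).trans ?_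
  change Localization.mk _ _ = Localization.mk _ _
  congr 1
  exact Subtype.ext (map_pow (𝒮.res i.hU (i.hU.basicOpen r) (Y.basicOpen_le r)) i.s i.k)

/-- The degree zero denominator of the quotient of two fractions over one affine open. -/
theorem Frc.exists_ratio (hU : j.U = i.U) (t' s' : 𝒮.presheaf.obj (op i.U)) (ht' : HEq j.t t') (hs' : HEq j.s s') :
    ∃ (hf : t' * i.s ^ i.k ∈ 𝒮.deg i.U i.hU (j.e + i.k • i.d))
      (ha : i.t * s' ^ j.k ∈ 𝒮.deg i.U i.hU (1 • (j.e + i.k • i.d)))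
      (_ : 0 < j.e + i.k • i.d),
      i.D p chart ⊓ j.D p chart ≤ dOpen p chart i.hU (t' * i.s ^ i.k) ∧
      ∀ (γ : Γ(P, dOpen p chart i.hU (t' * i.s ^ i.k)))
        (_ : ∀ y : ↥(RelProj.emb p chart i.U i.hU ⁻¹ᵁ dOpen p chart i.hU (t' * i.s ^ i.k)),
          ((((RelProj.emb p chart i.U i.hU).app _ γ) :
              GrTwist.O (𝒜 := 𝒮.deg i.U i.hU) (op (RelProj.emb p chart i.U i.hU ⁻¹ᵁ dOpen p chart i.hU (t' * i.s ^ i.k)))).1 y) =
            ((Proj.awayToSection (𝒮.deg i.U i.hU) _ (Away.mk (𝒮.deg i.U i.hU) hf 1 (i.t * s' ^ j.k) ha) :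
              GrTwist.O (𝒜 := 𝒮.deg i.U i.hU) (op (Proj.basicOpen (𝒮.deg i.U i.hU) (t' * i.s ^ i.k)))).1
                ⟨y.1, preimage_dOpen.le y.2⟩))
        (W : P.Opens) (h : W ≤ i.D p chart) (h' : W ≤ j.D p chart) (h'' : W ≤ dOpen p chart i.hU (t' * i.s ^ i.k)),
        rs On h (i.sec hOn) = rf h'' γ • rs On h' (j.sec hOn) := by
  obtain ⟨U, hjU, d', hd', s₀, hs₀, k', hk', e', t₀, ht₀, hn'⟩ := j
  obtain rfl : U = i.U := hU
  obtain rfl := eq_of_heq ht'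
  obtain rfl := eq_of_heq hs'
  have hf : t₀ * i.s ^ i.k ∈ 𝒮.deg i.U i.hU (e' + i.k • i.d) :=
    SetLike.mul_mem_graded ht₀ (SetLike.pow_mem_graded i.k i.hs)
  have ha : i.t * s₀ ^ k' ∈ 𝒮.deg i.U i.hU (1 • (e' + i.k • i.d)) := by
    have h1 := SetLike.mul_mem_graded i.ht (SetLike.pow_mem_graded k' hs₀)
    have h2 : i.e + k' • d' = 1 • (e' + i.k • i.d) := by
      have h3 := i.hn
      have h4 : (e' : ℤ) = ((k' • d' : ℕ) : ℤ) + n := hn'
      simp only [smul_eq_mul, one_mul] at h3 h4 ⊢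
      omega
    exact h2 ▸ h1
  refine ⟨hf, ha, Nat.add_pos_right _ (Nat.mul_pos i.hk i.hd), ?_, fun γ hγ W h h' h'' => ?_⟩
  · rintro _ ⟨⟨y, hy, rfl⟩, y', hy', hyy⟩
    obtain rfl : y' = y := (RelProj.emb p chart i.U i.hU).isOpenEmbedding.injective hyy
    refine ⟨y', ?_, rfl⟩
    have hy : y' ∈ Proj.basicOpen (𝒮.deg i.U i.hU) (i.t * i.s) := hy
    have hy' : y' ∈ Proj.basicOpen (𝒮.deg i.U i.hU) (t₀ * s₀) := hy'
    change y' ∈ Proj.basicOpen (𝒮.deg i.U i.hU) (t₀ * i.s ^ i.k)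
    rw [Proj.mem_basicOpen] at hy hy' ⊢
    intro hm
    rcases y'.isPrime.mem_or_mem hm with h1 | h1
    · exact hy' (Ideal.mul_mem_right _ _ h1)
    · exact hy (Ideal.mul_mem_left _ _ (y'.isPrime.mem_of_pow_mem _ h1))
  refine (hOn.bijective i.U i.hU W (h.trans dOpen_le)).1 ?_
  rw [i.lam_sec hOn h, Scheme.Modules.Hom.app_smul, (⟨i.U, hjU, d', hd', s₀, hs₀, k', hk', e', t₀, ht₀, hn'⟩ : Frc n).lam_sec hOn h']
  refine Subtype.ext (funext fun y => Subtype.ext ?_)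
  refine Eq.trans ?_ (GrTwist.coe_smul_val n y.1 _ _).symm
  have h0 : ((((RelProj.emb p chart i.U i.hU).app W (rf h'' γ)) :
      GrTwist.O (𝒜 := 𝒮.deg i.U i.hU) (op (RelProj.emb p chart i.U i.hU ⁻¹ᵁ W))).1 y) = _ :=
    (congrArg (fun z : Γ(Proj (𝒮.deg i.U i.hU), RelProj.emb p chart i.U i.hU ⁻¹ᵁ W) =>
      (z : GrTwist.O (𝒜 := 𝒮.deg i.U i.hU) (op (RelProj.emb p chart i.U i.hU ⁻¹ᵁ W))).1 y)
      (DFunLike.congr_fun (congrArg CommRingCat.Hom.hom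
        ((RelProj.emb p chart i.U i.hU).naturality (homOfLE h'').op)) γ)).trans (hγ ⟨y.1, h'' y.2⟩)
  refine Eq.trans ?_ (congrArg₂ (· * ·) (congrArg HomogeneousLocalization.val h0) rfl).symm
  change Localization.mk i.t _ = Localization.mk (i.t * s₀ ^ k') _ * Localization.mk t₀ _
  rw [Localization.mk_mul, Localization.mk_eq_mk_iff, Localization.r_iff_exists]
  refine ⟨1, ?_⟩
  simp only [Submonoid.coe_mul, OneMemClass.coe_one, one_mul, pow_one]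
  change (GradedRingHom.id (𝒮.deg i.U i.hU)) _ * _ * _ = _
  simp only [show ∀ x, (GradedRingHom.id (𝒮.deg i.U i.hU)) x = x from fun _ => rfl]
  ring

end sections

section main

variable {X Y P PL : Scheme.{u}} {q : X ⟶ Y} {L : X.Modules} {𝒮L : RelProj.QCGrAlg X} {j : L ⟶ 𝒮L.toModule}
  {𝒜 : RelProj.QCGrAlg Y} {u : RelProj.QGrHom q 𝒜 𝒮L} {p : P ⟶ Y}
  {chart : ∀ (U : Y.Opens) (hU : IsAffineOpen U), ((p ⁻¹ᵁ U : P.Opens) : Scheme.{u}) ≅ Proj (𝒜.deg U hU)}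
  {pL : PL ⟶ X}
  {chartL : ∀ (U : X.Opens) (hU : IsAffineOpen U), ((pL ⁻¹ᵁ U : PL.Opens) : Scheme.{u}) ≅ Proj (𝒮L.deg U hU)}
  {n : ℕ} {On : P.Modules}
  {lam : ∀ (U : Y.Opens) (hU : IsAffineOpen U),
    On ⟶ (Scheme.Modules.pushforward (RelProj.emb p chart U hU)).obj (GrTwist.twist (𝒜.deg U hU) (n : ℤ))}
  (hL : PicF.IsInvertible L) (hLq : Coh.IsQCoh L) (hj : RelProj.IsGrSymAlg L 𝒮L j)
  (hP : RelProj.IsRelProj 𝒜 p chart) (hPL : RelProj.IsRelProj 𝒮L pL chartL)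
  {r : (RelProj.domQ u pL chartL : Scheme.{u}) ⟶ P}
  (hr : RelProj.IsProjQMapOn u p chart pL chartL (RelProj.domQ u pL chartL) r)
  {R : X ⟶ P} (hR : ((RelProj.domQ u pL chartL).ι ≫ pL) ≫ R = r)
  (htop : RelProj.domQ u pL chartL = ⊤)
  (hOn : RelProj.IsRelTwist 𝒜 p chart (n : ℤ) On lam)

variable (j u n) in
/-- An open of `X` where a fraction of degree `n` goes to a multiple of the power of a generator of `L`. -/
structure Piece where
  i : Frc (𝒮 := 𝒜) (n : ℤ)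
  V : X.Opens
  hV : IsAffineOpen V
  hVU : V ≤ q ⁻¹ᵁ i.U
  e : Γ(L, V)
  he : IsGen L V e
  a : Γ(X, V)
  ha : IsUnit a
  c : Γ(X, V)
  hc : IsUnit c
  hs : rz hVU ((u.app i.U).hom i.s) = (𝒮L.str.app (op V)).hom a * el j V e ^ i.d
  ht : rz hVU ((u.app i.U).hom i.t) = (𝒮L.str.app (op V)).hom (c * a ^ i.k) * el j V e ^ i.e

include hL hLq hj hP hPL hr hR htop in
theorem le_preimage_D (i : Frc (𝒮 := 𝒜) (n : ℤ)) {V : X.Opens} (hV : IsAffineOpen V) (hVU : V ≤ q ⁻¹ᵁ i.U)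
    {τ : 𝒮L.presheaf.obj (op V)} (hτ : IsFrame 𝒮L V hV τ) {A B : Γ(X, V)} (hA : IsUnit A) (hB : IsUnit B)
    (hs : rz hVU ((u.app i.U).hom i.s) = (𝒮L.str.app (op V)).hom A * τ ^ i.d)
    (ht : rz hVU ((u.app i.U).hom i.t) = (𝒮L.str.app (op V)).hom B * τ ^ i.e) :
    V ≤ R ⁻¹ᵁ i.D p chart :=
  le_preimage_dOpen hL hLq hj hP hPL hr hR htop hV hVU hτ (hd := Nat.add_pos_right i.e i.hd)
    (SetLike.mul_mem_graded i.ht i.hs) (hB.mul hA) (by
      simp only [rz, map_mul]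
      change rz hVU _ * rz hVU _ = _
      rw [hs, ht, pow_add]
      ring)

include hL hLq hj hP hPL hr hR htop in
theorem Piece.le_preimage (P₁ : Piece j u n) : P₁.V ≤ R ⁻¹ᵁ P₁.i.D p chart :=
  le_preimage_D hL hLq hj hP hPL hr hR htop P₁.i P₁.hV P₁.hVU (isFrame_of_gen hLq hj P₁.hV P₁.he) P₁.ha
    (P₁.hc.mul (P₁.ha.pow _)) P₁.hs P₁.ht

theorem rz_app_res {U D : Y.Opens} (hU : IsAffineOpen U) (hD : IsAffineOpen D) (h : D ≤ U) {O : X.Opens}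
    (hOD : O ≤ q ⁻¹ᵁ D) (hOU : O ≤ q ⁻¹ᵁ U) (x : 𝒜.presheaf.obj (op U)) :
    rz hOD ((u.app D).hom (𝒜.res hU hD h x)) = rz hOU ((u.app U).hom x) :=
  congr($(u.map_appLE h hOD) x)

theorem res_heq {U D D' : Y.Opens} (hU : IsAffineOpen U) (hD : IsAffineOpen D) (hD' : IsAffineOpen D')
    (h : D ≤ U) (h' : D' ≤ U) (e : D = D') (x : 𝒜.presheaf.obj (op U)) :
    HEq (𝒜.res hU hD' h' x) (𝒜.res hU hD h x) := by
  subst e; rfl

theorem rz_app_mul_pow {U : Y.Opens} {O : X.Opens} (h : O ≤ q ⁻¹ᵁ U) (a b : 𝒜.presheaf.obj (op U)) (k : ℕ) :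
    rz h ((u.app U).hom (a * b ^ k)) = rz h ((u.app U).hom a) * rz h ((u.app U).hom b) ^ k := by
  simp only [rz, map_mul, map_pow]

/-- A value in a coarser frame, read in a finer one. -/
theorem rz_frame {V O : X.Opens} (hOV : O ≤ V) {e : Γ(L, V)} {e₀ : Γ(L, O)} {g : Γ(X, O)}
    (hg : rs L hOV e = g • e₀) {A : Γ(X, V)} {d : ℕ} {z : 𝒮L.presheaf.obj (op V)}
    (hz : z = (𝒮L.str.app (op V)).hom A * el j V e ^ d) :
    rz hOV z = (𝒮L.str.app (op O)).hom (rf hOV A * g ^ d) * el j O e₀ ^ d := by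
  subst hz
  simp only [rz, map_mul, map_pow]
  rw [show (𝒮L.presheaf.map (homOfLE hOV).op).hom ((𝒮L.str.app (op V)).hom A) = _ from rz_str hOV A,
    show (𝒮L.presheaf.map (homOfLE hOV).op).hom (el j V e) = _ from rz_el j hOV e, hg, el_smul, mul_pow]
  ring

include hL hLq hj hP hPL hr hR htop hOn in
theorem compat_local (P₁ P₂ : Piece j u n) {W : X.Opens} (h₁ : W ≤ P₁.V) (h₂ : W ≤ P₂.V) {x : X} (hx : x ∈ W) :
    ∃ (O : X.Opens) (_ : x ∈ O) (hO : O ≤ W) (c₀ : Γ(X, O)),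
      rs ((Scheme.Modules.pullback R).obj On) ((hO.trans h₁).trans (P₁.le_preimage hL hLq hj hP hPL hr hR htop))
          (unitSec R On (P₁.i.sec hOn)) =
        c₀ • rs ((Scheme.Modules.pullback R).obj On) ((hO.trans h₂).trans (P₂.le_preimage hL hLq hj hP hPL hr hR htop))
          (unitSec R On (P₂.i.sec hOn)) ∧
      rs (CohB1.tensorPow L n) (hO.trans h₁) (P₁.c • powSec P₁.e n) =
        c₀ • rs (CohB1.tensorPow L n) (hO.trans h₂) (P₂.c • powSec P₂.e n) := by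
  obtain ⟨r₁, r₂, er, hqx⟩ := exists_basicOpen_le_affine_inter P₁.i.hU P₂.i.hU (q x) ⟨P₁.hVU (h₁ hx), P₂.hVU (h₂ hx)⟩
  obtain ⟨O, hO, hxO, hsub⟩ := exists_isAffineOpen_mem_and_subset (X := X) (x := x)
    (U := W ⊓ q ⁻¹ᵁ Y.basicOpen r₁) ⟨hx, hqx⟩
  have hOW : O ≤ W := fun y hy => (hsub hy).1
  have hO₁' : O ≤ q ⁻¹ᵁ Y.basicOpen r₁ := fun y hy => (hsub hy).2
  have hO₂' : O ≤ q ⁻¹ᵁ Y.basicOpen r₂ := er ▸ hO₁'
  have hO₁ := hOW.trans h₁
  have hO₂ := hOW.trans h₂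
  let e₀ := rs L hO₁ P₁.e
  obtain ⟨g, hg⟩ := exists_coord (P₁.he.res hO₁) (rs L hO₂ P₂.e)
  have hgu : IsUnit g := isUnit_of_isGen_smul (P₁.he.res hO₁) (hg ▸ P₂.he.res hO₂)
  have hτ : IsFrame 𝒮L O hO (el j O e₀) := isFrame_of_gen hLq hj hO (P₁.he.res hO₁)
  let i₁ := P₁.i.res _ (P₁.i.hU.basicOpen r₁) (Y.basicOpen_le r₁)
  let i₂ := P₂.i.res _ (P₂.i.hU.basicOpen r₂) (Y.basicOpen_le r₂)
  let A₁ := rf hO₁ P₁.a
  let B₁ := rf hO₁ (P₁.c * P₁.a ^ P₁.i.k)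
  let A₂ := rf hO₂ P₂.a * g ^ P₂.i.d
  let B₂ := rf hO₂ (P₂.c * P₂.a ^ P₂.i.k) * g ^ P₂.i.e
  have hA₁ : IsUnit A₁ := P₁.ha.map _
  have hB₁ : IsUnit B₁ := (P₁.hc.mul (P₁.ha.pow _)).map _
  have hA₂ : IsUnit A₂ := (P₂.ha.map _).mul (hgu.pow _)
  have hB₂ : IsUnit B₂ := ((P₂.hc.mul (P₂.ha.pow _)).map _).mul (hgu.pow _)
  have hg₁ : rs L hO₁ P₁.e = (1 : Γ(X, O)) • e₀ := (one_smul _ _).symm
  have hs₁ : rz hO₁' ((u.app _).hom i₁.s) = (𝒮L.str.app (op O)).hom A₁ * el j O e₀ ^ i₁.d := by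
    refine (rz_app_res P₁.i.hU _ _ hO₁' (hO₁.trans P₁.hVU) P₁.i.s).trans ?_
    rw [← rz_rz hO₁ P₁.hVU, rz_frame hO₁ hg₁ P₁.hs, one_pow, mul_one]
    rfl
  have ht₁ : rz hO₁' ((u.app _).hom i₁.t) = (𝒮L.str.app (op O)).hom B₁ * el j O e₀ ^ i₁.e := by
    refine (rz_app_res P₁.i.hU _ _ hO₁' (hO₁.trans P₁.hVU) P₁.i.t).trans ?_
    rw [← rz_rz hO₁ P₁.hVU, rz_frame hO₁ hg₁ P₁.ht, one_pow, mul_one]
    rfl
  have hs₂ : ∀ {D : Y.Opens} (hD : IsAffineOpen D) (h : D ≤ P₂.i.U) (hOD : O ≤ q ⁻¹ᵁ D),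
      rz hOD ((u.app D).hom (𝒜.res P₂.i.hU hD h P₂.i.s)) = (𝒮L.str.app (op O)).hom A₂ * el j O e₀ ^ P₂.i.d ∧
      rz hOD ((u.app D).hom (𝒜.res P₂.i.hU hD h P₂.i.t)) = (𝒮L.str.app (op O)).hom B₂ * el j O e₀ ^ P₂.i.e := by
    intro D hD h hOD
    rw [rz_app_res P₂.i.hU hD h hOD (hO₂.trans P₂.hVU), rz_app_res P₂.i.hU hD h hOD (hO₂.trans P₂.hVU),
      ← rz_rz hO₂ P₂.hVU, ← rz_rz hO₂ P₂.hVU, rz_frame hO₂ hg P₂.hs, rz_frame hO₂ hg P₂.ht]
    exact ⟨rfl, rfl⟩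
  have hD₁ : O ≤ R ⁻¹ᵁ i₁.D p chart :=
    le_preimage_D hL hLq hj hP hPL hr hR htop i₁ hO hO₁' hτ hA₁ hB₁ hs₁ ht₁
  have hD₂ : O ≤ R ⁻¹ᵁ i₂.D p chart :=
    le_preimage_D hL hLq hj hP hPL hr hR htop i₂ hO hO₂' hτ hA₂ hB₂ (hs₂ _ _ hO₂').1 (hs₂ _ _ hO₂').2
  obtain ⟨hf, ha, hd, hle, key⟩ := i₁.exists_ratio (p := p) (chart := chart) hOn i₂ er.symm
    (𝒜.res P₂.i.hU (P₁.i.hU.basicOpen r₁) (er ▸ Y.basicOpen_le r₂) P₂.i.t)
    (𝒜.res P₂.i.hU (P₁.i.hU.basicOpen r₁) (er ▸ Y.basicOpen_le r₂) P₂.i.s)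
    (res_heq _ _ _ _ _ er _) (res_heq _ _ _ _ _ er _)
  obtain ⟨γ, hγ, hγ'⟩ := exists_fun (p := p) (chart := chart) hd hf (Away.mk _ hf 1 _ ha)
  let W₀ := i₁.D p chart ⊓ i₂.D p chart
  have hOW₀ : O ≤ R ⁻¹ᵁ W₀ := fun y hy => ⟨hD₁ hy, hD₂ hy⟩
  have hi₁ : W₀ ≤ P₁.i.D p chart := inf_le_left.trans ((P₁.i.res_D hP r₁).trans_le inf_le_left)
  have hi₂ : W₀ ≤ P₂.i.D p chart := inf_le_right.trans ((P₂.i.res_D hP r₂).trans_le inf_le_left)
  have hsec : rs On hi₁ (P₁.i.sec hOn) = rf hle γ • rs On hi₂ (P₂.i.sec hOn) := by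
    rw [P₁.i.rs_sec_res hOn hP r₁ hi₁ inf_le_left, P₂.i.rs_sec_res hOn hP r₂ hi₂ inf_le_right]
    exact key γ hγ' W₀ inf_le_left inf_le_right hle
  let c₀ := R.appLE _ O (hOW₀.trans (R.preimage_mono hle)) γ
  have hαβ : c₀ * (B₂ * A₁ ^ P₁.i.k) = B₁ * A₂ ^ P₂.i.k := by
    have hdeg : i₁.e + i₂.k • i₂.d = i₂.e + i₁.k • i₁.d := by
      have h1 := i₁.hn
      have h2 := i₂.hn
      simp only [smul_eq_mul] at h1 h2 ⊢
      omega
    refine appLE_fun hL hLq hj hP hPL hr hR htop hO hO₁' hτ hd hf ha (hB₂.mul (hA₁.pow _)) ?_ ?_ hγ _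
    · refine (rz_app_mul_pow hO₁' _ _ P₂.i.k).trans ?_
      rw [ht₁, (hs₂ _ _ hO₁').1, mul_pow, ← pow_mul]
      rw [show i₂.e + i₁.k • i₁.d = i₁.e + P₂.i.d * P₂.i.k by rw [← hdeg, smul_eq_mul, mul_comm]; rfl, pow_add]
      simp only [A₂, B₂, map_mul, map_pow, mul_pow, ← pow_mul]
      ring
    · refine (rz_app_mul_pow hO₁' _ _ P₁.i.k).trans ?_
      rw [hs₁, (hs₂ _ _ hO₁').2, mul_pow, ← pow_mul]
      rw [show i₂.e + i₁.k • i₁.d = P₂.i.e + i₁.d * P₁.i.k by rw [smul_eq_mul, mul_comm]; rfl, pow_add]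
      simp only [A₂, B₂, map_mul, map_pow, mul_pow, ← pow_mul]
      ring
  refine ⟨O, hxO, hOW, c₀, ?_, ?_⟩
  · have h1 := congrArg (fun z => rs ((Scheme.Modules.pullback R).obj On) hOW₀ (unitSec R On z)) hsec
    simp only [unitSec_smul, rs_smul, ← unitSec_rs, rs_rs] at h1
    refine h1.trans (congrArg₂ (· • ·) ?_ rfl)
    exact congr($(R.map_appLE _ (homOfLE hle).op) γ)
  · rw [rs_smul, rs_smul, rs_powSec, rs_powSec, hg, powSec_smul, smul_smul, smul_smul]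
    refine congrArg (· • powSec e₀ n) ?_
    have hunit : IsUnit (rf hO₁ P₁.a ^ P₁.i.k * rf hO₂ P₂.a ^ P₂.i.k * g ^ (P₂.i.d * P₂.i.k)) :=
      (((P₁.ha.map _).pow _).mul ((P₂.ha.map _).pow _)).mul (hgu.pow _)
    have he₂ : P₂.i.e = P₂.i.d * P₂.i.k + n := by
      have h2 := P₂.i.hn
      simp only [smul_eq_mul] at h2
      rw [mul_comm]
      omega
    refine hunit.mul_left_inj.1 ?_
    simp only [A₁, B₁, A₂, B₂, he₂, rf, map_mul, map_pow, mul_pow, ← pow_mul, pow_add] at hαβ ⊢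
    linear_combination -hαβ

include hL hLq hj hPL in
theorem exists_piece [QuasiCompact q] (hu : ∀ U : Y.Opens, IsAffineOpen U → Function.Bijective (u.app U).hom)
    (h : RelAmple.IsRelAmple q L) (x : X) : ∃ P₁ : Piece j u n, x ∈ P₁.V := by
  obtain ⟨U, hU, hxU, -⟩ := exists_isAffineOpen_mem_and_subset (X := Y) (U := ⊤) (x := q x) trivial
  haveI := Ample.Pullback.quasiSeparatedSpace_of_isAmple (h.2 ⟨U, hU⟩)
  obtain ⟨d, hd, s, hs, hxs, hG⟩ := exists_locOf_affine hL hLq hj hPL hU (hu U hU) (h.2 ⟨U, hU⟩) hxU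
  have hσ := isHom_app u hU hs
  obtain ⟨V₀, hV₀, e, hxV, hV₀G, he⟩ := exists_gen_nhd hL (x := x) (W := locOf u U d s) hxs
  obtain ⟨g, hgV, hxg⟩ := hG.exists_basicOpen_le ⟨x, hxV⟩ hxs
  have hVG : X.basicOpen g ≤ locOf u U d s := X.basicOpen_le g
  have hτ := isFrame_of_gen hLq hj hV₀ he
  obtain ⟨a, ha⟩ := hτ.surj d _ (hσ V₀ hV₀ (hV₀G.trans (loc_le d _ _)))
  have hau : X.basicOpen g ≤ X.basicOpen a := by
    rw [← loc_inf_frame hL hLq hj hPL hd _ hσ hτ (hV₀G.trans (loc_le d _ _)) ha]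
    exact le_inf hVG hgV
  haveI := QCohInv.isQCoh_of_isInvertible (L := CohB1.tensorPow L n) (isInvertible_iff.2 fun y => by
    obtain ⟨U', e', hy, he'⟩ := isInvertible_iff.1 hL y
    exact ⟨U', _, hy, isGen_powSec he' n⟩)
  obtain ⟨N, m, hm⟩ := (QCoh.Localizing.localizes_of_isAffineOpen (M := CohB1.tensorPow L n) hG g).ext'
    (powSec (rs L hgV e) n)
  have hw : IsHom 𝒮L n (locOf u U d s) (el (powMap j n) _ m) := isHom_of_isLocHom (isLocHom_powMap hL hj n _ m)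
  obtain ⟨k, hk, z, hz, hzw⟩ := exists_extension_deg hL hLq hj hPL hd
    (q.isCompact_preimage hU.isCompact)
    (fun V V' hV hV' => isCompact_inf_of_quasiSeparated V V' hV hV') ((u.app U).hom s) hσ (el (powMap j n) _ m) hw
  obtain ⟨t, ht, htz⟩ := exists_deg_preimage u hU (hu U hU) hz
  have hgu : IsUnit (rf hVG g) := RingedSpace.isUnit_res_basicOpen _ g
  have hau' : IsUnit (rf hgV a) := by
    have h1 : IsUnit (rf (X.basicOpen_le a) a) := RingedSpace.isUnit_res_basicOpen _ a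
    have h2 := h1.map (X.presheaf.map (homOfLE hau).op).hom
    rwa [show (X.presheaf.map (homOfLE hau).op).hom (rf (X.basicOpen_le a) a) = rf hgV a from rf_rf _ _ a] at h2
  refine ⟨⟨⟨U, hU, d, hd, s, hs, k, hk, k * d + n, t, ht, by push_cast [smul_eq_mul]; ring⟩, X.basicOpen g,
    hG.basicOpen g, hVG.trans (loc_le d _ _), rs L hgV e, he.res hgV, rf hgV a, hau', rf hVG g ^ N, hgu.pow N, ?_, ?_⟩,
    hxg⟩
  · change rz _ ((u.app U).hom s) = _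
    rw [← rz_rz hgV (hV₀G.trans (loc_le d _ _)), ha]
    simp only [rz, map_mul, map_pow]
    exact congr_arg₂ (· * · ^ d) (rz_str hgV a) (rz_el j hgV e)
  · change rz _ ((u.app U).hom t) = _
    rw [htz, ← rz_rz hVG (loc_le d _ _)]
    change rz hVG (rz _ z) = _
    rw [hzw]
    simp only [rz, map_mul, map_pow]
    change rz hVG (el (powMap j n) _ m) * rz hVG (rz _ ((u.app U).hom s)) ^ k = _
    rw [rz_rz, ← rz_rz hgV (hV₀G.trans (loc_le d _ _)), ha, rz_el,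
      show rs (CohB1.tensorPow L n) hVG m = rf hVG g ^ N • powSec (rs L hgV e) n from hm, el_smul, powMap_powSec]
    simp only [rz, map_mul, map_pow]
    rw [show (𝒮L.presheaf.map (homOfLE hgV).op).hom ((𝒮L.str.app (op V₀)).hom a) = _ from rz_str hgV a,
      show (𝒮L.presheaf.map (homOfLE hgV).op).hom (el j V₀ e) = _ from rz_el j hgV e, mul_pow, ← pow_mul,
      pow_add, mul_comm d k]
    ring

include hL hLq hj hP hPL hr hR htop hOn in
theorem nonempty_pullback_iso_tensorPow [QuasiCompact q]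
    (hu : ∀ U : Y.Opens, IsAffineOpen U → Function.Bijective (u.app U).hom) (h : RelAmple.IsRelAmple q L) :
    Nonempty ((Scheme.Modules.pullback R).obj On ≅ CohB1.tensorPow L n) := by
  choose J hJ using fun x : X => exists_piece (n := n) hL hLq hj hPL hu h x
  obtain ⟨φ, -⟩ := exists_iso_of_gen (U := fun x => (J x).V)
    (L := (Scheme.Modules.pullback R).obj On) (M := CohB1.tensorPow L n)
    (top_le_iff.1 fun x _ => Opens.mem_iSup.2 ⟨x, hJ x⟩)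
    (fun x => rs _ ((J x).le_preimage hL hLq hj hP hPL hr hR htop) (unitSec R On ((J x).i.sec hOn)))
    (fun x => (isGen_unitSec R ((J x).i.isGen_sec hOn)).res _)
    (fun x => (J x).c • powSec (J x).e n)
    (fun x => IsGen_smul_isUnit (isGen_powSec (J x).he n) (J x).hc)
    fun a b W ha hb c hc => by
      choose O hxO hOW c₀ h1 h2 using fun x : W =>
        compat_local hL hLq hj hP hPL hr hR htop hOn (J a) (J b) ha hb x.2
      refine sections_ext_cover O _ (fun y hy => Opens.mem_iSup.2 ⟨⟨y, hy⟩, hxO ⟨y, hy⟩⟩) fun x => ?_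
      have h3 : rf (hOW x) c = c₀ x := by
        refine ((isGen_unitSec R ((J b).i.isGen_sec hOn)).res
          ((J b).le_preimage hL hLq hj hP hPL hr hR htop) _ ((hOW x).trans hb)).1 ?_
        have h4 := congrArg (rs _ (hOW x)) hc
        simp only [rs_smul, rs_rs] at h4 ⊢
        exact h4.symm.trans (h1 x)
      have h5 : rs (CohB1.tensorPow L n) (hOW x) (rs _ ha ((J a).c • powSec (J a).e n)) =
          rs _ (hOW x) (c • rs _ hb ((J b).c • powSec (J b).e n)) := by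
        rw [rs_smul _ (hOW x) c, rs_rs, rs_rs, h3, h2 x]
      have h6 := congrArg (rs _ (inf_le_right : W ⊓ O x ≤ O x)) h5
      simp only [rs_rs] at h6 ⊢
      exact h6
  exact ⟨φ⟩

end main

end Groth.Agent.Lib.ProjQ
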